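import Groth.Agent.H53.BCCharts

/-! Base-change chart diagrams over given lower charts. -/

set_option autoImplicit false
universe u

open CategoryTheory CategoryTheory.Limits AlgebraicGeometry Opposite
open AlgSp

namespace Groth.Agent.H1.BCChartsOver

variable {S : Scheme.{u}}

/-- Base-change charts over given charts of the targets: for a cartesian square `X' = X ×_Y Y'` of
sheaves with `X`, `Y` algebraic spaces, and surjective étale charts `b : V ⟶ Y`, `b' : V' ⟶ Y'`
compatible via `v : V' ⟶ V`, there are surjective étale charts `a : U ⟶ X`, `a' : U' ⟶ X'` and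
chart diagrams `h : U ⟶ V` of `f`, `h' : U' ⟶ V'` of `f'` with `h'` the base change of `h` along
`v`. -/
theorem exists_baseChange_charts_over {X Y X' Y' : Sp S} (hX : IsAlgSpace X) (hY : IsAlgSpace Y)
    (f : X ⟶ Y) (aY : Y' ⟶ Y) (bX : X' ⟶ X) (f' : X' ⟶ Y')
    (sq : IsPullback bX f' f aY)
    {V V' : Over S} (b : (yon S).obj V ⟶ Y) (b' : (yon S).obj V' ⟶ Y') (v : V' ⟶ V)
    (hbE : RepWith @Etale b) (hbS : RepWith @Surjective b)
    (hb'E : RepWith @Etale b') (hb'S : RepWith @Surjective b')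
    (hvb : b' ≫ aY = (yon S).map v ≫ b) :
    ∃ (U U' : Over S) (a : (yon S).obj U ⟶ X) (a' : (yon S).obj U' ⟶ X')
      (h : U ⟶ V) (h' : U' ⟶ V') (g : U' ⟶ U),
      RepWith @Etale a ∧ RepWith @Surjective a ∧
      RepWith @Etale a' ∧ RepWith @Surjective a' ∧
      a ≫ f = (yon S).map h ≫ b ∧ a' ≫ f' = (yon S).map h' ≫ b' ∧
      a' ≫ bX = (yon S).map g ≫ a ∧
      IsPullback g.left h'.left h.left v.left := by
  have hcompE : MorphismProperty.IsStableUnderComposition (RepWith (S := S) @Etale) := inferInstance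
  -- `X_V = X ×_Y V`
  have sqXV : IsPullback (pullback.fst f b) (pullback.snd f b) f b := IsPullback.of_hasPullback f b
  have hXV : IsAlgSpace (pullback f b) :=
    Groth.Agent.H49.isAlgSpace_of_isPullback sqXV hY.diag hX (IsAlgSpace.yon_obj V)
  have hπ₁E : RepWith @Etale (pullback.fst f b) := MorphismProperty.of_isPullback sqXV.flip hbE
  have hπ₁S : RepWith @Surjective (pullback.fst f b) := MorphismProperty.of_isPullback sqXV.flip hbS
  obtain ⟨U, cU, hcE, hcS⟩ := hXV.atlas
  obtain ⟨h, hh⟩ := (yon S).map_surjective (cU ≫ pullback.snd f b)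
  -- `X'_{V'} = X' ×_{Y'} V'`
  have sqX'V' : IsPullback (pullback.fst f' b') (pullback.snd f' b') f' b' :=
    IsPullback.of_hasPullback _ _
  have hσ₁E : RepWith @Etale (pullback.fst f' b') :=
    MorphismProperty.of_isPullback sqX'V'.flip hb'E
  have hσ₁S : RepWith @Surjective (pullback.fst f' b') :=
    MorphismProperty.of_isPullback sqX'V'.flip hb'S
  -- the big rectangle `X'_{V'} ⟶ X` over `V' ⟶ Y`
  have big : IsPullback (pullback.fst f' b' ≫ bX) (pullback.snd f' b') f ((yon S).map v ≫ b) := by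
    have := sqX'V'.paste_horiz sq
    rwa [hvb] at this
  -- the map `τ : X'_{V'} ⟶ X_V`
  obtain ⟨τ, hτ₁, hτ₂⟩ := sqXV.exists_lift (pullback.fst f' b' ≫ bX)
    (pullback.snd f' b' ≫ (yon S).map v)
    (by rw [big.w, Category.assoc])
  have sqτ : IsPullback τ (pullback.snd f' b') (pullback.snd f b) ((yon S).map v) := by
    refine IsPullback.of_right ?_ hτ₂ sqXV
    rw [hτ₁]
    exact big
  -- the scheme `U' = U ×_V V'`
  obtain ⟨U', g, h', sqU'⟩ := Groth.Agent.H53.exists_pullback_yon ((yon S).map h) ((yon S).map v)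
    (IsAlgSpace.representable_from_yon (IsAlgSpace.yon_obj V) _)
  obtain ⟨p₂, hp₂τ, hp₂σ⟩ := sqτ.exists_lift ((yon S).map g ≫ cU) ((yon S).map h')
    (by rw [Category.assoc, ← hh, sqU'.w])
  have sqp₂ : IsPullback ((yon S).map g) p₂ cU τ := by
    refine IsPullback.of_bot ?_ hp₂τ.symm sqτ
    rw [hp₂σ, ← hh]
    exact sqU'
  have hp₂E : RepWith @Etale p₂ := MorphismProperty.of_isPullback sqp₂ hcE
  have hp₂S : RepWith @Surjective p₂ := MorphismProperty.of_isPullback sqp₂ hcS
  refine ⟨U, U', cU ≫ pullback.fst f b, p₂ ≫ pullback.fst f' b', h, h', g,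
    (RepWith @Etale).comp_mem _ _ hcE hπ₁E,
    (RepWith @Surjective).comp_mem _ _ hcS hπ₁S,
    (RepWith @Etale).comp_mem _ _ hp₂E hσ₁E, (RepWith @Surjective).comp_mem _ _ hp₂S hσ₁S,
    ?_, ?_, ?_, ?_⟩
  · rw [Category.assoc, sqXV.w, ← Category.assoc, hh]
  · rw [Category.assoc, sqX'V'.w, ← Category.assoc, hp₂σ]
  · rw [Category.assoc, ← hτ₁, ← Category.assoc, hp₂τ, Category.assoc]
  · exact (IsPullback.of_map (yon S) (by
      apply (yon S).map_injective
      rw [Functor.map_comp, Functor.map_comp]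
      exact sqU'.w) sqU').map (Over.forget S)

/-- A surjective étale chart diagram of `f` over a given surjective étale chart of the target. -/
theorem exists_chart_over {X Y : Sp S} (hX : IsAlgSpace X) (hY : IsAlgSpace Y)
    (f : X ⟶ Y) {V : Over S} (b : (yon S).obj V ⟶ Y)
    (hbE : RepWith @Etale b) (hbS : RepWith @Surjective b) :
    ∃ (U : Over S) (a : (yon S).obj U ⟶ X) (h : U ⟶ V),
      RepWith @Etale a ∧ RepWith @Surjective a ∧ a ≫ f = (yon S).map h ≫ b := by
  have hcompE : MorphismProperty.IsStableUnderComposition (RepWith (S := S) @Etale) := inferInstance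
  have sqXV : IsPullback (pullback.fst f b) (pullback.snd f b) f b := IsPullback.of_hasPullback f b
  have hXV : IsAlgSpace (pullback f b) :=
    Groth.Agent.H49.isAlgSpace_of_isPullback sqXV hY.diag hX (IsAlgSpace.yon_obj V)
  have hπ₁E : RepWith @Etale (pullback.fst f b) := MorphismProperty.of_isPullback sqXV.flip hbE
  have hπ₁S : RepWith @Surjective (pullback.fst f b) := MorphismProperty.of_isPullback sqXV.flip hbS
  obtain ⟨U, cU, hcE, hcS⟩ := hXV.atlas
  obtain ⟨h, hh⟩ := (yon S).map_surjective (cU ≫ pullback.snd f b)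
  refine ⟨U, cU ≫ pullback.fst f b, h, (RepWith @Etale).comp_mem _ _ hcE hπ₁E,
    (RepWith @Surjective).comp_mem _ _ hcS hπ₁S, ?_⟩
  rw [Category.assoc, sqXV.w, ← Category.assoc, hh]

end Groth.Agent.H1.BCChartsOver
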