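import Groth.Agent.H1.CSACore
import Mathlib.RingTheory.SimpleModule.IsAlgClosed
import Mathlib.FieldTheory.IsAlgClosed.AlgebraicClosure
import Mathlib.LinearAlgebra.Dimension.Constructions
import Mathlib.LinearAlgebra.Dimension.Free
import Mathlib.RingTheory.TensorProduct.Finite

/-!
The dimension of a central simple algebra is a square, via splitting over the algebraic closure.
-/

set_option autoImplicit false

open scoped TensorProduct

namespace Groth.Agent.H1

universe u v w

section dim

variable (k : Type u) [Field k] (A : Type v) [Ring A] [Algebra k A]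
  [Algebra.IsCentral k A] [IsSimpleRing A] [FiniteDimensional k A]

/-- a central simple algebra is split by any algebraically closed extension. -/
theorem exists_algEquiv_matrix_of_isAlgClosed (K : Type w) [Field K] [Algebra k K] [IsAlgClosed K] :
    ∃ (n : ℕ) (_ : NeZero n), Nonempty (K ⊗[k] A ≃ₐ[K] Matrix (Fin n) (Fin n) K) := by
  have : IsSimpleRing (K ⊗[k] A) := isSimpleRing_tensor
  exact IsSimpleRing.exists_algEquiv_matrix_of_isAlgClosed K (K ⊗[k] A)

omit [Algebra.IsCentral k A] [IsSimpleRing A] [FiniteDimensional k A] in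
theorem finrank_eq_sq_of_algEquiv_matrix (K : Type w) [Field K] [Algebra k K] (n : ℕ)
    (e : K ⊗[k] A ≃ₐ[K] Matrix (Fin n) (Fin n) K) : Module.finrank k A = n ^ 2 := by
  have h1 : Module.finrank K (K ⊗[k] A) = Module.finrank k A := Module.finrank_baseChange
  rw [← h1, e.toLinearEquiv.finrank_eq, Module.finrank_matrix]
  simp [sq]

theorem isSquare_finrank : IsSquare (Module.finrank k A) := by
  obtain ⟨n, _, ⟨e⟩⟩ := exists_algEquiv_matrix_of_isAlgClosed k A (AlgebraicClosure k)
  rw [finrank_eq_sq_of_algEquiv_matrix k A (AlgebraicClosure k) n e]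
  exact ⟨n, sq n⟩

end dim

end Groth.Agent.H1
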