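import Groth.Agent.H1.CSACore
import Mathlib.FieldTheory.JacobsonNoether
import Mathlib.FieldTheory.IsSepClosed
import Mathlib.RingTheory.SimpleModule.WedderburnArtin
import Mathlib.Algebra.Central.Matrix
import Mathlib.RingTheory.TensorProduct.Finite
import Mathlib.LinearAlgebra.Dimension.Constructions
import Mathlib.LinearAlgebra.Dimension.Free
import Mathlib.RingTheory.Congruence.Basic
import Mathlib.RingTheory.SimpleRing.Matrix

/-!
Central simple algebras over a separably closed field are matrix algebras; a central simple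
algebra is split by any separably closed extension.
-/

set_option autoImplicit false

open scoped TensorProduct

namespace Groth.Agent.H1

universe u v w

section baseChangeCentral

variable (k : Type u) [Field k] (K : Type v) [Field K] [Algebra k K]
  (A : Type w) [Ring A] [Algebra k A] [Algebra.IsCentral k A]

/-- the base change of a central algebra along a field extension is central. -/
theorem isCentral_baseChange : Algebra.IsCentral K (K ⊗[k] A) := by
  classical
  refine ⟨fun z hz => ?_⟩
  rw [Subalgebra.mem_center_iff] at hz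
  rcases subsingleton_or_nontrivial A with hA | hA
  · have : z = 0 := by
      induction z using TensorProduct.induction_on with
      | zero => rfl
      | tmul x a => rw [Subsingleton.elim a 0, TensorProduct.tmul_zero]
      | add x y hx hy => exact Subsingleton.elim _ _
    rw [this]
    exact Subalgebra.zero_mem _
  let b := Module.Basis.ofVectorSpace k K
  have hrange : ∀ i, coords b z i ∈ Set.range (algebraMap k A) := by
    intro i
    have : coords b z i ∈ Subalgebra.center k A := by
      rw [Subalgebra.mem_center_iff]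
      intro a
      have h := congrArg (fun w => coords b w i) (hz (1 ⊗ₜ[k] a))
      simpa only [coords_one_tmul_mul, coords_mul_one_tmul] using h
    rw [Algebra.IsCentral.center_eq_bot] at this
    exact Algebra.mem_bot.mp this
  obtain ⟨x, hx, -⟩ := exists_eq_tmul_one_of_coords_mem_range b z hrange
  rw [← hx]
  exact ⟨x, by simp [Algebra.TensorProduct.algebraMap_apply]⟩

end baseChangeCentral

section matrixCentral

variable (K : Type u) [Field K] (D : Type v) [Ring D] [Algebra K D] (n : ℕ)

/-- if a matrix algebra of positive size over `D` is central, so is `D`. -/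
theorem isCentral_of_matrix (hn : n ≠ 0) [h : Algebra.IsCentral K (Matrix (Fin n) (Fin n) D)] :
    Algebra.IsCentral K D := by
  classical
  refine ⟨fun z hz => ?_⟩
  rw [Subalgebra.mem_center_iff] at hz
  have h1 : Matrix.scalar (Fin n) z ∈ Subalgebra.center K (Matrix (Fin n) (Fin n) D) := by
    rw [Subalgebra.mem_center_iff]
    intro M
    exact ((Matrix.scalar_commute z (fun r => (hz r).symm) M).eq).symm
  have h2 := h.out h1
  obtain ⟨c, hc⟩ := Algebra.mem_bot.mp h2
  let i₀ : Fin n := ⟨0, Nat.pos_of_ne_zero hn⟩
  have h3 := congrFun (congrFun hc i₀) i₀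
  simp only [Matrix.algebraMap_matrix_apply, if_true, Matrix.scalar_apply,
    Matrix.diagonal_apply_eq] at h3
  exact Algebra.mem_bot.mpr ⟨c, h3⟩

end matrixCentral

section sepClosed

variable (K : Type u) [Field K] [IsSepClosed K] (D : Type v) [DivisionRing D] [Algebra K D]
  [FiniteDimensional K D] [Algebra.IsCentral K D]

/-- a finite-dimensional central division algebra over a separably closed field is trivial. -/
theorem algebraMap_bijective_of_isSepClosed : Function.Bijective (algebraMap K D) := by
  refine ⟨(algebraMap K D).injective, ?_⟩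
  by_contra hsurj
  have hneq : (⊥ : Subalgebra K D) ≠ ⊤ := by
    intro h
    apply hsurj
    intro x
    have : x ∈ (⊥ : Subalgebra K D) := h ▸ Algebra.mem_top
    exact Algebra.mem_bot.mp this
  obtain ⟨x, hx, hsep⟩ := JacobsonNoether.exists_separable_and_not_isCentral' hneq
  apply hx
  have hint : IsIntegral K x := Algebra.IsIntegral.isIntegral x
  have hdeg : (minpoly K x).degree = 1 :=
    IsSepClosed.degree_eq_one_of_irreducible K (minpoly.irreducible hint) hsep
  have := minpoly.degree_eq_one_iff.mp hdeg
  obtain ⟨c, hc⟩ := this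
  exact Algebra.mem_bot.mpr ⟨c, hc⟩

end sepClosed

section split

variable (k : Type u) [Field k] (K : Type v) [Field K] [Algebra k K] [IsSepClosed K]
  (A : Type w) [Ring A] [Algebra k A] [Algebra.IsCentral k A] [IsSimpleRing A]
  [FiniteDimensional k A]

/-- a central simple algebra is split by any separably closed extension. -/
theorem exists_algEquiv_matrix_of_isSepClosed :
    ∃ n : ℕ, n ≠ 0 ∧ Nonempty (K ⊗[k] A ≃ₐ[K] Matrix (Fin n) (Fin n) K) := by
  have hs : IsSimpleRing (K ⊗[k] A) := isSimpleRing_tensor
  have hc : Algebra.IsCentral K (K ⊗[k] A) := isCentral_baseChange k K A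
  have ha : IsArtinianRing (K ⊗[k] A) := IsArtinianRing.of_finite K (K ⊗[k] A)
  obtain ⟨n, hn, D, _, _, _, ⟨e⟩⟩ :=
    IsSimpleRing.exists_algEquiv_matrix_divisionRing_finite K (K ⊗[k] A)
  have hcM : Algebra.IsCentral K (Matrix (Fin n) (Fin n) D) := Algebra.IsCentral.of_algEquiv K _ _ e
  have hcD : Algebra.IsCentral K D := isCentral_of_matrix K D n hn.out
  have hbij := algebraMap_bijective_of_isSepClosed K D
  let f : K ≃ₐ[K] D := AlgEquiv.ofBijective (Algebra.ofId K D) hbij
  exact ⟨n, hn.out, ⟨e.trans (AlgEquiv.mapMatrix f.symm)⟩⟩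

end split

section algEquivCentral

/-- universe-polymorphic transfer of centrality along an algebra isomorphism. -/
theorem isCentral_of_algEquiv {K : Type u} {D : Type v} {D' : Type w} [CommSemiring K]
    [Semiring D] [Semiring D'] [Algebra K D] [Algebra K D'] (e : D ≃ₐ[K] D')
    [h : Algebra.IsCentral K D] : Algebra.IsCentral K D' where
  out z hz := by
    have h1 : e.symm z ∈ Subalgebra.center K D := by
      rw [Subalgebra.mem_center_iff] at hz ⊢
      intro y
      apply e.injective
      rw [map_mul, map_mul, AlgEquiv.apply_symm_apply]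
      exact hz (e y)
    obtain ⟨c, hc⟩ := Algebra.mem_bot.mp (h.out h1)
    refine Algebra.mem_bot.mpr ⟨c, ?_⟩
    apply e.symm.injective
    rw [← hc, AlgEquiv.commutes]

end algEquivCentral

section descent

variable (k : Type u) [Field k] (K : Type v) [Field K] [Algebra k K]
  (A : Type w) [Ring A] [Algebra k A]

theorem one_tmul_injective : Function.Injective (fun a : A => (1 : K) ⊗ₜ[k] a) := by
  classical
  intro a a' h
  let b := Module.Basis.ofVectorSpace k K
  have h1 : b.repr 1 ≠ 0 := by
    intro h0
    exact one_ne_zero (b.repr.map_eq_zero_iff.mp h0)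
  obtain ⟨i, hi⟩ := Finsupp.ne_iff.mp h1
  rw [Finsupp.zero_apply] at hi
  have h2 := congrArg (fun z => coords b z i) h
  simp only [coords_tmul] at h2
  exact smul_right_injective A hi h2

variable {k K A} in
theorem finiteDimensional_of_baseChange [Module.Finite K (K ⊗[k] A)] : FiniteDimensional k A := by
  have h1 : Module.rank K (K ⊗[k] A) < Cardinal.aleph0 := Module.rank_lt_aleph0 K (K ⊗[k] A)
  rw [Module.rank_baseChange, Cardinal.lift_lt_aleph0] at h1
  exact Module.rank_lt_aleph0_iff.mp h1

variable {k K A} in
theorem isCentral_of_baseChange [h : Algebra.IsCentral K (K ⊗[k] A)] : Algebra.IsCentral k A := by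
  classical
  refine ⟨fun a ha => ?_⟩
  have h1 : (1 : K) ⊗ₜ[k] a ∈ Subalgebra.center K (K ⊗[k] A) := by
    rw [Subalgebra.mem_center_iff] at ha ⊢
    intro z
    induction z using TensorProduct.induction_on with
    | zero => simp
    | tmul x a' => simp [Algebra.TensorProduct.tmul_mul_tmul, ha a']
    | add x y hx hy => rw [add_mul, mul_add, hx, hy]
  obtain ⟨x, hx⟩ := Algebra.mem_bot.mp (h.out h1)
  rw [Algebra.TensorProduct.algebraMap_apply, Algebra.algebraMap_self, RingHom.id_apply] at hx
  let b := Module.Basis.ofVectorSpace k K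
  have hb1 : b.repr 1 ≠ 0 := by
    intro h0
    exact one_ne_zero (b.repr.map_eq_zero_iff.mp h0)
  obtain ⟨i, hi⟩ := Finsupp.ne_iff.mp hb1
  rw [Finsupp.zero_apply] at hi
  have h2 := congrArg (fun z => coords b z i) hx
  simp only [coords_tmul] at h2
  refine Algebra.mem_bot.mpr ⟨(b.repr 1 i)⁻¹ * b.repr x i, ?_⟩
  rw [Algebra.algebraMap_eq_smul_one, mul_smul, h2, smul_smul, inv_mul_cancel₀ hi, one_smul]

variable {k K A} in
theorem isSimpleRing_of_baseChange [h : IsSimpleRing (K ⊗[k] A)] : IsSimpleRing A := by
  have hnt : Nontrivial A := by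
    by_contra hA
    rw [not_nontrivial_iff_subsingleton] at hA
    have : Subsingleton (K ⊗[k] A) := by
      refine ⟨fun z z' => ?_⟩
      have h0 : ∀ z : K ⊗[k] A, z = 0 := by
        intro z
        induction z using TensorProduct.induction_on with
        | zero => rfl
        | tmul x a => rw [Subsingleton.elim a 0, TensorProduct.tmul_zero]
        | add x y hx hy => rw [hx, hy, add_zero]
      rw [h0 z, h0 z']
    exact not_subsingleton (K ⊗[k] A) this
  refine IsSimpleRing.of_eq_bot_or_eq_top fun I => ?_
  by_cases hI : I = ⊤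
  · exact Or.inr hI
  left
  -- the quotient `A / I` is nontrivial
  have hnt' : Nontrivial I.ringCon.Quotient := by
    refine ⟨⟨(1 : A), (0 : A), fun h1 => hI ?_⟩⟩
    have h2 : (1 : A) ∈ I := by
      rw [TwoSidedIdeal.mem_iff]
      exact Quotient.exact' h1
    rw [eq_top_iff]
    intro y _
    have := I.mul_mem_left y 1 h2
    rwa [mul_one] at this
  let π : A →ₐ[k] I.ringCon.Quotient := RingCon.mkₐ k I.ringCon
  let F : K ⊗[k] A →ₐ[K] K ⊗[k] I.ringCon.Quotient :=
    Algebra.TensorProduct.map (AlgHom.id K K) π
  have hnt'' : Nontrivial (K ⊗[k] I.ringCon.Quotient) :=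
    ⟨⟨_, _, fun h0 => one_ne_zero (one_tmul_injective k K I.ringCon.Quotient h0)⟩⟩
  have hF : Function.Injective F := RingHom.injective F.toRingHom
  rw [eq_bot_iff]
  intro a ha
  rw [TwoSidedIdeal.mem_bot]
  have h3 : π a = 0 := by
    rw [TwoSidedIdeal.mem_iff] at ha
    exact Quotient.sound' ha
  have h4 : F ((1 : K) ⊗ₜ[k] a) = 0 := by
    simp [F, h3]
  have h5 : (1 : K) ⊗ₜ[k] a = 0 := hF (by rw [h4, map_zero])
  have h6 : (1 : K) ⊗ₜ[k] a = (1 : K) ⊗ₜ[k] (0 : A) := by rw [h5, TensorProduct.tmul_zero]
  exact one_tmul_injective k K A h6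

/-- an algebra which becomes a matrix algebra after a field extension is central simple. -/
theorem csa_of_algEquiv_matrix (n : ℕ) (hn : n ≠ 0)
    (e : K ⊗[k] A ≃ₐ[K] Matrix (Fin n) (Fin n) K) :
    Algebra.IsCentral k A ∧ IsSimpleRing A ∧ FiniteDimensional k A := by
  have : NeZero n := ⟨hn⟩
  have h1 : Algebra.IsCentral K (K ⊗[k] A) := isCentral_of_algEquiv e.symm
  have h2 : IsSimpleRing (K ⊗[k] A) := IsSimpleRing.of_ringEquiv e.symm.toRingEquiv inferInstance
  have h3 : Module.Finite K (K ⊗[k] A) := Module.Finite.equiv e.symm.toLinearEquiv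
  exact ⟨isCentral_of_baseChange (K := K), isSimpleRing_of_baseChange (k := k) (K := K),
    finiteDimensional_of_baseChange (K := K)⟩

end descent

end Groth.Agent.H1
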