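import Groth.Agent.H1.CSABrauer2
import Groth.Agent.H1.CSASepClosed
import Groth.Agent.H1.CSADim
import Groth.Prelude.Def_Curves
import Groth.Prelude.Def_GSzCSA

/-!
A calculus of Brauer equivalence for central simple algebras, heterogeneous in universes.
-/

set_option autoImplicit false

open scoped TensorProduct

namespace Groth.Agent.H1

universe u v w x

section BrEq

variable (k : Type u) [Field k]

/-- Brauer equivalence, for algebras in possibly different universes. -/
def BrEq (A : Type v) (B : Type w) [Ring A] [Ring B] [Algebra k A] [Algebra k B] : Prop :=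
  ∃ n m : ℕ, n ≠ 0 ∧ m ≠ 0 ∧
    Nonempty (Matrix (Fin n) (Fin n) A ≃ₐ[k] Matrix (Fin m) (Fin m) B)

variable {k}
variable {A : Type v} {B : Type w} {C : Type x} [Ring A] [Ring B] [Ring C]
  [Algebra k A] [Algebra k B] [Algebra k C]

/-- `1 × 1` matrices. -/
noncomputable def matrixOneEquiv (k : Type u) [Field k] (A : Type v) [Ring A] [Algebra k A] :
    Matrix (Fin 1) (Fin 1) A ≃ₐ[k] A :=
  AlgEquiv.symm
    { toFun := fun a => Matrix.of fun _ _ => a
      invFun := fun M => M 0 0
      left_inv := fun a => rfl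
      right_inv := fun M => by
        ext i j
        fin_cases i; fin_cases j; rfl
      map_mul' := fun a b => by
        ext i j
        simp [Matrix.mul_apply]
      map_add' := fun a b => by
        ext i j
        simp
      commutes' := fun c => by
        ext i j
        fin_cases i; fin_cases j
        simp [Matrix.algebraMap_matrix_apply] }

theorem BrEq.of_algEquiv (e : A ≃ₐ[k] B) : BrEq k A B :=
  ⟨1, 1, one_ne_zero, one_ne_zero, ⟨AlgEquiv.mapMatrix e⟩⟩

theorem BrEq.refl (A : Type v) [Ring A] [Algebra k A] : BrEq k A A :=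
  BrEq.of_algEquiv AlgEquiv.refl

theorem BrEq.symm (h : BrEq k A B) : BrEq k B A := by
  obtain ⟨n, m, hn, hm, ⟨e⟩⟩ := h
  exact ⟨m, n, hm, hn, ⟨e.symm⟩⟩

theorem BrEq.trans (h₁ : BrEq k A B) (h₂ : BrEq k B C) : BrEq k A C := by
  obtain ⟨n, m, hn, hm, ⟨e₁⟩⟩ := h₁
  obtain ⟨p, q, hp, hq, ⟨e₂⟩⟩ := h₂
  refine ⟨p * n, m * q, Nat.mul_ne_zero hp hn, Nat.mul_ne_zero hm hq, ⟨?_⟩⟩
  exact (matrixMatrixEquiv A p n).symm.trans <| (AlgEquiv.mapMatrix e₁).trans <|
    (matrixMatrixEquiv B p m).trans <|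
    (Matrix.reindexAlgEquiv k B (finCongr (Nat.mul_comm p m))).trans <|
    (matrixMatrixEquiv B m p).symm.trans <| (AlgEquiv.mapMatrix e₂).trans <|
    matrixMatrixEquiv C m q

theorem BrEq.matrix_left (n : ℕ) (hn : n ≠ 0) : BrEq k (Matrix (Fin n) (Fin n) A) A :=
  ⟨1, n, one_ne_zero, hn, ⟨matrixOneEquiv k _⟩⟩

theorem BrEq.matrix_right (n : ℕ) (hn : n ≠ 0) : BrEq k A (Matrix (Fin n) (Fin n) A) :=
  (BrEq.matrix_left n hn).symm

/-- Brauer equivalent simple algebras of the same dimension are isomorphic. -/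
theorem BrEq.nonempty_algEquiv_of_finrank_eq [IsSimpleRing A] [FiniteDimensional k A]
    [IsSimpleRing B] [FiniteDimensional k B] (h : BrEq k A B)
    (hd : Module.finrank k A = Module.finrank k B) : Nonempty (A ≃ₐ[k] B) := by
  obtain ⟨n, m, hn, hm, ⟨e⟩⟩ := h
  have hartA : IsArtinianRing A := IsArtinianRing.of_finite k A
  have hartB : IsArtinianRing B := IsArtinianRing.of_finite k B
  obtain ⟨a, ha, D, _, _, _, ⟨f⟩⟩ := IsSimpleRing.exists_algEquiv_matrix_divisionRing_finite k A
  obtain ⟨b, hb, D', _, _, _, ⟨f'⟩⟩ := IsSimpleRing.exists_algEquiv_matrix_divisionRing_finite k B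
  have ha0 : a ≠ 0 := ha.out
  have hb0 : b ≠ 0 := hb.out
  let g : Matrix (Fin (n * a)) (Fin (n * a)) D ≃ₐ[k] Matrix (Fin (m * b)) (Fin (m * b)) D' :=
    (matrixMatrixEquiv D n a).symm.trans <| (AlgEquiv.mapMatrix f).symm.trans <| e.trans <|
      (AlgEquiv.mapMatrix f').trans (matrixMatrixEquiv D' m b)
  obtain ⟨h⟩ := nonempty_algEquiv_of_matrix_algEquiv k D D' (n * a) (m * b)
    (Nat.mul_ne_zero hn ha0) (Nat.mul_ne_zero hm hb0) g
  have h1 : Module.finrank k A = a * a * Module.finrank k D := by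
    rw [f.toLinearEquiv.finrank_eq, Module.finrank_matrix]; simp
  have h2 : Module.finrank k B = b * b * Module.finrank k D' := by
    rw [f'.toLinearEquiv.finrank_eq, Module.finrank_matrix]; simp
  have h3 : Module.finrank k D = Module.finrank k D' := h.toLinearEquiv.finrank_eq
  have hpos : 0 < Module.finrank k D' := Module.finrank_pos
  have hab : a = b := by
    rw [h1, h2, h3] at hd
    have := Nat.eq_of_mul_eq_mul_right hpos hd
    exact Nat.mul_self_inj.mp this
  subst hab
  exact ⟨f.trans <| (AlgEquiv.mapMatrix h).trans f'.symm⟩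

end BrEq

section tensorCentral

variable (k : Type u) [Field k] (A : Type v) [Ring A] [Algebra k A] [Algebra.IsCentral k A]
  (B : Type w) [Ring B] [Algebra k B] [Algebra.IsCentral k B]

/-- the tensor product of central algebras is central. -/
theorem isCentral_tensor : Algebra.IsCentral k (A ⊗[k] B) := by
  classical
  refine ⟨fun z hz => ?_⟩
  rw [Subalgebra.mem_center_iff] at hz
  rcases subsingleton_or_nontrivial B with hB | hB
  · have : z = 0 := by
      induction z using TensorProduct.induction_on with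
      | zero => rfl
      | tmul x a => rw [Subsingleton.elim a 0, TensorProduct.tmul_zero]
      | add x y hx hy => exact Subsingleton.elim _ _
    rw [this]
    exact Subalgebra.zero_mem _
  let b := Module.Basis.ofVectorSpace k A
  have hrange : ∀ i, coords b z i ∈ Set.range (algebraMap k B) := by
    intro i
    have : coords b z i ∈ Subalgebra.center k B := by
      rw [Subalgebra.mem_center_iff]
      intro a
      have h := congrArg (fun w => coords b w i) (hz (1 ⊗ₜ[k] a))
      simpa only [coords_one_tmul_mul, coords_mul_one_tmul] using h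
    rw [Algebra.IsCentral.center_eq_bot] at this
    exact Algebra.mem_bot.mp this
  obtain ⟨x, hx, -⟩ := exists_eq_tmul_one_of_coords_mem_range b z hrange
  have hxc : x ∈ Subalgebra.center k A := by
    rw [Subalgebra.mem_center_iff]
    intro a
    apply tmul_one_injective (k := k) (A := A) (B := B)
    have h := hz (a ⊗ₜ[k] 1)
    rw [← hx, Algebra.TensorProduct.tmul_mul_tmul, Algebra.TensorProduct.tmul_mul_tmul] at h
    simpa using h
  rw [Algebra.IsCentral.center_eq_bot] at hxc
  obtain ⟨c, hc⟩ := Algebra.mem_bot.mp hxc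
  rw [← hx, ← hc]
  exact ⟨c, by simp [Algebra.TensorProduct.algebraMap_apply]⟩

end tensorCentral

section tensor

variable {k : Type u} [Field k]
variable {A : Type v} {B : Type w} {A' : Type x} {B' : Type*} [Ring A] [Ring B] [Ring A'] [Ring B']
  [Algebra k A] [Algebra k B] [Algebra k A'] [Algebra k B']

/-- `Mₙ(A) ⊗ Mₘ(B) ≃ Mₙₘ(A ⊗ B)`. -/
noncomputable def matrixTensorMatrixEquiv (k : Type u) [Field k] (A : Type v) (B : Type w)
    [Ring A] [Ring B] [Algebra k A] [Algebra k B] (n m : ℕ) :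
    Matrix (Fin n) (Fin n) A ⊗[k] Matrix (Fin m) (Fin m) B ≃ₐ[k]
      Matrix (Fin (n * m)) (Fin (n * m)) (A ⊗[k] B) :=
  (Matrix.kroneckerTMulAlgEquiv (Fin n) (Fin m) k k A B).trans
    (Matrix.reindexAlgEquiv k _ finProdFinEquiv)

theorem BrEq.tensor (h₁ : BrEq k A A') (h₂ : BrEq k B B') :
    BrEq k (A ⊗[k] B) (A' ⊗[k] B') := by
  obtain ⟨n, m, hn, hm, ⟨e₁⟩⟩ := h₁
  obtain ⟨p, q, hp, hq, ⟨e₂⟩⟩ := h₂
  refine ⟨n * p, m * q, Nat.mul_ne_zero hn hp, Nat.mul_ne_zero hm hq, ⟨?_⟩⟩
  exact (matrixTensorMatrixEquiv k A B n p).symm.trans <|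
    (Algebra.TensorProduct.congr e₁ e₂).trans (matrixTensorMatrixEquiv k A' B' m q)

theorem BrEq.tensor_left (C : Type*) [Ring C] [Algebra k C] (h : BrEq k A A') :
    BrEq k (A ⊗[k] C) (A' ⊗[k] C) :=
  BrEq.tensor h (BrEq.refl C)

theorem BrEq.tensor_right (C : Type*) [Ring C] [Algebra k C] (h : BrEq k A A') :
    BrEq k (C ⊗[k] A) (C ⊗[k] A') :=
  BrEq.tensor (BrEq.refl C) h

theorem BrEq.tensor_base_right (h : BrEq k B k) : BrEq k (A ⊗[k] B) A :=
  (BrEq.tensor_right A h).trans (BrEq.of_algEquiv (Algebra.TensorProduct.rid k k A))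

theorem BrEq.tensor_base_left (h : BrEq k B k) : BrEq k (B ⊗[k] A) A :=
  (BrEq.tensor_left A h).trans (BrEq.of_algEquiv (Algebra.TensorProduct.lid k A))

theorem BrEq.matrix_base (n : ℕ) (hn : n ≠ 0) : BrEq k (Matrix (Fin n) (Fin n) k) k :=
  BrEq.matrix_left n hn

end tensor

section mop

variable (k : Type u) [Field k] (A : Type v) [Ring A] [Algebra k A] [Algebra.IsCentral k A]
  [IsSimpleRing A] [FiniteDimensional k A]

theorem brEq_tensor_mop : BrEq k (A ⊗[k] Aᵐᵒᵖ) k := by
  have hpos : Module.finrank k A ≠ 0 := Module.finrank_pos.ne'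
  exact (BrEq.of_algEquiv (tensorMopEquivMatrix k A)).trans (BrEq.matrix_base _ hpos)

end mop

section splits

variable (k : Type u) [Field k] (A : Type v) [Ring A] [Algebra k A]

theorem brEq_base_of_splits (h : Curves.Splits k A k) : BrEq k A k := by
  obtain ⟨n, hn, ⟨e⟩⟩ := h
  exact (BrEq.of_algEquiv ((Algebra.TensorProduct.lid k A).symm.trans e)).trans
    (BrEq.matrix_base n hn)

variable [IsSimpleRing A] [FiniteDimensional k A]

theorem splits_of_brEq_base (h : BrEq k A k) : Curves.Splits k A k := by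
  obtain ⟨n, m, hn, hm, ⟨e⟩⟩ := h
  let e' : Matrix (Fin n) (Fin n) A ≃ₐ[k] Matrix (Fin (m * 1)) (Fin (m * 1)) k :=
    e.trans <| (AlgEquiv.mapMatrix (matrixOneEquiv k k).symm).trans (matrixMatrixEquiv k m 1)
  obtain ⟨r, hr, ⟨f⟩⟩ := split_of_matrix_split k A n (m * 1) hn (by simpa using hm) e'
  exact ⟨r, hr, ⟨(Algebra.TensorProduct.lid k A).trans f⟩⟩

theorem splits_iff_brEq_base : Curves.Splits k A k ↔ BrEq k A k :=
  ⟨brEq_base_of_splits k A, splits_of_brEq_base k A⟩

end splits

end Groth.Agent.H1
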