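import Groth.Agent.H1.CSACentralizer2

/-!
Maximal commutative subalgebras of central division algebras.
-/

set_option autoImplicit false

open scoped TensorProduct

namespace Groth.Agent.H1

universe u v w

section maxcomm

variable {k : Type u} [Field k] {D : Type v} [DivisionRing D] [Algebra k D] [FiniteDimensional k D]

/-- a subalgebra of a finite-dimensional division algebra is a simple ring. -/
theorem isSimpleRing_subalgebra (L : Subalgebra k D) : IsSimpleRing L := by
  let := divisionRingOfFiniteDimensional k L
  infer_instance

/-- a maximal commutative subalgebra is its own centralizer. -/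
theorem centralizer_eq_of_maximal {A : Type v} [Ring A] [Algebra k A]
    (L : Subalgebra k A) (hcomm : ∀ x ∈ L, ∀ y ∈ L, x * y = y * x)
    (hmax : ∀ L' : Subalgebra k A, (∀ x ∈ L', ∀ y ∈ L', x * y = y * x) → L ≤ L' → L' = L) :
    Subalgebra.centralizer k (L : Set A) = L := by
  apply le_antisymm
  · intro x hx
    rw [Subalgebra.mem_centralizer_iff] at hx
    set S : Set A := (L : Set A) ∪ {x} with hS
    have hScomm : ∀ a ∈ S, ∀ b ∈ S, a * b = b * a := by
      rintro a (ha | ha) b (hb | hb)
      · exact hcomm a ha b hb
      · rw [Set.mem_singleton_iff] at hb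
        subst hb
        exact hx a ha
      · rw [Set.mem_singleton_iff] at ha
        subst ha
        exact (hx b hb).symm
      · rw [Set.mem_singleton_iff] at ha hb
        rw [ha, hb]
    set L' := Subalgebra.centralizer k (Subalgebra.centralizer k S : Set A) with hL'
    have hSL' : S ⊆ L' := Set.subset_centralizer_centralizer
    have hL'comm : ∀ a ∈ L', ∀ b ∈ L', a * b = b * a := fun a ha b hb =>
      Set.centralizer_centralizer_comm_of_comm hScomm a ha b hb
    have hLL' : L ≤ L' := fun a ha => hSL' (Or.inl ha)
    have := hmax L' hL'comm hLL'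
    rw [← this]
    exact hSL' (Or.inr rfl)
  · intro x hx
    rw [Subalgebra.mem_centralizer_iff]
    intro g hg
    exact hcomm g hg x hx

theorem finrank_eq_sq_of_maximal [Algebra.IsCentral k D]
    (L : Subalgebra k D) (hcomm : ∀ x ∈ L, ∀ y ∈ L, x * y = y * x)
    (hmax : ∀ L' : Subalgebra k D, (∀ x ∈ L', ∀ y ∈ L', x * y = y * x) → L ≤ L' → L' = L) :
    Module.finrank k D = Module.finrank k L ^ 2 := by
  have := isSimpleRing_subalgebra L
  have h := finrank_mul_finrank_centralizer L
  have hC := centralizer_eq_of_maximal L hcomm hmax
  have h2 : Module.finrank k (Subalgebra.centralizer k (L : Set D)) = Module.finrank k L :=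
    congrArg (fun S : Subalgebra k D => Module.finrank k S) hC
  rw [h, h2, sq]

end maxcomm

end Groth.Agent.H1
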