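import Groth.Agent.H1.CSAMaxComm
import Mathlib.FieldTheory.JacobsonNoether
import Mathlib.RingTheory.AdjoinRoot
import Mathlib.FieldTheory.SeparableDegree
import Mathlib.FieldTheory.SeparableClosure

/-!
Existence of separable maximal commutative subalgebras in central division algebras.
-/

set_option autoImplicit false

open scoped TensorProduct
open Polynomial

namespace Groth.Agent.H1

universe u v w

section adjoinRoot

variable {F : Type u} [Field F]

/-- `AdjoinRoot p` is separable over `F` for a separable irreducible polynomial `p`. -/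
theorem isSeparable_adjoinRoot (p : F[X]) [Fact (Irreducible p)] (hp : p.Separable) :
    Algebra.IsSeparable F (AdjoinRoot p) := by
  rw [← separableClosure.eq_top_iff, eq_top_iff]
  intro y _
  have hy : y ∈ Algebra.adjoin F ({AdjoinRoot.root p} : Set (AdjoinRoot p)) := by
    rw [AdjoinRoot.adjoinRoot_eq_top]
    exact Algebra.mem_top
  have hle : Algebra.adjoin F ({AdjoinRoot.root p} : Set (AdjoinRoot p)) ≤
      (separableClosure F (AdjoinRoot p)).toSubalgebra := by
    rw [Algebra.adjoin_le_iff]
    intro z hz
    rw [Set.mem_singleton_iff] at hz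
    subst hz
    change AdjoinRoot.root p ∈ separableClosure F (AdjoinRoot p)
    rw [mem_separableClosure_iff]
    refine hp.of_dvd (minpoly.dvd F _ ?_)
    rw [AdjoinRoot.aeval_eq, AdjoinRoot.mk_self]
  exact hle hy

end adjoinRoot

section main

theorem exists_sep_max_aux : ∀ (n : ℕ) (F : Type u) [Field F] (D : Type v) [Ring D] [IsDomain D]
    [Algebra F D] [Algebra.IsCentral F D] [FiniteDimensional F D], Module.finrank F D = n →
    ∃ (L : Type u) (_ : Field L) (_ : Algebra F L) (_ : Algebra.IsSeparable F L)
      (ι : L →ₐ[F] D), Subalgebra.centralizer F (Set.range ι) ≤ ι.range := by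
  intro n
  induction n using Nat.strong_induction_on with
  | _ n ih =>
  intro F _ D _ _ _ _ _ hn
  by_cases htriv : (⊥ : Subalgebra F D) = ⊤
  · refine ⟨F, inferInstance, inferInstance, inferInstance, Algebra.ofId F D, ?_⟩
    intro z _
    have : z ∈ (⊥ : Subalgebra F D) := htriv ▸ Algebra.mem_top
    obtain ⟨c, rfl⟩ := Algebra.mem_bot.mp this
    exact ⟨c, rfl⟩
  · obtain ⟨x, hx, hsep⟩ : ∃ x : D, x ∉ (⊥ : Subalgebra F D) ∧ IsSeparable F x := by
      let := divisionRingOfFiniteDimensional F D
      exact JacobsonNoether.exists_separable_and_not_isCentral' htriv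
    have hsimpleD : IsSimpleRing D := by
      let := divisionRingOfFiniteDimensional F D
      infer_instance
    have hint : IsIntegral F x := Algebra.IsIntegral.isIntegral x
    have hirr : Irreducible (minpoly F x) := minpoly.irreducible hint
    have : Fact (Irreducible (minpoly F x)) := ⟨hirr⟩
    let j : AdjoinRoot (minpoly F x) →ₐ[F] D :=
      Ideal.Quotient.liftₐ (Ideal.span {minpoly F x}) (Polynomial.aeval x) (by
        intro a ha
        obtain ⟨q, rfl⟩ := Ideal.mem_span_singleton.mp ha
        rw [map_mul, minpoly.aeval, zero_mul])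
    have hjroot : j (AdjoinRoot.root (minpoly F x)) = x := by
      change Ideal.Quotient.liftₐ _ _ _ (Ideal.Quotient.mk _ X) = x
      rw [Ideal.Quotient.liftₐ_apply, Ideal.Quotient.lift_mk]
      simp
    have hjinj : Function.Injective j := RingHom.injective j.toRingHom
    have hsepF' : Algebra.IsSeparable F (AdjoinRoot (minpoly F x)) :=
      isSeparable_adjoinRoot (minpoly F x) hsep
    -- the centralizer of the image of `j`
    have hjD' : ∀ y, j y ∈ Subalgebra.centralizer F (Set.range j) := by
      intro y
      rw [Subalgebra.mem_centralizer_iff]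
      rintro _ ⟨y', rfl⟩
      rw [← map_mul, ← map_mul, mul_comm]
    let j' : AdjoinRoot (minpoly F x) →+* Subalgebra.centralizer F (Set.range j) :=
      (j.codRestrict (Subalgebra.centralizer F (Set.range j)) hjD').toRingHom
    let : Algebra (AdjoinRoot (minpoly F x)) (Subalgebra.centralizer F (Set.range j)) :=
      RingHom.toAlgebra' j' (fun y z => by
        apply Subtype.ext
        exact ((Subalgebra.mem_centralizer_iff F).mp z.2 (j y) ⟨y, rfl⟩))
    have halg : ∀ y : AdjoinRoot (minpoly F x),
        ((algebraMap (AdjoinRoot (minpoly F x)) (Subalgebra.centralizer F (Set.range j)) y :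
          Subalgebra.centralizer F (Set.range j)) : D) = j y := fun y => rfl
    have : IsScalarTower F (AdjoinRoot (minpoly F x)) (Subalgebra.centralizer F (Set.range j)) :=
      IsScalarTower.of_algebraMap_eq (fun c => by
        apply Subtype.ext
        rw [halg, AlgHom.commutes]
        rfl)
    have : FiniteDimensional (AdjoinRoot (minpoly F x)) (Subalgebra.centralizer F (Set.range j)) :=
      Module.Finite.of_restrictScalars_finite F _ _
    -- centrality over `F'`, by the double centralizer theorem
    have hsimpleB : IsSimpleRing j.range :=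
      IsSimpleRing.of_ringEquiv (AlgEquiv.ofInjective j hjinj).toRingEquiv inferInstance
    have hrange : ((j.range : Subalgebra F D) : Set D) = Set.range j := by
      ext y
      simp
    have hdc : Subalgebra.centralizer F
        (Subalgebra.centralizer F (Set.range j) : Set D) = j.range := by
      have := centralizer_centralizer (k := F) (A := D) j.range
      rwa [hrange] at this
    have : Algebra.IsCentral (AdjoinRoot (minpoly F x))
        (Subalgebra.centralizer F (Set.range j)) := by
      refine ⟨fun z hz => ?_⟩
      rw [Subalgebra.mem_center_iff] at hz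
      have hz1 : (z : D) ∈ Subalgebra.centralizer F
          (Subalgebra.centralizer F (Set.range j) : Set D) := by
        rw [Subalgebra.mem_centralizer_iff]
        intro g hg
        exact congrArg Subtype.val (hz ⟨g, hg⟩)
      rw [hdc] at hz1
      obtain ⟨y, hy⟩ := hz1
      exact Algebra.mem_bot.mpr ⟨y, Subtype.ext hy⟩
    -- the dimension drops
    have hlt : Module.finrank (AdjoinRoot (minpoly F x))
        (Subalgebra.centralizer F (Set.range j)) < n := by
      have h1 := Module.finrank_mul_finrank F (AdjoinRoot (minpoly F x))
        (Subalgebra.centralizer F (Set.range j))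
      have h2 : Module.finrank F (Subalgebra.centralizer F (Set.range j)) ≤ n := by
        rw [← hn]
        exact Submodule.finrank_le (Subalgebra.toSubmodule (Subalgebra.centralizer F (Set.range j)))
      have h3 : 2 ≤ Module.finrank F (AdjoinRoot (minpoly F x)) := by
        have : Module.finrank F (AdjoinRoot (minpoly F x)) = (minpoly F x).natDegree :=
          finrank_quotient_span_eq_natDegree
        rw [this, minpoly.two_le_natDegree_iff hint]
        rintro ⟨c, hc⟩
        exact hx (Algebra.mem_bot.mpr ⟨c, hc⟩)
      have h4 : 0 < n := by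
        rw [← hn]
        exact Module.finrank_pos
      nlinarith
    obtain ⟨L, _, _, _, ι', hι'⟩ := ih _ hlt (AdjoinRoot (minpoly F x))
      (Subalgebra.centralizer F (Set.range j)) rfl
    let : Algebra F L :=
      ((algebraMap (AdjoinRoot (minpoly F x)) L).comp
        (algebraMap F (AdjoinRoot (minpoly F x)))).toAlgebra
    have : IsScalarTower F (AdjoinRoot (minpoly F x)) L :=
      IsScalarTower.of_algebraMap_eq (fun _ => rfl)
    have hsepL : Algebra.IsSeparable F L := Algebra.IsSeparable.trans F (AdjoinRoot (minpoly F x)) L
    let ι : L →ₐ[F] D :=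
      { toRingHom := (Subalgebra.centralizer F (Set.range j)).val.toRingHom.comp ι'.toRingHom
        commutes' := fun c => by
          change ((ι' (algebraMap (AdjoinRoot (minpoly F x)) L
            (algebraMap F (AdjoinRoot (minpoly F x)) c)) :
              Subalgebra.centralizer F (Set.range j)) : D) = algebraMap F D c
          rw [AlgHom.commutes, halg, AlgHom.commutes] }
    have hι : ∀ l, ι l = ((ι' l : Subalgebra.centralizer F (Set.range j)) : D) := fun _ => rfl
    refine ⟨L, inferInstance, inferInstance, hsepL, ι, ?_⟩
    intro z hz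
    rw [Subalgebra.mem_centralizer_iff] at hz
    -- `z` commutes with the image of `j`
    have hzD' : z ∈ Subalgebra.centralizer F (Set.range j) := by
      rw [Subalgebra.mem_centralizer_iff]
      rintro _ ⟨y, rfl⟩
      have h1 := hz (ι (algebraMap (AdjoinRoot (minpoly F x)) L y)) ⟨_, rfl⟩
      rw [hι, AlgHom.commutes, halg] at h1
      exact h1
    have hz' : (⟨z, hzD'⟩ : Subalgebra.centralizer F (Set.range j)) ∈
        Subalgebra.centralizer (AdjoinRoot (minpoly F x)) (Set.range ι') := by
      rw [Subalgebra.mem_centralizer_iff]
      rintro _ ⟨l, rfl⟩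
      apply Subtype.ext
      exact hz (ι l) ⟨l, rfl⟩
    obtain ⟨l, hl⟩ := hι' hz'
    exact ⟨l, congrArg Subtype.val hl⟩

/-- a finite central division algebra contains a separable maximal commutative subalgebra. -/
theorem exists_separable_maximal_comm_subalgebra (k : Type u) [Field k] (D : Type v)
    [DivisionRing D] [Algebra k D] [Algebra.IsCentral k D] [FiniteDimensional k D] :
    ∃ L : Subalgebra k D, (∀ x ∈ L, ∀ y ∈ L, x * y = y * x) ∧
      (∀ L' : Subalgebra k D, (∀ x ∈ L', ∀ y ∈ L', x * y = y * x) → L ≤ L' → L' = L) ∧
      Algebra.IsSeparable k L := by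
  obtain ⟨L₀, _, _, _, ι, hι⟩ := exists_sep_max_aux _ k D rfl
  have hinj : Function.Injective ι := RingHom.injective ι.toRingHom
  refine ⟨ι.range, ?_, ?_, ?_⟩
  · rintro _ ⟨a, rfl⟩ _ ⟨b, rfl⟩
    rw [← map_mul, ← map_mul, mul_comm]
  · intro L' hL' hle
    refine le_antisymm ?_ hle
    intro z hz
    apply hι
    rw [Subalgebra.mem_centralizer_iff]
    rintro _ ⟨a, rfl⟩
    exact hL' _ (hle ⟨a, rfl⟩) _ hz
  · exact AlgEquiv.Algebra.isSeparable (AlgEquiv.ofInjective ι hinj)

end main

end Groth.Agent.H1
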