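import Groth.Agent.H1.CSAUnique
import Groth.Agent.H1.CSADim
import Mathlib.LinearAlgebra.Dimension.Free
import Mathlib.LinearAlgebra.FreeModule.Basic

/-!
The degree of a splitting field of a central division algebra of dimension `d^2` is divisible
by `d`.
-/

set_option autoImplicit false

open scoped TensorProduct

namespace Groth.Agent.H1

universe u v w

section splitdeg

variable (k : Type u) [Field k] (D : Type v) [DivisionRing D] [Algebra k D]
  [FiniteDimensional k D]
  (k' : Type w) [Field k'] [Algebra k k'] [FiniteDimensional k k']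

theorem dvd_finrank_of_splits (d : ℕ) (hd : Module.finrank k D = d ^ 2) (n : ℕ)
    (e : k' ⊗[k] D ≃ₐ[k'] Matrix (Fin n) (Fin n) k') : d ∣ Module.finrank k k' := by
  have hn2 : Module.finrank k D = n ^ 2 := finrank_eq_sq_of_algEquiv_matrix k D k' n e
  have hnd : n = d := by
    apply Nat.pow_left_injective (n := 2) (by norm_num)
    simp only
    rw [← hn2, hd]
  subst hnd
  have hpos : 0 < Module.finrank k D := Module.finrank_pos
  have hn0 : n ≠ 0 := by
    rintro rfl
    simp at hd
    omega
  let ρ : D →ₐ[k] Matrix (Fin n) (Fin n) k' :=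
    (e.restrictScalars k).toAlgHom.comp Algebra.TensorProduct.includeRight
  have h1 : Module.finrank k D * Module.finrank D (PullMod ρ (Fin n → k')) =
      Module.finrank k (PullMod ρ (Fin n → k')) :=
    Module.finrank_mul_finrank k D (PullMod ρ (Fin n → k'))
  have h2 : Module.finrank k (PullMod ρ (Fin n → k')) = n * Module.finrank k k' := by
    have : Module.finrank k (PullMod ρ (Fin n → k')) = Module.finrank k (Fin n → k') := rfl
    rw [this, Module.finrank_pi_fintype]
    simp
  rw [h2, hd, sq, mul_assoc] at h1
  have h3 := Nat.eq_of_mul_eq_mul_left (Nat.pos_of_ne_zero hn0) h1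
  exact ⟨_, h3.symm⟩

end splitdeg

end Groth.Agent.H1
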