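import Groth.Agent.H1.BrTpow
import Groth.Agent.H1.CSASplitDeg
import Groth.Agent.H1.CSASepMax
import Groth.Agent.H1.CSAMaxComm

/-!
The index of a central simple algebra.
-/

set_option autoImplicit false
set_option linter.unusedSectionVars false

open scoped TensorProduct

namespace Groth.Agent.H1

universe u v w x

section wedderburn

variable (k : Type u) [Field k] (A : Type v) [Ring A] [Algebra k A] [Algebra.IsCentral k A]
  [IsSimpleRing A] [FiniteDimensional k A]

/-- Wedderburn, with all the structure on the division algebra. -/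
theorem exists_division_of_csa : ∃ (D : Type v) (_ : DivisionRing D) (_ : Algebra k D)
    (_ : Algebra.IsCentral k D) (_ : FiniteDimensional k D) (m : ℕ), m ≠ 0 ∧
    Nonempty (A ≃ₐ[k] Matrix (Fin m) (Fin m) D) := by
  have hart : IsArtinianRing A := IsArtinianRing.of_finite k A
  obtain ⟨m, hm, D, _, _, _, ⟨f⟩⟩ := IsSimpleRing.exists_algEquiv_matrix_divisionRing_finite k A
  have hc : Algebra.IsCentral k (Matrix (Fin m) (Fin m) D) := isCentral_of_algEquiv f
  have hcD : Algebra.IsCentral k D := isCentral_of_matrix k D m hm.out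
  exact ⟨D, inferInstance, inferInstance, hcD, inferInstance, m, hm.out, ⟨f⟩⟩

theorem exists_isIndex : ∃ d, CSAGal.IsIndex k A d := by
  obtain ⟨D, _, _, _, _, m, hm, ⟨f⟩⟩ := exists_division_of_csa k A
  obtain ⟨r, hr⟩ := isSquare_finrank k D
  have hpos : 0 < Module.finrank k D := Module.finrank_pos
  have hr0 : 0 < r := by
    rcases Nat.eq_zero_or_pos r with h | h
    · rw [h] at hr; omega
    · exact h
  exact ⟨r, hr0, m, D, inferInstance, inferInstance, Nat.pos_of_ne_zero hm, by rw [hr, sq], ⟨f⟩⟩

variable {k A}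

/-- the index can be read off from any Brauer-equivalent division algebra. -/
theorem isIndex_of_brEq_division (D : Type w) [DivisionRing D] [Algebra k D]
    [FiniteDimensional k D] (h : BrEq k A D) (d : ℕ) (hd : Module.finrank k D = d ^ 2) :
    CSAGal.IsIndex k A d := by
  obtain ⟨D₀, _, _, _, _, m, hm, ⟨f⟩⟩ := exists_division_of_csa k A
  have h1 : BrEq k D₀ D := ((BrEq.matrix_right m hm).trans (BrEq.of_algEquiv f.symm)).trans h
  obtain ⟨a, b, ha, hb, ⟨g⟩⟩ := h1
  obtain ⟨e⟩ := nonempty_algEquiv_of_matrix_algEquiv k D₀ D a b ha hb g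
  have hpos : 0 < Module.finrank k D := Module.finrank_pos
  have hd0 : 0 < d := by
    rcases Nat.eq_zero_or_pos d with h | h
    · rw [h] at hd; simp at hd; omega
    · exact h
  exact ⟨hd0, m, D₀, inferInstance, inferInstance, Nat.pos_of_ne_zero hm,
    by rw [e.toLinearEquiv.finrank_eq, hd], ⟨f⟩⟩

omit [IsSimpleRing A] [FiniteDimensional k A] in
theorem IsIndex.exists_division {d : ℕ} (h : CSAGal.IsIndex k A d) :
    ∃ (D : Type v) (_ : DivisionRing D) (_ : Algebra k D) (_ : Algebra.IsCentral k D)
      (_ : FiniteDimensional k D), Module.finrank k D = d ^ 2 ∧ BrEq k A D := by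
  obtain ⟨hd0, m, D, _, _, hm, hd, ⟨f⟩⟩ := h
  have hfin : FiniteDimensional k D := by
    apply Module.finite_of_finrank_pos
    rw [hd]; positivity
  have hc : Algebra.IsCentral k (Matrix (Fin m) (Fin m) D) := isCentral_of_algEquiv f
  have hcD : Algebra.IsCentral k D := isCentral_of_matrix k D m hm.ne'
  exact ⟨D, inferInstance, inferInstance, hcD, hfin, hd,
    (BrEq.of_algEquiv f).trans (BrEq.matrix_left m hm.ne')⟩

/-- two Brauer-equivalent finite-dimensional division algebras have the same dimension. -/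
theorem finrank_eq_of_brEq_division (D : Type w) [DivisionRing D] [Algebra k D]
    [FiniteDimensional k D] (D' : Type x) [DivisionRing D'] [Algebra k D']
    [FiniteDimensional k D'] (h : BrEq k D D') : Module.finrank k D = Module.finrank k D' := by
  obtain ⟨a, b, ha, hb, ⟨g⟩⟩ := h
  obtain ⟨e⟩ := nonempty_algEquiv_of_matrix_algEquiv k D D' a b ha hb g
  exact e.toLinearEquiv.finrank_eq

theorem IsIndex.unique {d d' : ℕ} (h : CSAGal.IsIndex k A d) (h' : CSAGal.IsIndex k A d') :
    d = d' := by
  obtain ⟨D, _, _, _, _, hd, hD⟩ := IsIndex.exists_division h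
  obtain ⟨D', _, _, _, _, hd', hD'⟩ := IsIndex.exists_division h'
  have := finrank_eq_of_brEq_division D D' (hD.symm.trans hD')
  rw [hd, hd'] at this
  exact Nat.pow_left_injective (n := 2) (by norm_num) this

theorem IsIndex.of_brEq {B : Type w} [Ring B] [Algebra k B] [Algebra.IsCentral k B]
    [IsSimpleRing B] [FiniteDimensional k B] {d : ℕ} (h : CSAGal.IsIndex k A d)
    (hAB : BrEq k A B) : CSAGal.IsIndex k B d := by
  obtain ⟨D, _, _, _, _, hd, hD⟩ := IsIndex.exists_division h
  exact isIndex_of_brEq_division D (hAB.symm.trans hD) d hd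

omit [Algebra.IsCentral k A] [IsSimpleRing A] [FiniteDimensional k A] in
/-- the index divides the degree. -/
theorem IsIndex.dvd_of_finrank_eq_sq {d n : ℕ} (h : CSAGal.IsIndex k A d)
    (hn : Module.finrank k A = n ^ 2) : d ∣ n := by
  obtain ⟨hd0, m, D, _, _, hm, hd, ⟨f⟩⟩ := h
  have h1 : Module.finrank k A = m * m * Module.finrank k D := by
    rw [f.toLinearEquiv.finrank_eq, Module.finrank_matrix]; simp
  rw [hn, hd] at h1
  have h2 : n ^ 2 = (m * d) ^ 2 := by rw [h1]; ring
  have h3 : n = m * d := Nat.pow_left_injective (n := 2) (by norm_num) h2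
  exact ⟨m, by rw [h3, mul_comm]⟩

end wedderburn

section splitting

variable {k : Type u} [Field k]

/-- splitting fields only depend on the Brauer class. -/
theorem splits_of_brEq {A : Type v} [Ring A] [Algebra k A] [Algebra.IsCentral k A]
    [IsSimpleRing A] [FiniteDimensional k A] {B : Type w} [Ring B] [Algebra k B]
    [Algebra.IsCentral k B] [IsSimpleRing B] [FiniteDimensional k B]
    (K : Type x) [Field K] [Algebra k K] (h : BrEq k A B) (hs : Curves.Splits k B K) :
    Curves.Splits k A K := by
  obtain ⟨a, b, ha, hb, ⟨e⟩⟩ := h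
  obtain ⟨m, hm, ⟨s⟩⟩ := hs
  have hsA : IsSimpleRing (K ⊗[k] A) := isSimpleRing_tensor
  let g : Matrix (Fin a) (Fin a) (K ⊗[k] A) ≃ₐ[K] Matrix (Fin (b * m)) (Fin (b * m)) K :=
    (baseChangeMatrixEquiv k K A a ha).symm.trans
      ((Algebra.TensorProduct.congr AlgEquiv.refl e).trans
        ((baseChangeMatrixEquiv k K B b hb).trans
          ((AlgEquiv.mapMatrix s).trans (matrixMatrixEquiv K b m))))
  exact split_of_matrix_split K (K ⊗[k] A) a (b * m) ha (Nat.mul_ne_zero hb hm) g

variable {A : Type v} [Ring A] [Algebra k A] [Algebra.IsCentral k A]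
  [IsSimpleRing A] [FiniteDimensional k A]

/-- the index divides the degree of any finite splitting field. -/
theorem IsIndex.dvd_finrank_of_splits {d : ℕ} (h : CSAGal.IsIndex k A d)
    (K : Type x) [Field K] [Algebra k K] [FiniteDimensional k K] (hs : Curves.Splits k A K) :
    d ∣ Module.finrank k K := by
  obtain ⟨D, _, _, _, _, hd, hD⟩ := IsIndex.exists_division h
  obtain ⟨n, hn, ⟨e⟩⟩ := splits_of_brEq K hD.symm hs
  exact Groth.Agent.H1.dvd_finrank_of_splits k D K d hd n e

/-- a central division algebra is split by a separable extension whose degree is its degree. -/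
theorem exists_separable_splitting_of_division (D : Type v) [DivisionRing D] [Algebra k D]
    [Algebra.IsCentral k D] [FiniteDimensional k D] :
    ∃ (L : Type u) (_ : Field L) (_ : Algebra k L), FiniteDimensional k L ∧
      Algebra.IsSeparable k L ∧ Module.finrank k D = Module.finrank k L ^ 2 ∧
      Curves.Splits k D L := by
  obtain ⟨L, _, _, hsep, ι, hι⟩ := exists_sep_max_aux _ k D rfl
  have hinj : Function.Injective ι := RingHom.injective ι.toRingHom
  have hfin : FiniteDimensional k L := Module.Finite.of_injective ι.toLinearMap hinj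
  have hcomm : ∀ x ∈ ι.range, ∀ y ∈ ι.range, x * y = y * x := by
    rintro _ ⟨a, rfl⟩ _ ⟨b, rfl⟩
    rw [← map_mul, ← map_mul, mul_comm]
  have hmax : ∀ L' : Subalgebra k D, (∀ x ∈ L', ∀ y ∈ L', x * y = y * x) → ι.range ≤ L' →
      L' = ι.range := by
    intro L' hL' hle
    refine le_antisymm ?_ hle
    intro z hz
    apply hι
    rw [Subalgebra.mem_centralizer_iff]
    rintro _ ⟨a, rfl⟩
    exact hL' _ (hle ⟨a, rfl⟩) _ hz
  have h1 := finrank_eq_sq_of_maximal ι.range hcomm hmax
  have h2 : Module.finrank k ι.range = Module.finrank k L :=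
    (AlgEquiv.ofInjective ι hinj).toLinearEquiv.finrank_eq.symm
  rw [h2] at h1
  have hm : Module.finrank k L ≠ 0 := Module.finrank_pos.ne'
  exact ⟨L, inferInstance, inferInstance, hfin, hsep, h1, Module.finrank k L, hm,
    splits_of_algHom_of_finrank_eq_sq k L D ι h1⟩

/-- a central simple algebra of index `d` is split by a separable extension of degree `d`. -/
theorem IsIndex.exists_separable_splitting {d : ℕ} (h : CSAGal.IsIndex k A d) :
    ∃ (L : Type u) (_ : Field L) (_ : Algebra k L), FiniteDimensional k L ∧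
      Algebra.IsSeparable k L ∧ Module.finrank k L = d ∧ Curves.Splits k A L := by
  obtain ⟨D, _, _, _, _, hd, hD⟩ := IsIndex.exists_division h
  obtain ⟨L, _, _, hfin, hsep, hdim, hs⟩ := exists_separable_splitting_of_division (k := k) D
  refine ⟨L, inferInstance, inferInstance, hfin, hsep, ?_, splits_of_brEq L hD hs⟩
  rw [hd] at hdim
  exact (Nat.pow_left_injective (n := 2) (by norm_num) hdim).symm

end splitting

section baseChange

/-- transitivity of base change, for noncommutative algebras. -/
noncomputable def cancelBaseChangeEquiv (k : Type u) (K : Type w) (L : Type x) (A : Type v)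
    [Field k] [Field K] [Field L] [Algebra k K] [Algebra K L] [Algebra k L] [IsScalarTower k K L]
    [Ring A] [Algebra k A] : L ⊗[k] A ≃ₐ[L] L ⊗[K] (K ⊗[k] A) :=
  AlgEquiv.ofLinearEquiv (TensorProduct.AlgebraTensorModule.cancelBaseChange k K L L A).symm
    (by simp [Algebra.TensorProduct.one_def])
    (LinearMap.map_mul_of_map_mul_tmul (fun _ _ _ _ => by simp))

variable {k : Type u} [Field k] (K : Type w) [Field K] [Algebra k K]
  {A : Type v} [Ring A] [Algebra k A] [Algebra.IsCentral k A] [IsSimpleRing A]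
  [FiniteDimensional k A]

variable (k A) in
theorem csa_baseChange : Algebra.IsCentral K (K ⊗[k] A) ∧ IsSimpleRing (K ⊗[k] A) ∧
    FiniteDimensional K (K ⊗[k] A) :=
  ⟨isCentral_baseChange k K A, isSimpleRing_tensor, inferInstance⟩

theorem BrEq.baseChange {B : Type x} [Ring B] [Algebra k B] [Algebra.IsCentral k B]
    [IsSimpleRing B] [FiniteDimensional k B] (h : BrEq k A B) :
    BrEq K (K ⊗[k] A) (K ⊗[k] B) := by
  obtain ⟨a, b, ha, hb, ⟨e⟩⟩ := h
  exact ⟨a, b, ha, hb, ⟨(baseChangeMatrixEquiv k K A a ha).symm.trans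
      ((Algebra.TensorProduct.congr AlgEquiv.refl e).trans (baseChangeMatrixEquiv k K B b hb))⟩⟩

/-- the index can only drop under base change, and the new index divides the old one. -/
theorem IsIndex.baseChange_dvd {d d' : ℕ} (h : CSAGal.IsIndex k A d)
    (h' : CSAGal.IsIndex K (K ⊗[k] A) d') : d' ∣ d := by
  obtain ⟨D, _, _, _, _, hd, hD⟩ := IsIndex.exists_division h
  obtain ⟨h1, h2, h3⟩ := csa_baseChange k K A
  obtain ⟨h4, h5, h6⟩ := csa_baseChange k K D
  have h7 : CSAGal.IsIndex K (K ⊗[k] D) d' := IsIndex.of_brEq h' (BrEq.baseChange K hD)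
  apply IsIndex.dvd_of_finrank_eq_sq h7
  rw [Module.finrank_baseChange, hd]

/-- the index drops at most by the degree of the extension. -/
theorem IsIndex.dvd_mul_baseChange [FiniteDimensional k K] {d d' : ℕ}
    (h : CSAGal.IsIndex k A d) (h' : CSAGal.IsIndex K (K ⊗[k] A) d') :
    d ∣ Module.finrank k K * d' := by
  obtain ⟨h1, h2, h3⟩ := csa_baseChange k K A
  obtain ⟨L, _, _, hfin, -, hdim, n, hn, ⟨e⟩⟩ := IsIndex.exists_separable_splitting h'
  let _ : Algebra k L := ((algebraMap K L).comp (algebraMap k K)).toAlgebra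
  have : IsScalarTower k K L := IsScalarTower.of_algebraMap_eq (fun _ => rfl)
  have : FiniteDimensional k L := Module.Finite.trans K L
  have hs : Curves.Splits k A L := ⟨n, hn, ⟨(cancelBaseChangeEquiv k K L A).trans e⟩⟩
  have := IsIndex.dvd_finrank_of_splits h L hs
  rwa [← Module.finrank_mul_finrank k K L, hdim] at this

end baseChange

end Groth.Agent.H1
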