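import Groth.Agent.H1.SimpleArtinian
import Mathlib.LinearAlgebra.Matrix.Action
import Mathlib.Data.Matrix.Basic
import Mathlib.RingTheory.SimpleModule.Basic

/-!
Uniqueness of the division algebra in Wedderburn's theorem.
-/

set_option autoImplicit false

namespace Groth.Agent.H1

universe u v w

section pull

variable {k : Type u} [Field k] {R : Type v} [Ring R] [Algebra k R]
  {R' : Type w} [Ring R'] [Algebra k R']

/-- an `R'`-module regarded as an `R`-module through `e : R → R'`. -/
def PullMod (_e : R →ₐ[k] R') (M : Type*) : Type _ := M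

variable (e : R →ₐ[k] R') (M : Type*) [AddCommGroup M] [Module k M] [Module R' M]
  [IsScalarTower k R' M]

instance : AddCommGroup (PullMod e M) := inferInstanceAs (AddCommGroup M)
instance : Module k (PullMod e M) := inferInstanceAs (Module k M)
instance : Module R (PullMod e M) := Module.compHom M e.toRingHom

/-- the identity map. -/
def toPull : M ≃ₗ[k] PullMod e M := LinearEquiv.refl k M

omit [IsScalarTower k R' M] in
theorem pull_smul_def (r : R) (x : M) : r • toPull e M x = toPull e M (e r • x) := rfl

instance : IsScalarTower k R (PullMod e M) where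
  smul_assoc c r x := by
    obtain ⟨x, rfl⟩ := (toPull e M).surjective x
    rw [pull_smul_def, pull_smul_def, show e (c • r) = c • e r from map_smul e c r, smul_assoc,
      (toPull e M).map_smul]

instance [FiniteDimensional k M] : FiniteDimensional k (PullMod e M) :=
  inferInstanceAs (FiniteDimensional k M)

/-- the identity as a semilinear map. -/
def pullSemilinear : PullMod e M →ₛₗ[e.toRingHom] M where
  toFun x := (toPull e M).symm x
  map_add' _ _ := rfl
  map_smul' _ _ := rfl

omit [IsScalarTower k R' M] in
theorem isSimpleModule_pull (he : Function.Surjective e) [IsSimpleModule R' M] :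
    IsSimpleModule R (PullMod e M) := by
  have : RingHomSurjective e.toRingHom := ⟨he⟩
  exact (LinearMap.isSimpleModule_iff_of_bijective (pullSemilinear e M)
    (toPull e M).symm.bijective).mpr inferInstance

/-- endomorphisms of the pulled back module along a surjection. -/
def endPullEquiv (he : Function.Surjective e) :
    Module.End R (PullMod e M) ≃ₐ[k] Module.End R' M where
  toFun φ :=
    { toFun := fun x => (toPull e M).symm (φ (toPull e M x))
      map_add' := fun x y => by simp
      map_smul' := fun r' x => by
        obtain ⟨r, rfl⟩ := he r'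
        rw [← pull_smul_def, map_smul]
        rfl }
  invFun ψ :=
    { toFun := fun x => toPull e M (ψ ((toPull e M).symm x))
      map_add' := fun x y => by simp
      map_smul' := fun r x => by
        obtain ⟨x, rfl⟩ := (toPull e M).surjective x
        rw [pull_smul_def]
        simp only [LinearEquiv.symm_apply_apply, map_smul, RingHom.id_apply]
        rw [pull_smul_def] }
  left_inv φ := by
    ext x
    simp
  right_inv ψ := by
    ext x
    simp
  map_mul' φ ψ := by
    ext x
    simp
  map_add' φ ψ := by
    ext x
    simp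
  commutes' c := by
    ext x
    simp

end pull

section simpleUnique

variable (k : Type u) [Field k] (R : Type v) [Ring R] [Algebra k R] [IsSimpleRing R]
  [FiniteDimensional k R]
  (V : Type*) [AddCommGroup V] [Module k V] [Module R V] [IsScalarTower k R V]
  (V' : Type*) [AddCommGroup V'] [Module k V'] [Module R V'] [IsScalarTower k R V']

include k in
omit [Module k V] [IsScalarTower k R V] [Module k V'] [IsScalarTower k R V'] in
/-- simple modules over a finite-dimensional simple algebra are isomorphic. -/
theorem nonempty_linearEquiv_of_isSimpleModule [IsSimpleModule R V] [IsSimpleModule R V'] :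
    Nonempty (V ≃ₗ[R] V') := by
  have h1 := isIsotypicOfType_simpleIdeal k R V
  have h2 := isIsotypicOfType_simpleIdeal k R V'
  have : IsSimpleModule R (⊤ : Submodule R V) := IsSimpleModule.congr Submodule.topEquiv
  have : IsSimpleModule R (⊤ : Submodule R V') := IsSimpleModule.congr Submodule.topEquiv
  obtain ⟨e1⟩ := h1 ⊤
  obtain ⟨e2⟩ := h2 ⊤
  exact ⟨Submodule.topEquiv.symm.trans (e1.trans (e2.symm.trans Submodule.topEquiv))⟩

theorem nonempty_end_algEquiv_of_isSimpleModule [IsSimpleModule R V] [IsSimpleModule R V'] :
    Nonempty (Module.End R V ≃ₐ[k] Module.End R V') := by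
  obtain ⟨e⟩ := nonempty_linearEquiv_of_isSimpleModule k R V V'
  exact ⟨e.conjAlgEquiv k⟩

end simpleUnique

section matrix

variable (k : Type u) [Field k] (D : Type v) [DivisionRing D] [Algebra k D] (n : ℕ)

/-- right multiplication by a scalar on column vectors, as an endomorphism over the matrix ring. -/
def rightMulEnd :
    Dᵐᵒᵖ →ₐ[k] Module.End (Matrix (Fin n) (Fin n) D) (Fin n → D) where
  toFun d :=
    { toFun := fun v i => v i * d.unop
      map_add' := fun v w => by
        ext i
        simp [add_mul]
      map_smul' := fun A v => by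
        ext i
        simp [Matrix.mulVec, dotProduct, Finset.sum_mul, mul_assoc] }
  map_one' := by
    ext v i
    simp
  map_mul' d d' := by
    ext v i
    simp [mul_assoc]
  map_zero' := by
    ext v i
    simp
  map_add' d d' := by
    ext v i
    simp [mul_add]
  commutes' c := by
    ext v i
    simp [Algebra.smul_def, Algebra.commutes]

theorem rightMulEnd_apply (d : Dᵐᵒᵖ) (v : Fin n → D) (i : Fin n) :
    rightMulEnd k D n d v i = v i * d.unop := rfl

theorem rightMulEnd_bijective (hn : n ≠ 0) : Function.Bijective (rightMulEnd k D n) := by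
  classical
  let i₀ : Fin n := ⟨0, Nat.pos_of_ne_zero hn⟩
  constructor
  · intro d d' h
    have h1 := congrFun (congrArg (fun φ => φ (Pi.single i₀ (1 : D))) h) i₀
    simp only [rightMulEnd_apply, Pi.single_eq_same, one_mul] at h1
    exact MulOpposite.unop_injective h1
  · intro φ
    refine ⟨MulOpposite.op (φ (Pi.single i₀ 1) i₀), ?_⟩
    ext v i
    rw [rightMulEnd_apply, MulOpposite.unop_op]
    -- `v = A • e₀` where `A` has `v` as its `i₀`-th column
    let A : Matrix (Fin n) (Fin n) D := fun j l => if l = i₀ then v j else 0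
    have hA : A • (Pi.single i₀ (1 : D) : Fin n → D) = v := by
      ext j
      simp [A, Matrix.mulVec, dotProduct, Pi.single_apply]
    rw [← hA, map_smul, hA]
    simp [A, Matrix.mulVec, dotProduct]

theorem isSimpleModule_matrix (hn : n ≠ 0) :
    IsSimpleModule (Matrix (Fin n) (Fin n) D) (Fin n → D) := by
  classical
  let i₀ : Fin n := ⟨0, Nat.pos_of_ne_zero hn⟩
  rw [isSimpleModule_iff_toSpanSingleton_surjective]
  refine ⟨⟨⟨Pi.single i₀ 1, 0, fun h => one_ne_zero (α := D) (by
    simpa using congrFun h i₀)⟩⟩, fun v hv w => ?_⟩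
  obtain ⟨i, hi⟩ : ∃ i, v i ≠ 0 := by
    by_contra hcon
    push Not at hcon
    exact hv (funext hcon)
  refine ⟨fun j l => if l = i then w j * (v i)⁻¹ else 0, ?_⟩
  ext j
  simp [LinearMap.toSpanSingleton_apply, Matrix.mulVec, dotProduct, hi]

end matrix

section unique

variable (k : Type u) [Field k]
  (D : Type v) [DivisionRing D] [Algebra k D] [FiniteDimensional k D]
  (D' : Type w) [DivisionRing D'] [Algebra k D'] [FiniteDimensional k D']

omit [FiniteDimensional k D'] in
theorem nonempty_algEquiv_of_matrix_algEquiv (n m : ℕ) (hn : n ≠ 0) (hm : m ≠ 0)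
    (e : Matrix (Fin n) (Fin n) D ≃ₐ[k] Matrix (Fin m) (Fin m) D') :
    Nonempty (D ≃ₐ[k] D') := by
  have : NeZero n := ⟨hn⟩
  have : NeZero m := ⟨hm⟩
  have h1 := isSimpleModule_matrix D n hn
  have h2 := isSimpleModule_matrix D' m hm
  have h3 : IsSimpleModule (Matrix (Fin n) (Fin n) D) (PullMod e.toAlgHom (Fin m → D')) :=
    isSimpleModule_pull e.toAlgHom (Fin m → D') e.surjective
  obtain ⟨f⟩ := nonempty_end_algEquiv_of_isSimpleModule k (Matrix (Fin n) (Fin n) D)
    (Fin n → D) (PullMod e.toAlgHom (Fin m → D'))
  let g1 : Dᵐᵒᵖ ≃ₐ[k] Module.End (Matrix (Fin n) (Fin n) D) (Fin n → D) :=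
    AlgEquiv.ofBijective (rightMulEnd k D n) (rightMulEnd_bijective k D n hn)
  let g2 : D'ᵐᵒᵖ ≃ₐ[k] Module.End (Matrix (Fin m) (Fin m) D') (Fin m → D') :=
    AlgEquiv.ofBijective (rightMulEnd k D' m) (rightMulEnd_bijective k D' m hm)
  let g3 := endPullEquiv e.toAlgHom (Fin m → D') e.surjective
  exact ⟨AlgEquiv.op.symm (g1.trans (f.trans (g3.trans g2.symm)))⟩

end unique

end Groth.Agent.H1
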