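import Mathlib.RingTheory.SimpleModule.WedderburnArtin
import Mathlib.RingTheory.SimpleModule.Isotypic
import Mathlib.LinearAlgebra.Dimension.Constructions
import Mathlib.LinearAlgebra.Dimension.Free
import Mathlib.LinearAlgebra.FiniteDimensional.Basic
import Mathlib.Algebra.Algebra.Opposite
import Mathlib.LinearAlgebra.Matrix.ToLin

/-!
Modules over a finite-dimensional simple algebra `R` over a field `k`:
* two modules of the same finite `k`-dimension are isomorphic;
* the endomorphism ring of a nonzero finite module `M` is simple, and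
  `dim R * dim End_R(M) = (dim M)^2`.
-/

set_option autoImplicit false

namespace Groth.Agent.H1

universe u v w

section

variable (k : Type u) [Field k] (R : Type v) [Ring R] [Algebra k R] [IsSimpleRing R]
  [FiniteDimensional k R]

include k in
omit [IsSimpleRing R] in
theorem isArtinianRing_of_fd : IsArtinianRing R := IsArtinianRing.of_finite k R

/-- a chosen minimal left ideal of the artinian ring `R`. -/
noncomputable def simpleIdeal : Ideal R :=
  haveI := isArtinianRing_of_fd k R
  (IsAtomic.exists_atom (Ideal R)).choose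

instance simpleIdeal_isSimpleModule : IsSimpleModule R (simpleIdeal k R) := by
  have := isArtinianRing_of_fd k R
  rw [isSimpleModule_iff_isAtom]
  exact (IsAtomic.exists_atom (Ideal R)).choose_spec

theorem isIsotypicOfType_simpleIdeal (M : Type w) [AddCommGroup M] [Module R M] :
    IsIsotypicOfType R M (simpleIdeal k R) := by
  have := isArtinianRing_of_fd k R
  intro m hm
  obtain ⟨I, ⟨e⟩⟩ := IsSemisimpleRing.exists_linearEquiv_ideal_of_isSimpleModule R m
  have : IsSimpleModule R I := IsSimpleModule.congr e.symm
  obtain ⟨e'⟩ := IsSimpleRing.isIsotypic R R (simpleIdeal k R) I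
  exact ⟨e.trans e'⟩

end

section

variable (k : Type u) [Field k] (R : Type v) [Ring R] [Algebra k R] [IsSimpleRing R]
  [FiniteDimensional k R]
  (M : Type w) [AddCommGroup M] [Module k M] [Module R M] [IsScalarTower k R M]
  [FiniteDimensional k M]

instance simpleIdeal_finite : Module.Finite k (simpleIdeal k R) :=
  Module.Finite.of_injective ((simpleIdeal k R).subtype.restrictScalars k)
    (simpleIdeal k R).subtype_injective

theorem exists_linearEquiv_fun :
    ∃ n : ℕ, Nonempty (M ≃ₗ[R] Fin n → simpleIdeal k R) := by
  have := isArtinianRing_of_fd k R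
  have : Module.Finite R M := Module.Finite.of_restrictScalars_finite k R M
  exact (isIsotypicOfType_simpleIdeal k R M).linearEquiv_fun

omit [FiniteDimensional k M] in
theorem finrank_eq_of_linearEquiv_fun (n : ℕ) (e : M ≃ₗ[R] Fin n → simpleIdeal k R) :
    Module.finrank k M = n * Module.finrank k (simpleIdeal k R) := by
  rw [(e.restrictScalars k).finrank_eq, Module.finrank_pi_fintype]
  simp

theorem finrank_simpleIdeal_pos : 0 < Module.finrank k (simpleIdeal k R) := by
  have : Nontrivial (simpleIdeal k R) := IsSimpleModule.nontrivial R _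
  exact Module.finrank_pos

end

section

variable (k : Type u) [Field k] (R : Type v) [Ring R] [Algebra k R] [IsSimpleRing R]
  [FiniteDimensional k R]
  (M : Type w) [AddCommGroup M] [Module k M] [Module R M] [IsScalarTower k R M]
  [FiniteDimensional k M]
  (N : Type w) [AddCommGroup N] [Module k N] [Module R N] [IsScalarTower k R N]
  [FiniteDimensional k N]

/-- modules over a finite-dimensional simple algebra with the same dimension are isomorphic. -/
theorem nonempty_linearEquiv_of_finrank_eq (h : Module.finrank k M = Module.finrank k N) :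
    Nonempty (M ≃ₗ[R] N) := by
  obtain ⟨n, ⟨e⟩⟩ := exists_linearEquiv_fun k R M
  obtain ⟨n', ⟨e'⟩⟩ := exists_linearEquiv_fun k R N
  have h1 := finrank_eq_of_linearEquiv_fun k R M n e
  have h2 := finrank_eq_of_linearEquiv_fun k R N n' e'
  have hpos := finrank_simpleIdeal_pos k R
  have hn : n = n' := by
    apply Nat.eq_of_mul_eq_mul_right hpos
    rw [← h1, ← h2, h]
  subst hn
  exact ⟨e.trans e'.symm⟩

end

section

variable (k : Type u) [Field k] (R : Type v) [Ring R] [Algebra k R] [IsSimpleRing R]
  [FiniteDimensional k R]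
  (M : Type w) [AddCommGroup M] [Module k M] [Module R M] [IsScalarTower k R M]
  [FiniteDimensional k M]

omit [FiniteDimensional k M] in
theorem endAlgEquivMatrix_aux (n : ℕ) (e : M ≃ₗ[R] Fin n → simpleIdeal k R) :
    Nonempty (Module.End R M ≃ₐ[k]
      Matrix (Fin n) (Fin n) (Module.End R (simpleIdeal k R))) :=
  ⟨(e.conjAlgEquiv k).trans (endVecAlgEquivMatrixEnd (Fin n) k R (simpleIdeal k R))⟩

theorem finrank_end_eq (n : ℕ) (e : M ≃ₗ[R] Fin n → simpleIdeal k R) :
    Module.finrank k (Module.End R M) =
      n ^ 2 * Module.finrank k (Module.End R (simpleIdeal k R)) := by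
  obtain ⟨f⟩ := endAlgEquivMatrix_aux k R M n e
  rw [f.toLinearEquiv.finrank_eq, Module.finrank_matrix]
  simp [sq]

include k in
theorem isSimpleRing_end [Nontrivial M] : IsSimpleRing (Module.End R M) := by
  classical
  obtain ⟨n, ⟨e⟩⟩ := exists_linearEquiv_fun k R M
  obtain ⟨f⟩ := endAlgEquivMatrix_aux k R M n e
  have hn : n ≠ 0 := by
    rintro rfl
    exact not_subsingleton M e.toEquiv.subsingleton
  have : Nonempty (Fin n) := ⟨⟨0, Nat.pos_of_ne_zero hn⟩⟩
  exact IsSimpleRing.of_ringEquiv f.symm.toRingEquiv inferInstance

theorem finrank_mul_finrank_end :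
    Module.finrank k R * Module.finrank k (Module.End R M) = Module.finrank k M ^ 2 := by
  obtain ⟨n, ⟨e⟩⟩ := exists_linearEquiv_fun k R M
  obtain ⟨m, ⟨eR⟩⟩ := exists_linearEquiv_fun k R R
  have h1 := finrank_eq_of_linearEquiv_fun k R M n e
  have h2 := finrank_eq_of_linearEquiv_fun k R R m eR
  have h3 := finrank_end_eq k R M n e
  have h4 := finrank_end_eq k R R m eR
  have h5 : Module.finrank k (Module.End R R) = Module.finrank k R := by
    rw [← (AlgEquiv.moduleEndSelf k (A := R)).toLinearEquiv.finrank_eq,
      ← (MulOpposite.opLinearEquiv k (M := R)).finrank_eq]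
  set s := Module.finrank k (simpleIdeal k R)
  set d := Module.finrank k (Module.End R (simpleIdeal k R))
  have hm : m ≠ 0 := by
    rintro rfl
    exact not_subsingleton R eR.toEquiv.subsingleton
  have hs : s = m * d := by
    apply Nat.eq_of_mul_eq_mul_left (Nat.pos_of_ne_zero hm)
    rw [← h2, ← h5, h4]
    ring
  rw [h1, h2, h3, hs]
  ring

end

end Groth.Agent.H1
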