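import Groth.Agent.H1.BrIndex
import Groth.Agent.H1.SimpleArtinian
import Groth.Agent.H1.CSAUnique

/-!
The dimension of a module over a central simple algebra is divisible by degree times index.
-/

set_option autoImplicit false
set_option linter.unusedSectionVars false

open scoped TensorProduct

namespace Groth.Agent.H1

universe u v w

section modDim

variable {k : Type u} [Field k] {R : Type v} [Ring R] [Algebra k R] [Algebra.IsCentral k R]
  [IsSimpleRing R] [FiniteDimensional k R]

/-- the dimension of the simple module of a central simple algebra of degree `N` and index `d`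
is `N * d`. -/
theorem finrank_simpleIdeal_of_isIndex {d N : ℕ} (hI : CSAGal.IsIndex k R d)
    (hN : Module.finrank k R = N ^ 2) : Module.finrank k (simpleIdeal k R) = N * d := by
  obtain ⟨hd0, m, D, _, _, hm, hd, ⟨f⟩⟩ := hI
  have hfin : FiniteDimensional k D := by
    apply Module.finite_of_finrank_pos
    rw [hd]; positivity
  have hm0 : m ≠ 0 := hm.ne'
  have : NeZero m := ⟨hm0⟩
  have h2 := isSimpleModule_matrix D m hm0
  have h3 : IsSimpleModule R (PullMod f.toAlgHom (Fin m → D)) :=
    isSimpleModule_pull f.toAlgHom (Fin m → D) f.surjective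
  obtain ⟨e⟩ := nonempty_linearEquiv_of_isSimpleModule k R (simpleIdeal k R)
    (PullMod f.toAlgHom (Fin m → D))
  have h4 : Module.finrank k (simpleIdeal k R) =
      Module.finrank k (PullMod f.toAlgHom (Fin m → D)) := (e.restrictScalars k).finrank_eq
  have h5 : Module.finrank k (PullMod f.toAlgHom (Fin m → D)) = Module.finrank k (Fin m → D) := rfl
  rw [h4, h5, Module.finrank_pi_fintype]
  simp only [Finset.sum_const, Finset.card_univ, Fintype.card_fin, smul_eq_mul]
  have h1 : Module.finrank k R = m * m * Module.finrank k D := by
    rw [f.toLinearEquiv.finrank_eq, Module.finrank_matrix]; simp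
  rw [hN, hd] at h1
  have h6 : N ^ 2 = (m * d) ^ 2 := by rw [h1]; ring
  have h7 : N = m * d := Nat.pow_left_injective (n := 2) (by norm_num) h6
  rw [hd, h7]; ring

/-- the dimension of a module over a central simple algebra of degree `N` and index `d` is
divisible by `N * d`. -/
theorem IsIndex.mul_dvd_finrank_module {d N : ℕ} (hI : CSAGal.IsIndex k R d)
    (hN : Module.finrank k R = N ^ 2) (M : Type w) [AddCommGroup M] [Module k M] [Module R M]
    [IsScalarTower k R M] [FiniteDimensional k M] : N * d ∣ Module.finrank k M := by
  obtain ⟨t, ⟨e⟩⟩ := exists_linearEquiv_fun k R M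
  rw [finrank_eq_of_linearEquiv_fun k R M t e, finrank_simpleIdeal_of_isIndex hI hN]
  exact Dvd.intro_left t rfl

end modDim

end Groth.Agent.H1
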