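import Groth.Agent.H1.LambdaPower
import Mathlib.Data.Nat.Choose.Lucas
import Mathlib.Data.Int.GCD

/-!
Period and index have the same prime factors.
-/

set_option autoImplicit false
set_option linter.unusedSectionVars false
set_option linter.unusedVariables false

open scoped TensorProduct

namespace Groth.Agent.H1

universe u v w

theorem not_dvd_choose_pow (p : ℕ) [Fact p.Prime] (a m : ℕ) (hm : ¬ p ∣ m) :
    ¬ p ∣ Nat.choose (p ^ a * m) (p ^ a) := by
  induction a with
  | zero => simpa using hm
  | succ a ih =>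
    have h := Choose.choose_mul_mul_modEq_choose_nat (p := p) (a := p ^ a * m) (b := p ^ a)
    have h1 : p ^ (a + 1) * m = p * (p ^ a * m) := by ring
    have h2 : p ^ (a + 1) = p * p ^ a := by ring
    rw [h1, h2]
    intro hdvd
    exact ih ((h.dvd_iff dvd_rfl).mp hdvd)

section

variable {k : Type u} [Field k] {A : Type v} [Ring A] [Algebra k A] [Algebra.IsCentral k A]
  [IsSimpleRing A] [FiniteDimensional k A]

theorem isIndex_one_of_brEq_base (h : BrEq k A k) : CSAGal.IsIndex k A 1 :=
  isIndex_of_brEq_division k h 1 (by simp)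

/-- every prime divisor of the index divides any positive integer killing the class. -/
theorem IsIndex.prime_dvd_of_kills {d e p : ℕ} (hA : CSAGal.IsIndex k A d) (he : 0 < e)
    (hk : Kills k A e) (hp : p.Prime) (hpd : p ∣ d) : p ∣ e := by
  by_contra hpe
  have hd0 : d ≠ 0 := hA.1.ne'
  have : Fact p.Prime := ⟨hp⟩
  obtain ⟨a, m, hm, hdm⟩ := Nat.exists_eq_pow_mul_and_not_dvd hd0 p hp.ne_one
  rcases Nat.lt_or_ge 1 e with he1 | he1
  · have hcop : Nat.Coprime (p ^ a) e :=
      Nat.Coprime.pow_left a ((Nat.Prime.coprime_iff_not_dvd hp).mpr hpe)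
    obtain ⟨t, -, ht⟩ := Nat.exists_mul_mod_eq_one_of_coprime hcop he1
    have hqt : p ^ a * t = e * (p ^ a * t / e) + 1 := by
      have := Nat.div_add_mod (p ^ a * t) e
      rw [ht] at this
      exact this.symm
    have hc := isCentral_tpow k A (p ^ a)
    have hsR := isSimpleRing_tpow k A (p ^ a)
    have hfR := finiteDimensional_tpow k A (p ^ a)
    obtain ⟨d'', hd''⟩ := exists_isIndex k (CSAGal.tpow k A (p ^ a))
    have h1 : d'' ∣ Nat.choose d (p ^ a) := IsIndex.tpow_dvd_choose hA (p ^ a) hd''
    have h2 : BrEq k (CSAGal.tpow k (CSAGal.tpow k A (p ^ a)) t) A := by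
      refine (brEq_tpow_tpow k A (p ^ a) t).trans ?_
      rw [hqt]
      refine (brEq_tpow_add k A _ 1).trans ?_
      refine (BrEq.tensor_base_left (hk.mul_right _)).trans (brEq_tpow_one k A)
    have h3 : d ∣ d'' := IsIndex.dvd_of_brEq_tpow hd'' hA h2
    have h4 : p ∣ Nat.choose d (p ^ a) := hpd.trans (h3.trans h1)
    rw [hdm] at h4
    exact not_dvd_choose_pow p a m hm h4
  · have he' : e = 1 := le_antisymm he1 he
    subst he'
    have h1 : BrEq k A k := (brEq_tpow_one k A).symm.trans hk
    have := IsIndex.unique hA (isIndex_one_of_brEq_base h1)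
    subst this
    exact hp.one_lt.ne' (Nat.dvd_one.mp hpd)

/-- the index divides a power of any positive integer killing the class. -/
theorem IsIndex.dvd_pow_of_kills {d e : ℕ} (hA : CSAGal.IsIndex k A d) (he : 0 < e)
    (hk : Kills k A e) : d ∣ e ^ (d - 1) := by
  have hd0 : d ≠ 0 := hA.1.ne'
  have he0 : e ≠ 0 := he.ne'
  rw [← Nat.factorization_le_iff_dvd hd0 (pow_ne_zero _ he0)]
  intro p
  rw [Nat.factorization_pow]
  simp only [Finsupp.smul_apply, smul_eq_mul]
  by_cases hp : p.Prime
  · by_cases hpd : p ∣ d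
    · have hpe : p ∣ e := IsIndex.prime_dvd_of_kills hA he hk hp hpd
      have h1 : 1 ≤ e.factorization p := (hp.dvd_iff_one_le_factorization he0).mp hpe
      have h2 : d.factorization p < d := Nat.factorization_lt p hd0
      calc d.factorization p ≤ d - 1 := by omega
        _ = (d - 1) * 1 := (mul_one _).symm
        _ ≤ (d - 1) * e.factorization p := Nat.mul_le_mul_left _ h1
    · rw [Nat.factorization_eq_zero_of_not_dvd hpd]
      exact Nat.zero_le _
  · rw [Nat.factorization_eq_zero_of_not_prime d hp]
    exact Nat.zero_le _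

end

end Groth.Agent.H1
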