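import Groth.Agent.H1.BrIndex

/-!
Splitting fields and tensor products / tensor powers.
-/

set_option autoImplicit false
set_option linter.unusedSectionVars false

open scoped TensorProduct

namespace Groth.Agent.H1

universe u v w x y

section distrib

variable (k : Type u) [Field k] (K : Type w) [Field K] [Algebra k K]
  (A : Type v) [Ring A] [Algebra k A] (B : Type x) [Ring B] [Algebra k B]

/-- base change commutes with tensor products (noncommutative algebras). -/
noncomputable def baseChangeTensorEquiv :
    K ⊗[k] (A ⊗[k] B) ≃ₐ[K] (K ⊗[k] A) ⊗[K] (K ⊗[k] B) :=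
  (Algebra.TensorProduct.assoc k k K K A B).symm.trans <|
    (Algebra.TensorProduct.congr (Algebra.TensorProduct.rid K K (K ⊗[k] A))
      (AlgEquiv.refl : B ≃ₐ[k] B)).symm.trans
    (Algebra.TensorProduct.assoc k K K (K ⊗[k] A) K B)

end distrib

section splitsBrEq

variable {k : Type u} [Field k] (K : Type w) [Field K] [Algebra k K]
  (A : Type v) [Ring A] [Algebra k A] [Algebra.IsCentral k A] [IsSimpleRing A]
  [FiniteDimensional k A]

theorem splits_iff_brEq_baseChange : Curves.Splits k A K ↔ BrEq K (K ⊗[k] A) K := by
  obtain ⟨h1, h2, h3⟩ := csa_baseChange k K A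
  constructor
  · rintro ⟨n, hn, ⟨e⟩⟩
    exact (BrEq.of_algEquiv e).trans (BrEq.matrix_base n hn)
  · intro h
    obtain ⟨n, hn, ⟨e⟩⟩ := splits_of_brEq_base K (K ⊗[k] A) h
    exact ⟨n, hn, ⟨(Algebra.TensorProduct.lid K (K ⊗[k] A)).symm.trans e⟩⟩

variable {A} in
theorem Splits.tensor {B : Type x} [Ring B] [Algebra k B] [Algebra.IsCentral k B]
    [IsSimpleRing B] [FiniteDimensional k B] (hA : Curves.Splits k A K)
    (hB : Curves.Splits k B K) : Curves.Splits k (A ⊗[k] B) K := by
  have : Algebra.IsCentral k (A ⊗[k] B) := isCentral_tensor k A B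
  have : IsSimpleRing (A ⊗[k] B) := isSimpleRing_tensor
  rw [splits_iff_brEq_baseChange] at hA hB ⊢
  exact (BrEq.of_algEquiv (baseChangeTensorEquiv k K A B)).trans <|
    (BrEq.tensor hA hB).trans (BrEq.of_algEquiv (Algebra.TensorProduct.lid K K))

variable {A} in
theorem Splits.tpow (hA : Curves.Splits k A K) (n : ℕ) :
    Curves.Splits k (CSAGal.tpow k A n) K := by
  induction n with
  | zero =>
    have := isCentral_tpow k A 0
    have := isSimpleRing_tpow k A 0
    have := finiteDimensional_tpow k A 0
    rw [splits_iff_brEq_baseChange]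
    exact BrEq.of_algEquiv <|
      (Algebra.TensorProduct.congr AlgEquiv.refl (tpowZeroEquiv k A)).trans
        (Algebra.TensorProduct.rid k K K)
  | succ n ih =>
    have := isCentral_tpow k A n
    have := isSimpleRing_tpow k A n
    have := finiteDimensional_tpow k A n
    have := isCentral_tpow k A (n + 1)
    have := isSimpleRing_tpow k A (n + 1)
    have := finiteDimensional_tpow k A (n + 1)
    have h := Splits.tensor K ih hA
    have : Algebra.IsCentral k (CSAGal.tpow k A n ⊗[k] A) := isCentral_tensor k _ _
    have : IsSimpleRing (CSAGal.tpow k A n ⊗[k] A) := isSimpleRing_tensor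
    exact splits_of_brEq K (BrEq.of_algEquiv (tpowSuccEquiv k A n)) h

end splitsBrEq

section indexPower

variable {k : Type u} [Field k]
  {A : Type v} [Ring A] [Algebra k A] [Algebra.IsCentral k A] [IsSimpleRing A]
  [FiniteDimensional k A]
  {B : Type x} [Ring B] [Algebra k B] [Algebra.IsCentral k B] [IsSimpleRing B]
  [FiniteDimensional k B]

/-- the index of a class in the subgroup generated by `A` divides the index of `A`. -/
theorem IsIndex.dvd_of_brEq_tpow {d dB i : ℕ} (hA : CSAGal.IsIndex k A d)
    (hB : CSAGal.IsIndex k B dB) (h : BrEq k (CSAGal.tpow k A i) B) : dB ∣ d := by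
  obtain ⟨L, _, _, hfin, -, hdim, hs⟩ := IsIndex.exists_separable_splitting hA
  have := isCentral_tpow k A i
  have := isSimpleRing_tpow k A i
  have := finiteDimensional_tpow k A i
  have h1 : Curves.Splits k B L := splits_of_brEq L h.symm (Splits.tpow L hs i)
  have := IsIndex.dvd_finrank_of_splits hB L h1
  rwa [hdim] at this

end indexPower

end Groth.Agent.H1
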