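import Groth.Agent.H1.BrCalc
import Mathlib.RingTheory.PiTensorProduct
import Mathlib.LinearAlgebra.PiTensorProduct.Basic

/-!
Tensor powers of algebras: additivity in the exponent as algebra isomorphisms.
-/

set_option autoImplicit false

open scoped TensorProduct

namespace Groth.Agent.H1

universe u v w x

section general

variable {k : Type u} [CommRing k] {ι : Type*} {A : ι → Type*} [∀ i, Ring (A i)]
  [∀ i, Algebra k (A i)] {S : Type*} [Ring S] [Algebra k S]

open PiTensorProduct in
/-- a linear map out of a tensor product of algebras is multiplicative as soon as it is so on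
pure tensors. -/
theorem piTensor_map_mul_of_tprod (f : (⨂[k] i, A i) →ₗ[k] S)
    (h : ∀ x y : Π i, A i, f (tprod k x * tprod k y) = f (tprod k x) * f (tprod k y)) :
    ∀ x y, f (x * y) = f x * f y := by
  intro x y
  induction x using PiTensorProduct.induction_on with
  | smul_tprod r a =>
    induction y using PiTensorProduct.induction_on with
    | smul_tprod s b =>
      rw [smul_mul_assoc, mul_smul_comm, map_smul, map_smul, h, map_smul, map_smul,
        smul_mul_assoc, mul_smul_comm]
    | add y₁ y₂ h₁ h₂ => rw [mul_add, map_add, h₁, h₂, map_add, mul_add]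
  | add x₁ x₂ h₁ h₂ => rw [add_mul, map_add, h₁, h₂, map_add, add_mul]

end general

section equivs

variable (k : Type u) [CommRing k] (A : Type v) [Ring A] [Algebra k A]

open PiTensorProduct

/-- reindexing a tensor power, as an algebra isomorphism. -/
noncomputable def piTensorReindexAlgEquiv {ι : Type*} {ι₂ : Type*} (e : ι ≃ ι₂) :
    (⨂[k] _ : ι, A) ≃ₐ[k] ⨂[k] _ : ι₂, A :=
  AlgEquiv.ofLinearEquiv (PiTensorProduct.reindex k (fun _ => A) e)
    (by rw [PiTensorProduct.one_def, reindex_tprod]; rfl)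
    (piTensor_map_mul_of_tprod _ (by
      intro x y
      simp only [LinearEquiv.coe_coe, tprod_mul_tprod, reindex_tprod]
      rfl))

/-- the empty tensor power is the base ring. -/
noncomputable def piTensorEmptyAlgEquiv (ι : Type*) [IsEmpty ι] :
    (⨂[k] _ : ι, A) ≃ₐ[k] k :=
  AlgEquiv.ofLinearEquiv (PiTensorProduct.isEmptyEquiv (R := k) (s := fun _ : ι => A) ι)
    (by rw [PiTensorProduct.one_def, isEmptyEquiv_apply_tprod])
    (piTensor_map_mul_of_tprod _ (by
      intro x y
      simp only [LinearEquiv.coe_coe, tprod_mul_tprod, isEmptyEquiv_apply_tprod, mul_one]))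

/-- the tensor power over a one-element type is the algebra. -/
noncomputable def piTensorUniqueAlgEquiv (ι : Type*) [Subsingleton ι] (i₀ : ι) :
    (⨂[k] _ : ι, A) ≃ₐ[k] A :=
  AlgEquiv.ofLinearEquiv (PiTensorProduct.subsingletonEquiv (R := k) (s := fun _ : ι => A) i₀)
    (by rw [PiTensorProduct.one_def, subsingletonEquiv_apply_tprod]; rfl)
    (piTensor_map_mul_of_tprod _ (by
      intro x y
      simp only [LinearEquiv.coe_coe, tprod_mul_tprod, subsingletonEquiv_apply_tprod]
      rfl))

/-- the tensor power over a sum type. -/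
noncomputable def piTensorSumAlgEquiv (ι : Type*) (ι₂ : Type*) :
    (⨂[k] _ : ι ⊕ ι₂, A) ≃ₐ[k] (⨂[k] _ : ι, A) ⊗[k] (⨂[k] _ : ι₂, A) :=
  AlgEquiv.ofLinearEquiv (PiTensorProduct.tmulEquiv (ι := ι) (ι₂ := ι₂) k A).symm
    (by
      rw [PiTensorProduct.one_def]
      erw [tmulEquiv_symm_apply]
      rfl)
    (piTensor_map_mul_of_tprod _ (by
      intro x y
      simp only [LinearEquiv.coe_coe, tprod_mul_tprod, tmulEquiv_symm_apply,
        Algebra.TensorProduct.tmul_mul_tmul]
      rfl))

end equivs

section tpow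

variable (k : Type u) [Field k] (A : Type v) [Ring A] [Algebra k A]

noncomputable def tpowZeroEquiv : CSAGal.tpow k A 0 ≃ₐ[k] k :=
  piTensorEmptyAlgEquiv k A (Fin 0)

noncomputable def tpowOneEquiv : CSAGal.tpow k A 1 ≃ₐ[k] A :=
  piTensorUniqueAlgEquiv k A (Fin 1) 0

noncomputable def tpowAddEquiv (m n : ℕ) :
    CSAGal.tpow k A (m + n) ≃ₐ[k] CSAGal.tpow k A m ⊗[k] CSAGal.tpow k A n :=
  (piTensorReindexAlgEquiv k A finSumFinEquiv.symm).trans (piTensorSumAlgEquiv k A (Fin m) (Fin n))

noncomputable def tpowSuccEquiv (n : ℕ) :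
    CSAGal.tpow k A (n + 1) ≃ₐ[k] CSAGal.tpow k A n ⊗[k] A :=
  (tpowAddEquiv k A n 1).trans (Algebra.TensorProduct.congr AlgEquiv.refl (tpowOneEquiv k A))

noncomputable def tpowCastEquiv {m n : ℕ} (h : m = n) :
    CSAGal.tpow k A m ≃ₐ[k] CSAGal.tpow k A n :=
  piTensorReindexAlgEquiv k A (finCongr h)

variable [Algebra.IsCentral k A] [IsSimpleRing A] [FiniteDimensional k A]

theorem csa_tpow (n : ℕ) : Algebra.IsCentral k (CSAGal.tpow k A n) ∧
    IsSimpleRing (CSAGal.tpow k A n) ∧ FiniteDimensional k (CSAGal.tpow k A n) := by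
  induction n with
  | zero =>
    let e := tpowZeroEquiv k A
    exact ⟨isCentral_of_algEquiv e.symm, IsSimpleRing.of_ringEquiv e.symm.toRingEquiv inferInstance,
      Module.Finite.equiv e.symm.toLinearEquiv⟩
  | succ n ih =>
    obtain ⟨h1, h2, h3⟩ := ih
    let e := tpowSuccEquiv k A n
    have h4 : Algebra.IsCentral k (CSAGal.tpow k A n ⊗[k] A) := isCentral_tensor k _ _
    have h5 : IsSimpleRing (CSAGal.tpow k A n ⊗[k] A) := isSimpleRing_tensor
    exact ⟨isCentral_of_algEquiv e.symm, IsSimpleRing.of_ringEquiv e.symm.toRingEquiv h5,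
      Module.Finite.equiv e.symm.toLinearEquiv⟩

theorem isCentral_tpow (n : ℕ) : Algebra.IsCentral k (CSAGal.tpow k A n) := (csa_tpow k A n).1
theorem isSimpleRing_tpow (n : ℕ) : IsSimpleRing (CSAGal.tpow k A n) := (csa_tpow k A n).2.1
theorem finiteDimensional_tpow (n : ℕ) : FiniteDimensional k (CSAGal.tpow k A n) :=
  (csa_tpow k A n).2.2

theorem finrank_tpow (n : ℕ) :
    Module.finrank k (CSAGal.tpow k A n) = Module.finrank k A ^ n := by
  induction n with
  | zero =>
    rw [(tpowZeroEquiv k A).toLinearEquiv.finrank_eq, Module.finrank_self, pow_zero]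
  | succ n ih =>
    have := finiteDimensional_tpow k A n
    rw [(tpowSuccEquiv k A n).toLinearEquiv.finrank_eq, Module.finrank_tensorProduct, ih, pow_succ]

end tpow

section tpowBrEq

variable {k : Type u} [Field k] {A : Type v} [Ring A] [Algebra k A]
  {B : Type w} [Ring B] [Algebra k B]

theorem BrEq.tpow (h : BrEq k A B) (n : ℕ) : BrEq k (CSAGal.tpow k A n) (CSAGal.tpow k B n) := by
  induction n with
  | zero =>
    exact (BrEq.of_algEquiv (tpowZeroEquiv k A)).trans (BrEq.of_algEquiv (tpowZeroEquiv k B).symm)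
  | succ n ih =>
    exact (BrEq.of_algEquiv (tpowSuccEquiv k A n)).trans <|
      (BrEq.tensor ih h).trans (BrEq.of_algEquiv (tpowSuccEquiv k B n).symm)

variable (k A)

theorem brEq_tpow_zero : BrEq k (CSAGal.tpow k A 0) k := BrEq.of_algEquiv (tpowZeroEquiv k A)

theorem brEq_tpow_one : BrEq k (CSAGal.tpow k A 1) A := BrEq.of_algEquiv (tpowOneEquiv k A)

theorem brEq_tpow_add (m n : ℕ) :
    BrEq k (CSAGal.tpow k A (m + n)) (CSAGal.tpow k A m ⊗[k] CSAGal.tpow k A n) :=
  BrEq.of_algEquiv (tpowAddEquiv k A m n)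

theorem brEq_tpow_tpow (r s : ℕ) :
    BrEq k (CSAGal.tpow k (CSAGal.tpow k A r) s) (CSAGal.tpow k A (r * s)) := by
  induction s with
  | zero =>
    exact (brEq_tpow_zero k _).trans (brEq_tpow_zero k A).symm
  | succ s ih =>
    refine (BrEq.of_algEquiv (tpowSuccEquiv k _ s)).trans ?_
    refine (BrEq.tensor_left _ ih).trans ?_
    refine (brEq_tpow_add k A (r * s) r).symm.trans ?_
    exact BrEq.of_algEquiv (tpowCastEquiv k A (Nat.mul_succ r s).symm)

/-- the tensor power of a matrix algebra over the base field is split. -/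
theorem brEq_tpow_of_brEq_base (h : BrEq k A k) (n : ℕ) : BrEq k (CSAGal.tpow k A n) k := by
  induction n with
  | zero => exact brEq_tpow_zero k A
  | succ n ih =>
    exact (BrEq.of_algEquiv (tpowSuccEquiv k A n)).trans <|
      (BrEq.tensor_base_right h).trans ih

end tpowBrEq

section order

variable (k : Type u) [Field k] (A : Type v) [Ring A] [Algebra k A]

/-- `n` kills the class of `A`. -/
def Kills (n : ℕ) : Prop := BrEq k (CSAGal.tpow k A n) k

theorem kills_zero : Kills k A 0 := brEq_tpow_zero k A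

variable {k A}

theorem Kills.add {m n : ℕ} (hm : Kills k A m) (hn : Kills k A n) : Kills k A (m + n) :=
  (brEq_tpow_add k A m n).trans ((BrEq.tensor_base_right hn).trans hm)

theorem Kills.of_add {m n : ℕ} (h : Kills k A (m + n)) (hn : Kills k A n) : Kills k A m :=
  ((BrEq.tensor_base_right hn).symm.trans (brEq_tpow_add k A m n).symm).trans h

theorem Kills.mul_right {m : ℕ} (hm : Kills k A m) (c : ℕ) : Kills k A (m * c) := by
  induction c with
  | zero => exact kills_zero k A
  | succ c ih => exact ih.add hm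

theorem Kills.gcd {m n : ℕ} (hm : Kills k A m) (hn : Kills k A n) : Kills k A (Nat.gcd m n) := by
  induction m, n using Nat.gcd.induction with
  | H0 n => simpa using hn
  | H1 m n hpos ih =>
    rw [Nat.gcd_rec]
    apply ih _ hm
    have h1 : n % m + m * (n / m) = n := Nat.mod_add_div n m
    have h2 : Kills k A (n % m + m * (n / m)) := by rw [h1]; exact hn
    exact h2.of_add (hm.mul_right _)

end order

section period

variable (k : Type u) [Field k] (A : Type v) [Ring A] [Algebra k A]
  [Algebra.IsCentral k A] [IsSimpleRing A] [FiniteDimensional k A]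

theorem kills_iff_splits (n : ℕ) : Kills k A n ↔ Curves.Splits k (CSAGal.tpow k A n) k := by
  have := isSimpleRing_tpow k A n
  have := finiteDimensional_tpow k A n
  exact (splits_iff_brEq_base k (CSAGal.tpow k A n)).symm

variable {k A}

theorem kills_iff_dvd_of_isPeriod {p : ℕ} (hp : CSAGal.IsPeriod k A p) (n : ℕ) :
    Kills k A n ↔ p ∣ n := by
  obtain ⟨hp0, hsp, hmin⟩ := hp
  have hkp : Kills k A p := (kills_iff_splits k A p).mpr hsp
  constructor
  · intro hn
    have hg : Kills k A (Nat.gcd p n) := hkp.gcd hn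
    have hgpos : 0 < Nat.gcd p n := Nat.gcd_pos_of_pos_left n hp0
    have hgle : Nat.gcd p n ≤ p := Nat.gcd_le_left n hp0
    rcases Nat.lt_or_eq_of_le hgle with hlt | heq
    · exact absurd ((kills_iff_splits k A _).mp hg) (hmin _ hgpos hlt)
    · rw [← heq]; exact Nat.gcd_dvd_right p n
  · rintro ⟨c, rfl⟩
    exact hkp.mul_right c

theorem isPeriod_of_kills_iff_dvd {p : ℕ} (hp0 : 0 < p) (h : ∀ n, Kills k A n ↔ p ∣ n) :
    CSAGal.IsPeriod k A p := by
  refine ⟨hp0, (kills_iff_splits k A p).mp ((h p).mpr dvd_rfl), ?_⟩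
  intro e' he' hlt hs
  have := (h e').mp ((kills_iff_splits k A e').mpr hs)
  exact absurd (Nat.le_of_dvd he' this) (not_le.mpr hlt)

/-- every class killed by a positive integer has a period. -/
theorem exists_isPeriod_of_kills {n : ℕ} (hn0 : 0 < n) (hn : Kills k A n) :
    ∃ p, CSAGal.IsPeriod k A p ∧ p ∣ n := by
  classical
  have hex : ∃ m, 0 < m ∧ Kills k A m := ⟨n, hn0, hn⟩
  let p := Nat.find hex
  have hp : 0 < p ∧ Kills k A p := Nat.find_spec hex
  have hmin : ∀ m, m < p → ¬ (0 < m ∧ Kills k A m) := fun m hm => Nat.find_min hex hm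
  have hper : CSAGal.IsPeriod k A p :=
    ⟨hp.1, (kills_iff_splits k A p).mp hp.2, fun e' he' hlt hs =>
      hmin e' hlt ⟨he', (kills_iff_splits k A e').mpr hs⟩⟩
  exact ⟨p, hper, (kills_iff_dvd_of_isPeriod hper n).mp hn⟩

omit [Algebra.IsCentral k A] [IsSimpleRing A] [FiniteDimensional k A] in
theorem kills_tpow_iff (r s : ℕ) : Kills k (CSAGal.tpow k A r) s ↔ Kills k A (r * s) := by
  constructor
  · intro h
    exact (brEq_tpow_tpow k A r s).symm.trans h
  · intro h
    exact (brEq_tpow_tpow k A r s).trans h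

end period

end Groth.Agent.H1
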