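import Groth.Agent.H1.CSASepClosed
import Groth.Agent.H1.CSADim
import Mathlib.FieldTheory.IntermediateField.Adjoin.Basic
import Mathlib.FieldTheory.Normal.Closure
import Mathlib.FieldTheory.Galois.Basic
import Mathlib.LinearAlgebra.FiniteDimensional.Lemmas

/-!
Descent of a splitting of a central simple algebra to a finite subextension.
-/

set_option autoImplicit false

open scoped TensorProduct

namespace Groth.Agent.H1

universe u v w

section descend

variable (k : Type u) [Field k] (A : Type v) [Ring A] [Algebra k A]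
  [Algebra.IsCentral k A] [IsSimpleRing A] [FiniteDimensional k A]

/-- a `k`-algebra map from a central simple algebra of dimension `n^2` into `n × n` matrices
over an extension field `F` induces a splitting over `F`. -/
theorem nonempty_algEquiv_matrix_of_algHom (F : Type w) [Field F] [Algebra k F] (n : ℕ)
    (hn : n ≠ 0) (hdim : Module.finrank k A = n ^ 2) (ψ : A →ₐ[k] Matrix (Fin n) (Fin n) F) :
    Nonempty (F ⊗[k] A ≃ₐ[F] Matrix (Fin n) (Fin n) F) := by
  have : NeZero n := ⟨hn⟩
  let φ : F ⊗[k] A →ₐ[F] Matrix (Fin n) (Fin n) F :=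
    Algebra.TensorProduct.lift (Algebra.ofId F _) ψ (fun x a => Algebra.commute_algebraMap_left x _)
  have hs : IsSimpleRing (F ⊗[k] A) := isSimpleRing_tensor
  have hinj : Function.Injective φ := RingHom.injective φ.toRingHom
  have hd : Module.finrank F (F ⊗[k] A) = Module.finrank F (Matrix (Fin n) (Fin n) F) := by
    rw [Module.finrank_baseChange, hdim, Module.finrank_matrix]
    simp [sq]
  have hsurj : Function.Surjective φ :=
    (LinearMap.injective_iff_surjective_of_finrank_eq_finrank (f := φ.toLinearMap) hd).mp hinj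
  exact ⟨AlgEquiv.ofBijective φ ⟨hinj, hsurj⟩⟩

variable (K : Type w) [Field K] [Algebra k K]

omit [Algebra.IsCentral k A] [IsSimpleRing A] [FiniteDimensional k A] in
/-- restrict a matrix representation over `K` to an intermediate field containing all entries. -/
theorem exists_algHom_matrix_intermediateField (n : ℕ) (ψ : A →ₐ[k] Matrix (Fin n) (Fin n) K)
    (F : IntermediateField k K) (hF : ∀ a j l, ψ a j l ∈ F) :
    Nonempty (A →ₐ[k] Matrix (Fin n) (Fin n) F) := by
  let μ : Matrix (Fin n) (Fin n) F →ₐ[k] Matrix (Fin n) (Fin n) K :=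
    (IsScalarTower.toAlgHom k F K).mapMatrix
  have hμ : Function.Injective μ := by
    intro M N h
    ext j l
    exact congrFun (congrFun h j) l
  have hrange : ∀ a, ψ a ∈ μ.range := by
    intro a
    refine ⟨fun j l => ⟨ψ a j l, hF a j l⟩, ?_⟩
    ext j l
    rfl
  exact ⟨(AlgEquiv.ofInjective μ hμ).symm.toAlgHom.comp (ψ.codRestrict μ.range hrange)⟩

variable [Algebra.IsAlgebraic k K]

theorem exists_finite_splitting (n : ℕ) (hn : n ≠ 0)
    (e : K ⊗[k] A ≃ₐ[K] Matrix (Fin n) (Fin n) K) :
    ∃ F₀ : IntermediateField k K, FiniteDimensional k F₀ ∧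
      ∀ F : IntermediateField k K, F₀ ≤ F →
        Nonempty (F ⊗[k] A ≃ₐ[F] Matrix (Fin n) (Fin n) F) := by
  classical
  have hdim : Module.finrank k A = n ^ 2 := finrank_eq_sq_of_algEquiv_matrix k A K n e
  let ψ : A →ₐ[k] Matrix (Fin n) (Fin n) K :=
    (e.restrictScalars k).toAlgHom.comp Algebra.TensorProduct.includeRight
  let b := Module.finBasis k A
  let S : Set K := Set.range fun p : Fin (Module.finrank k A) × Fin n × Fin n =>
    ψ (b p.1) p.2.1 p.2.2
  have hSfin : Finite S := Set.finite_range _
  refine ⟨IntermediateField.adjoin k S,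
    IntermediateField.finiteDimensional_adjoin fun x _ => Algebra.IsIntegral.isIntegral x,
    fun F hF => ?_⟩
  have hent : ∀ a j l, ψ a j l ∈ F := by
    intro a j l
    rw [← b.sum_repr a, map_sum, Matrix.sum_apply]
    refine sum_mem fun i _ => ?_
    rw [map_smul, Matrix.smul_apply]
    have h1 : ψ (b i) j l ∈ F := hF (IntermediateField.subset_adjoin k S ⟨(i, j, l), rfl⟩)
    rw [Algebra.smul_def]
    exact F.mul_mem (F.algebraMap_mem _) h1
  obtain ⟨ψF⟩ := exists_algHom_matrix_intermediateField k A K n ψ F hent
  exact nonempty_algEquiv_matrix_of_algHom k A F n hn hdim ψF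

end descend

section final

variable (k : Type u) [Field k] (A : Type v) [Ring A] [Algebra k A]
  [Algebra.IsCentral k A] [IsSimpleRing A] [FiniteDimensional k A]

/-- a central simple algebra is split by a finite separable extension. -/
theorem exists_finite_separable_splitting :
    ∃ (k' : Type u) (_ : Field k') (_ : Algebra k k'), FiniteDimensional k k' ∧
      Algebra.IsSeparable k k' ∧
      ∃ n : ℕ, n ≠ 0 ∧ Nonempty (k' ⊗[k] A ≃ₐ[k'] Matrix (Fin n) (Fin n) k') := by
  obtain ⟨n, hn, ⟨e⟩⟩ := exists_algEquiv_matrix_of_isSepClosed k (SeparableClosure k) A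
  obtain ⟨F₀, hfin, hF⟩ := exists_finite_splitting k A (SeparableClosure k) n hn e
  exact ⟨F₀, inferInstance, inferInstance, hfin, inferInstance, n, hn, hF F₀ le_rfl⟩

/-- a central simple algebra is split by a finite Galois extension. -/
theorem exists_finite_galois_splitting :
    ∃ (k' : Type u) (_ : Field k') (_ : Algebra k k'), FiniteDimensional k k' ∧
      IsGalois k k' ∧
      ∃ n : ℕ, n ≠ 0 ∧ Nonempty (k' ⊗[k] A ≃ₐ[k'] Matrix (Fin n) (Fin n) k') := by
  obtain ⟨n, hn, ⟨e⟩⟩ := exists_algEquiv_matrix_of_isSepClosed k (SeparableClosure k) A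
  obtain ⟨F₀, hfin, hF⟩ := exists_finite_splitting k A (SeparableClosure k) n hn e
  let F := IntermediateField.normalClosure k F₀ (SeparableClosure k)
  have hnorm : Normal k F := normalClosure.normal k F₀ (SeparableClosure k)
  have hsep : Algebra.IsSeparable k F := inferInstance
  have hgal : IsGalois k F := ⟨⟩
  exact ⟨F, inferInstance, inferInstance, inferInstance, hgal, n, hn,
    hF F (IntermediateField.le_normalClosure F₀)⟩

end final

end Groth.Agent.H1
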