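import Groth.Agent.H1.CSAUnique
import Groth.Agent.H1.CSAFiniteSplit
import Mathlib.RingTheory.MatrixAlgebra
import Mathlib.Data.Matrix.Composition
import Mathlib.LinearAlgebra.Matrix.Reindex
import Mathlib.Algebra.BrauerGroup.Defs

/-!
Splitting fields and Brauer equivalence.
-/

set_option autoImplicit false

open scoped TensorProduct

namespace Groth.Agent.H1

universe u v w

section generalities

variable {K : Type u} [Field K]

/-- an algebra map out of a finite-dimensional simple algebra into a nontrivial algebra of the same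
dimension is bijective. -/
theorem bijective_of_isSimpleRing_of_finrank_eq {R : Type v} {S : Type w} [Ring R] [Ring S]
    [Algebra K R] [Algebra K S] [IsSimpleRing R] [Nontrivial S] [FiniteDimensional K R]
    [FiniteDimensional K S] (φ : R →ₐ[K] S) (h : Module.finrank K R = Module.finrank K S) :
    Function.Bijective φ := by
  have hinj : Function.Injective φ := RingHom.injective φ.toRingHom
  exact ⟨hinj, (LinearMap.injective_iff_surjective_of_finrank_eq_finrank
    (f := φ.toLinearMap) h).mp hinj⟩

/-- matrices over matrices are matrices. -/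
noncomputable def matrixMatrixEquiv (R : Type v) [Ring R] [Algebra K R] (a b : ℕ) :
    Matrix (Fin a) (Fin a) (Matrix (Fin b) (Fin b) R) ≃ₐ[K] Matrix (Fin (a * b)) (Fin (a * b)) R :=
  (Matrix.compAlgEquiv (Fin a) (Fin b) R K).trans (Matrix.reindexAlgEquiv K R finProdFinEquiv)

end generalities

section lemmaA

variable (K : Type u) [Field K] (R : Type v) [Ring R] [Algebra K R] [IsSimpleRing R]
  [FiniteDimensional K R]

/-- if a matrix algebra over the simple algebra `R` is split, so is `R`. -/
theorem split_of_matrix_split (a N : ℕ) (ha : a ≠ 0) (hN : N ≠ 0)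
    (e : Matrix (Fin a) (Fin a) R ≃ₐ[K] Matrix (Fin N) (Fin N) K) :
    ∃ r : ℕ, r ≠ 0 ∧ Nonempty (R ≃ₐ[K] Matrix (Fin r) (Fin r) K) := by
  have hart : IsArtinianRing R := IsArtinianRing.of_finite K R
  obtain ⟨r, hr, D, _, _, _, ⟨f⟩⟩ := IsSimpleRing.exists_algEquiv_matrix_divisionRing_finite K R
  have hr0 : r ≠ 0 := hr.out
  let g : Matrix (Fin (a * r)) (Fin (a * r)) D ≃ₐ[K] Matrix (Fin N) (Fin N) K :=
    (matrixMatrixEquiv D a r).symm.trans ((AlgEquiv.mapMatrix f).symm.trans e)
  obtain ⟨h⟩ := nonempty_algEquiv_of_matrix_algEquiv K D K (a * r) N (Nat.mul_ne_zero ha hr0) hN g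
  exact ⟨r, hr0, ⟨f.trans (AlgEquiv.mapMatrix h)⟩⟩

end lemmaA

section baseChangeMatrix

variable (k : Type u) [Field k] (k' : Type v) [Field k'] [Algebra k k']
  (A : Type w) [Ring A] [Algebra k A] [Algebra.IsCentral k A] [IsSimpleRing A]
  [FiniteDimensional k A]

/-- the comparison map `k' ⊗ Mₐ(A) → Mₐ(k' ⊗ A)`. -/
noncomputable def baseChangeMatrixHom (a : ℕ) :
    k' ⊗[k] Matrix (Fin a) (Fin a) A →ₐ[k'] Matrix (Fin a) (Fin a) (k' ⊗[k] A) :=
  Algebra.TensorProduct.lift (Algebra.ofId k' _)
    (Algebra.TensorProduct.includeRight : A →ₐ[k] k' ⊗[k] A).mapMatrix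
    (fun x _ => Algebra.commute_algebraMap_left x _)

theorem baseChangeMatrixHom_bijective (a : ℕ) (ha : a ≠ 0) :
    Function.Bijective (baseChangeMatrixHom k k' A a) := by
  have : NeZero a := ⟨ha⟩
  have hs : IsSimpleRing (k' ⊗[k] Matrix (Fin a) (Fin a) A) := isSimpleRing_tensor
  have : Nontrivial (k' ⊗[k] A) :=
    ⟨⟨_, _, fun h0 => one_ne_zero (one_tmul_injective k k' A h0)⟩⟩
  apply bijective_of_isSimpleRing_of_finrank_eq
  rw [Module.finrank_baseChange, Module.finrank_matrix, Module.finrank_matrix,
    Module.finrank_baseChange]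

/-- `k' ⊗ Mₐ(A) ≃ Mₐ(k' ⊗ A)`. -/
noncomputable def baseChangeMatrixEquiv (a : ℕ) (ha : a ≠ 0) :
    k' ⊗[k] Matrix (Fin a) (Fin a) A ≃ₐ[k'] Matrix (Fin a) (Fin a) (k' ⊗[k] A) :=
  AlgEquiv.ofBijective _ (baseChangeMatrixHom_bijective k k' A a ha)

end baseChangeMatrix

section lemmaB

variable (k : Type u) [Field k] (k' : Type v) [Field k'] [Algebra k k']
  (A : Type w) [Ring A] [Algebra k A] [Algebra.IsCentral k A] [IsSimpleRing A]
  [FiniteDimensional k A]
  (B : Type w) [Ring B] [Algebra k B] [Algebra.IsCentral k B] [IsSimpleRing B]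
  [FiniteDimensional k B]

/-- splitting fields only depend on the Brauer class. -/
theorem splits_of_matrix_algEquiv (a b : ℕ) (ha : a ≠ 0) (hb : b ≠ 0)
    (e : Matrix (Fin a) (Fin a) A ≃ₐ[k] Matrix (Fin b) (Fin b) B) (m : ℕ) (hm : m ≠ 0)
    (s : k' ⊗[k] B ≃ₐ[k'] Matrix (Fin m) (Fin m) k') :
    ∃ r : ℕ, r ≠ 0 ∧ Nonempty (k' ⊗[k] A ≃ₐ[k'] Matrix (Fin r) (Fin r) k') := by
  have hs : IsSimpleRing (k' ⊗[k] A) := isSimpleRing_tensor
  let g : Matrix (Fin a) (Fin a) (k' ⊗[k] A) ≃ₐ[k'] Matrix (Fin (b * m)) (Fin (b * m)) k' :=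
    (baseChangeMatrixEquiv k k' A a ha).symm.trans
      ((Algebra.TensorProduct.congr AlgEquiv.refl e).trans
        ((baseChangeMatrixEquiv k k' B b hb).trans
          ((AlgEquiv.mapMatrix s).trans (matrixMatrixEquiv k' b m))))
  exact split_of_matrix_split k' (k' ⊗[k] A) a (b * m) ha (Nat.mul_ne_zero hb hm) g

end lemmaB

section rightMod

variable {k : Type u} [Field k] {k' : Type v} [Field k'] [Algebra k k']
  {B : Type w} [Ring B] [Algebra k B]

/-- `B` as a `k'`-vector space through right multiplication by the image of `f : k' → B`. -/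
def RightMod (_f : k' →ₐ[k] B) : Type w := B

variable (f : k' →ₐ[k] B)

instance : AddCommGroup (RightMod f) := inferInstanceAs (AddCommGroup B)
instance : Module k (RightMod f) := inferInstanceAs (Module k B)

theorem commute_map_map (x y : k') : Commute (f x) (f y) := by
  rw [Commute, SemiconjBy, ← map_mul, ← map_mul, mul_comm]

instance : Module k' (RightMod f) :=
  Module.compHom B (f.toRingHom.toOpposite (commute_map_map f))

/-- the identity map. -/
def toRightMod : B ≃ₗ[k] RightMod f := LinearEquiv.refl k B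

theorem rightMod_smul_def (x : k') (b : B) : x • toRightMod f b = toRightMod f (b * f x) := rfl

instance : IsScalarTower k k' (RightMod f) where
  smul_assoc c x v := by
    obtain ⟨b, rfl⟩ := (toRightMod f).surjective v
    rw [rightMod_smul_def, rightMod_smul_def, map_smul, mul_smul_comm, map_smul]

instance [FiniteDimensional k B] : FiniteDimensional k (RightMod f) :=
  inferInstanceAs (FiniteDimensional k B)

/-- left multiplication, as `k'`-linear endomorphisms of `RightMod f`. -/
def leftMulEnd : B →ₐ[k] Module.End k' (RightMod f) where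
  toFun b :=
    { toFun := fun v => toRightMod f (b * (toRightMod f).symm v)
      map_add' := fun v w => by simp [mul_add]
      map_smul' := fun x v => by
        obtain ⟨c, rfl⟩ := (toRightMod f).surjective v
        simp only [rightMod_smul_def, LinearEquiv.symm_apply_apply, RingHom.id_apply, mul_assoc] }
  map_one' := by
    ext v
    simp
  map_mul' b b' := by
    ext v
    simp [mul_assoc]
  map_zero' := by
    ext v
    simp
  map_add' b b' := by
    ext v
    simp [add_mul]
  commutes' c := by
    ext v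
    obtain ⟨b, rfl⟩ := (toRightMod f).surjective v
    simp only [Module.algebraMap_end_apply, LinearMap.coe_mk, AddHom.coe_mk,
      LinearEquiv.symm_apply_apply]
    rw [← Algebra.smul_def, map_smul]

end rightMod

section step1

variable (k : Type u) [Field k] (k' : Type v) [Field k'] [Algebra k k'] [FiniteDimensional k k']
  (B : Type w) [Ring B] [Algebra k B] [Algebra.IsCentral k B] [IsSimpleRing B]
  [FiniteDimensional k B]

/-- a central simple algebra of dimension `[k':k]^2` containing `k'` is split by `k'`. -/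
theorem splits_of_algHom_of_finrank_eq_sq (f : k' →ₐ[k] B)
    (h : Module.finrank k B = Module.finrank k k' ^ 2) :
    Nonempty (k' ⊗[k] B ≃ₐ[k'] Matrix (Fin (Module.finrank k k')) (Fin (Module.finrank k k')) k') := by
  have hm : Module.finrank k k' ≠ 0 := Module.finrank_pos.ne'
  have : FiniteDimensional k' (RightMod f) := Module.Finite.of_restrictScalars_finite k k' _
  have h1 := Module.finrank_mul_finrank k k' (RightMod f)
  have h2 : Module.finrank k (RightMod f) = Module.finrank k B := rfl
  have h3 : Module.finrank k' (RightMod f) = Module.finrank k k' := by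
    apply Nat.eq_of_mul_eq_mul_left (Nat.pos_of_ne_zero hm)
    rw [h1, h2, h, sq]
  let b := Module.finBasisOfFinrankEq k' (RightMod f) h3
  let ψ : B →ₐ[k] Matrix (Fin (Module.finrank k k')) (Fin (Module.finrank k k')) k' :=
    ((algEquivMatrix b).restrictScalars k).toAlgHom.comp (leftMulEnd f)
  exact nonempty_algEquiv_matrix_of_algHom k B k' _ hm h ψ

end step1

end Groth.Agent.H1
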