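import Groth.Agent.H1.CSACentralizer
import Mathlib.LinearAlgebra.FiniteDimensional.Basic
import Mathlib.LinearAlgebra.FiniteDimensional.Lemmas

/-!
Centralizer theorems for central simple algebras.
-/

set_option autoImplicit false

open scoped TensorProduct

namespace Groth.Agent.H1

universe u v w

section endo

variable {k : Type u} [Field k] {A : Type v} [Ring A] [Algebra k A]
  {B : Type w} [Ring B] [Algebra k B] (f : B →ₐ[k] A)

theorem comm_of_mem_centralizer (c : Subalgebra.centralizer k (Set.range f)) (b : B) :
    (c : A) * f b = f b * c :=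
  ((Subalgebra.mem_centralizer_iff k).mp c.2 (f b) ⟨b, rfl⟩).symm

/-- the centralizer of the image of `f` acts on `TwistMod f` by left multiplication. -/
noncomputable def centToEnd :
    Subalgebra.centralizer k (Set.range f) →ₐ[k] Module.End (B ⊗[k] Aᵐᵒᵖ) (TwistMod f) where
  toFun c := twistMulLeft f f c.1 (comm_of_mem_centralizer f c)
  map_one' := by
    refine LinearMap.ext fun x => ?_
    obtain ⟨x, rfl⟩ := (toTwist f).surjective x
    rw [twistMulLeft_apply]
    simp
  map_mul' c c' := by
    refine LinearMap.ext fun x => ?_
    obtain ⟨x, rfl⟩ := (toTwist f).surjective x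
    rw [Module.End.mul_apply, twistMulLeft_apply, twistMulLeft_apply, twistMulLeft_apply]
    simp [mul_assoc]
  map_zero' := by
    refine LinearMap.ext fun x => ?_
    obtain ⟨x, rfl⟩ := (toTwist f).surjective x
    rw [twistMulLeft_apply]
    simp
  map_add' c c' := by
    refine LinearMap.ext fun x => ?_
    obtain ⟨x, rfl⟩ := (toTwist f).surjective x
    rw [LinearMap.add_apply, twistMulLeft_apply, twistMulLeft_apply, twistMulLeft_apply]
    simp [add_mul]
  commutes' r := by
    refine LinearMap.ext fun x => ?_
    obtain ⟨x, rfl⟩ := (toTwist f).surjective x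
    rw [twistMulLeft_apply, Module.algebraMap_end_apply]
    simp [Algebra.smul_def]

theorem centToEnd_apply (c : Subalgebra.centralizer k (Set.range f)) (x : A) :
    centToEnd f c (toTwist f x) = toTwist f (c * x) := rfl

theorem centToEnd_bijective : Function.Bijective (centToEnd f) := by
  constructor
  · intro c c' h
    have h1 := congrArg (fun φ => φ (toTwist f 1)) h
    simp only [centToEnd_apply, mul_one] at h1
    exact Subtype.ext ((toTwist f).injective h1)
  · intro φ
    refine ⟨⟨twistOne f f φ, ?_⟩, ?_⟩
    · rw [Subalgebra.mem_centralizer_iff]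
      rintro _ ⟨b, rfl⟩
      exact (twist_linearMap_comm f f φ b).symm
    · refine LinearMap.ext fun x => ?_
      obtain ⟨x, rfl⟩ := (toTwist f).surjective x
      rw [centToEnd_apply, twist_linearMap_apply]

/-- `End_{B ⊗ Aᵐᵒᵖ}(A)` is the centralizer of (the image of) `B`. -/
noncomputable def centEquivEnd :
    Subalgebra.centralizer k (Set.range f) ≃ₐ[k] Module.End (B ⊗[k] Aᵐᵒᵖ) (TwistMod f) :=
  AlgEquiv.ofBijective (centToEnd f) (centToEnd_bijective f)

end endo

section centralizer

variable {k : Type u} [Field k] {A : Type v} [Ring A] [Algebra k A]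
  [Algebra.IsCentral k A] [IsSimpleRing A] [FiniteDimensional k A]
  {B : Type w} [Ring B] [Algebra k B] [IsSimpleRing B] (f : B →ₐ[k] A)

theorem isSimpleRing_centralizer_range :
    IsSimpleRing (Subalgebra.centralizer k (Set.range f)) := by
  have := finiteDimensional_tensor_mop f
  have h := isSimpleRing_end k (B ⊗[k] Aᵐᵒᵖ) (TwistMod f)
  exact IsSimpleRing.of_ringEquiv (centEquivEnd f).symm.toRingEquiv h

theorem finrank_mul_finrank_centralizer_range :
    Module.finrank k B * Module.finrank k (Subalgebra.centralizer k (Set.range f)) =
      Module.finrank k A := by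
  have := finiteDimensional_tensor_mop f
  have := finiteDimensional_of_algHom f
  have h := finrank_mul_finrank_end k (B ⊗[k] Aᵐᵒᵖ) (TwistMod f)
  rw [← (centEquivEnd f).toLinearEquiv.finrank_eq, Module.finrank_tensorProduct,
    ← (MulOpposite.opLinearEquiv k (M := A)).finrank_eq] at h
  have hA : Module.finrank k (TwistMod f) = Module.finrank k A := rfl
  rw [hA] at h
  have hpos : 0 < Module.finrank k A := Module.finrank_pos
  apply Nat.eq_of_mul_eq_mul_left hpos
  rw [sq] at h
  rw [← h]
  ring

end centralizer

section subalgebra

variable {k : Type u} [Field k] {A : Type v} [Ring A] [Algebra k A]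
  [Algebra.IsCentral k A] [IsSimpleRing A] [FiniteDimensional k A]
  (B : Subalgebra k A) [IsSimpleRing B]

omit [Algebra.IsCentral k A] [IsSimpleRing A] [FiniteDimensional k A] [IsSimpleRing B] in
theorem range_val_eq : Set.range B.val = (B : Set A) := by
  ext x
  simp

theorem isSimpleRing_centralizer : IsSimpleRing (Subalgebra.centralizer k (B : Set A)) := by
  have h := isSimpleRing_centralizer_range B.val
  rwa [range_val_eq] at h

theorem finrank_mul_finrank_centralizer :
    Module.finrank k A =
      Module.finrank k B * Module.finrank k (Subalgebra.centralizer k (B : Set A)) := by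
  have h := finrank_mul_finrank_centralizer_range B.val
  rw [range_val_eq] at h
  exact h.symm

theorem centralizer_centralizer :
    Subalgebra.centralizer k (Subalgebra.centralizer k (B : Set A) : Set A) = B := by
  have hC := isSimpleRing_centralizer B
  have h1 := finrank_mul_finrank_centralizer B
  have h2 := finrank_mul_finrank_centralizer (Subalgebra.centralizer k (B : Set A))
  have hpos : 0 < Module.finrank k (Subalgebra.centralizer k (B : Set A)) := Module.finrank_pos
  have h3 : Module.finrank k B = Module.finrank k
      (Subalgebra.centralizer k (Subalgebra.centralizer k (B : Set A) : Set A)) := by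
    apply Nat.eq_of_mul_eq_mul_right hpos
    rw [← h1, h2, mul_comm]
  exact (Subalgebra.eq_of_le_of_finrank_eq (Subalgebra.le_centralizer_centralizer k) h3).symm

end subalgebra

section decomposition

variable {k : Type u} [Field k] {A : Type v} [Ring A] [Algebra k A]
  [Algebra.IsCentral k A] [IsSimpleRing A] [FiniteDimensional k A]
  (B : Subalgebra k A) [IsSimpleRing B] [Algebra.IsCentral k B]

theorem tensor_centralizer_bijective :
    Function.Bijective (Algebra.TensorProduct.lift B.val
      (Subalgebra.centralizer k (B : Set A)).val (fun x y => y.2 x.1 x.2)) := by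
  have hC := isSimpleRing_centralizer B
  have hCB : IsSimpleRing ((Subalgebra.centralizer k (B : Set A)) ⊗[k] B) := isSimpleRing_tensor
  have hBC : IsSimpleRing (B ⊗[k] (Subalgebra.centralizer k (B : Set A))) :=
    IsSimpleRing.of_ringEquiv
      (Algebra.TensorProduct.comm k (Subalgebra.centralizer k (B : Set A)) B).toRingEquiv hCB
  set F := Algebra.TensorProduct.lift B.val
      (Subalgebra.centralizer k (B : Set A)).val (fun x y => y.2 x.1 x.2) with hF
  have hinj : Function.Injective F := RingHom.injective F.toRingHom
  have hdim : Module.finrank k (B ⊗[k] (Subalgebra.centralizer k (B : Set A))) =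
      Module.finrank k A := by
    rw [Module.finrank_tensorProduct, ← finrank_mul_finrank_centralizer B]
  exact ⟨hinj, (LinearMap.injective_iff_surjective_of_finrank_eq_finrank
    (f := F.toLinearMap) hdim).mp hinj⟩

end decomposition

end Groth.Agent.H1
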