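import Groth.Agent.H1.CSABrauer
import Groth.Agent.H1.CSACentralizer2
import Mathlib.RingTheory.Norm.Defs
import Mathlib.LinearAlgebra.Matrix.ToLin
import Groth.Agent.H1.CSASepClosed

/-!
If `k'` splits `A`, there is a central simple algebra `B` Brauer equivalent to `A`, containing `k'`,
with `dim B = [k':k]^2`.
-/

set_option autoImplicit false
set_option linter.unusedSectionVars false

open scoped TensorProduct

namespace Groth.Agent.H1

universe u v w

section azumaya

variable (k : Type u) [Field k] (C : Type v) [Ring C] [Algebra k C] [Algebra.IsCentral k C]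
  [IsSimpleRing C] [FiniteDimensional k C]

/-- `C ⊗ Cᵐᵒᵖ ≃ End_k(C)` for a central simple algebra `C`. -/
theorem mulLeftRight_bijective : Function.Bijective (AlgHom.mulLeftRight k C) := by
  have : FiniteDimensional k Cᵐᵒᵖ := Module.Finite.equiv (MulOpposite.opLinearEquiv k (M := C))
  have hs : IsSimpleRing (C ⊗[k] Cᵐᵒᵖ) := isSimpleRing_tensor
  apply bijective_of_isSimpleRing_of_finrank_eq
  rw [Module.finrank_tensorProduct, Module.finrank_linearMap,
    ← (MulOpposite.opLinearEquiv k (M := C)).finrank_eq]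

/-- `C ⊗ Cᵐᵒᵖ` is a matrix algebra over `k`. -/
noncomputable def tensorMopEquivMatrix :
    C ⊗[k] Cᵐᵒᵖ ≃ₐ[k] Matrix (Fin (Module.finrank k C)) (Fin (Module.finrank k C)) k :=
  (AlgEquiv.ofBijective _ (mulLeftRight_bijective k C)).trans
    (algEquivMatrix (Module.finBasis k C))

end azumaya

section chain

variable (k : Type u) [Field k] (A : Type w) [Ring A] [Algebra k A]
  (C : Type v) [Ring C] [Algebra k C] [Algebra.IsCentral k C]
  [IsSimpleRing C] [FiniteDimensional k C]

/-- if `A ⊗ C` is a matrix algebra over `k`, then `A` is Brauer equivalent to `Cᵐᵒᵖ`. -/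
theorem nonempty_matrix_algEquiv_mop (N : ℕ)
    (Ψ : A ⊗[k] C ≃ₐ[k] Matrix (Fin N) (Fin N) k) :
    Nonempty (Matrix (Fin (Module.finrank k C)) (Fin (Module.finrank k C)) A ≃ₐ[k]
      Matrix (Fin N) (Fin N) Cᵐᵒᵖ) := by
  let e1 := matrixEquivTensor (Fin (Module.finrank k C)) k A
  let e2 : A ⊗[k] Matrix (Fin (Module.finrank k C)) (Fin (Module.finrank k C)) k ≃ₐ[k]
      A ⊗[k] (C ⊗[k] Cᵐᵒᵖ) :=
    Algebra.TensorProduct.congr AlgEquiv.refl (tensorMopEquivMatrix k C).symm
  let e3 : A ⊗[k] (C ⊗[k] Cᵐᵒᵖ) ≃ₐ[k] (A ⊗[k] C) ⊗[k] Cᵐᵒᵖ :=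
    (Algebra.TensorProduct.assoc k k k A C Cᵐᵒᵖ).symm
  let e4 : (A ⊗[k] C) ⊗[k] Cᵐᵒᵖ ≃ₐ[k] Matrix (Fin N) (Fin N) k ⊗[k] Cᵐᵒᵖ :=
    Algebra.TensorProduct.congr Ψ AlgEquiv.refl
  let e5 : Matrix (Fin N) (Fin N) k ⊗[k] Cᵐᵒᵖ ≃ₐ[k] Cᵐᵒᵖ ⊗[k] Matrix (Fin N) (Fin N) k :=
    Algebra.TensorProduct.comm k _ _
  let e6 := (matrixEquivTensor (Fin N) k Cᵐᵒᵖ).symm
  exact ⟨e1.trans (e2.trans (e3.trans (e4.trans (e5.trans e6))))⟩

end chain

section centralizerCSA

variable {k : Type u} [Field k] {E : Type v} [Ring E] [Algebra k E] [Algebra.IsCentral k E]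
  [IsSimpleRing E] [FiniteDimensional k E]
  {A : Type w} [Ring A] [Algebra k A] [Algebra.IsCentral k A] [IsSimpleRing A] (ρ : A →ₐ[k] E)

omit [Algebra.IsCentral k E] [FiniteDimensional k E] [Algebra.IsCentral k A] in
theorem injective_of_isSimpleRing : Function.Injective ρ := RingHom.injective ρ.toRingHom

theorem isSimpleRing_range : IsSimpleRing ρ.range :=
  IsSimpleRing.of_ringEquiv (AlgEquiv.ofInjective ρ (injective_of_isSimpleRing ρ)).toRingEquiv
    inferInstance

theorem isCentral_range : Algebra.IsCentral k ρ.range :=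
  isCentral_of_algEquiv (AlgEquiv.ofInjective ρ (injective_of_isSimpleRing ρ))

theorem isSimpleRing_cent :
    IsSimpleRing (Subalgebra.centralizer k ((ρ.range : Subalgebra k E) : Set E)) := by
  have := isSimpleRing_range ρ
  exact isSimpleRing_centralizer ρ.range

theorem isCentral_cent :
    Algebra.IsCentral k (Subalgebra.centralizer k ((ρ.range : Subalgebra k E) : Set E)) := by
  have := isSimpleRing_range ρ
  have hc := isCentral_range ρ
  refine ⟨fun z hz => ?_⟩
  rw [Subalgebra.mem_center_iff] at hz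
  have hz1 : (z : E) ∈ Subalgebra.centralizer k
      (Subalgebra.centralizer k ((ρ.range : Subalgebra k E) : Set E) : Set E) := by
    rw [Subalgebra.mem_centralizer_iff]
    intro g hg
    exact congrArg Subtype.val (hz ⟨g, hg⟩)
  rw [centralizer_centralizer] at hz1
  have hz2 : (⟨(z : E), hz1⟩ : ρ.range) ∈ Subalgebra.center k ρ.range := by
    rw [Subalgebra.mem_center_iff]
    intro y
    apply Subtype.ext
    exact (Subalgebra.mem_centralizer_iff k).mp z.2 y.1 y.2
  obtain ⟨c, hc'⟩ := Algebra.mem_bot.mp (hc.out hz2)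
  refine Algebra.mem_bot.mpr ⟨c, Subtype.ext ?_⟩
  have h3 : ((algebraMap k ρ.range c : ρ.range) : E) = (z : E) := congrArg Subtype.val hc'
  exact h3

/-- `A ⊗ C_E(A) ≃ E`. -/
noncomputable def tensorCentEquiv :
    A ⊗[k] (Subalgebra.centralizer k ((ρ.range : Subalgebra k E) : Set E)) ≃ₐ[k] E :=
  haveI := isSimpleRing_range ρ
  haveI := isCentral_range ρ
  (Algebra.TensorProduct.congr (AlgEquiv.ofInjective ρ (injective_of_isSimpleRing ρ))
    AlgEquiv.refl).trans
    (AlgEquiv.ofBijective _ (tensor_centralizer_bijective ρ.range))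

theorem finrank_mul_finrank_cent :
    Module.finrank k A *
      Module.finrank k (Subalgebra.centralizer k ((ρ.range : Subalgebra k E) : Set E)) =
      Module.finrank k E := by
  have := isSimpleRing_range ρ
  rw [finrank_mul_finrank_centralizer ρ.range,
    (AlgEquiv.ofInjective ρ (injective_of_isSimpleRing ρ)).toLinearEquiv.finrank_eq]

end centralizerCSA

section main

variable (k : Type u) [Field k] (A : Type u) [Ring A] [Algebra k A] [Algebra.IsCentral k A]
  [IsSimpleRing A] [FiniteDimensional k A]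
  (k' : Type u) [Field k'] [Algebra k k'] [FiniteDimensional k k']

theorem exists_csa_of_commuting_reps (E : Type u) [Ring E] [Algebra k E] [Algebra.IsCentral k E]
    [IsSimpleRing E] [FiniteDimensional k E] (ρ : A →ₐ[k] E) (κ : k' →ₐ[k] E)
    (hcomm : ∀ a x, ρ a * κ x = κ x * ρ a) (N : ℕ) (hN : N ≠ 0)
    (χ : E ≃ₐ[k] Matrix (Fin N) (Fin N) k)
    (hdim : Module.finrank k E = Module.finrank k A * Module.finrank k k' ^ 2) :
    ∃ (C : Type u) (_ : Ring C) (_ : Algebra k C) (_ : Algebra.IsCentral k C)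
      (_ : IsSimpleRing C) (_ : FiniteDimensional k C) (_ : k' →ₐ[k] C),
      (∃ a b : ℕ, a ≠ 0 ∧ b ≠ 0 ∧
        Nonempty (Matrix (Fin a) (Fin a) A ≃ₐ[k] Matrix (Fin b) (Fin b) C)) ∧
      Module.finrank k C = Module.finrank k k' ^ 2 := by
  have hm : Module.finrank k k' ≠ 0 := Module.finrank_pos.ne'
  have hκ : ∀ x, κ x ∈ Subalgebra.centralizer k ((ρ.range : Subalgebra k E) : Set E) := by
    intro x
    rw [Subalgebra.mem_centralizer_iff]
    rintro _ ⟨a, rfl⟩
    exact hcomm a x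
  have hsC := isSimpleRing_cent ρ
  have hcC := isCentral_cent ρ
  have hfC : FiniteDimensional k
      (Subalgebra.centralizer k ((ρ.range : Subalgebra k E) : Set E))ᵐᵒᵖ :=
    Module.Finite.equiv (MulOpposite.opLinearEquiv k
      (M := Subalgebra.centralizer k ((ρ.range : Subalgebra k E) : Set E)))
  have hdimC : Module.finrank k (Subalgebra.centralizer k ((ρ.range : Subalgebra k E) : Set E)) =
      Module.finrank k k' ^ 2 := by
    have h1 := finrank_mul_finrank_cent ρ
    rw [hdim] at h1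
    have hA : 0 < Module.finrank k A := Module.finrank_pos
    exact Nat.eq_of_mul_eq_mul_left hA h1
  let g : k' →ₐ[k] (Subalgebra.centralizer k ((ρ.range : Subalgebra k E) : Set E))ᵐᵒᵖ :=
    AlgHom.toOpposite (κ.codRestrict _ hκ) (fun x y => by
      rw [Commute, SemiconjBy, ← map_mul, ← map_mul, mul_comm])
  let Ψ : A ⊗[k] (Subalgebra.centralizer k ((ρ.range : Subalgebra k E) : Set E)) ≃ₐ[k]
      Matrix (Fin N) (Fin N) k := (tensorCentEquiv ρ).trans χ
  obtain ⟨Φ⟩ := nonempty_matrix_algEquiv_mop k A _ _ Ψ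
  refine ⟨_, inferInstance, inferInstance, inferInstance, inferInstance, hfC, g,
    ⟨_, _, ?_, hN, ⟨Φ⟩⟩, ?_⟩
  · rw [hdimC]
    positivity
  · rw [← hdimC]
    exact (MulOpposite.opLinearEquiv k
      (M := Subalgebra.centralizer k ((ρ.range : Subalgebra k E) : Set E))).symm.finrank_eq

theorem exists_csa_of_splits (n : ℕ) (hn : n ≠ 0)
    (e : k' ⊗[k] A ≃ₐ[k'] Matrix (Fin n) (Fin n) k') :
    ∃ (C : Type u) (_ : Ring C) (_ : Algebra k C) (_ : Algebra.IsCentral k C)
      (_ : IsSimpleRing C) (_ : FiniteDimensional k C) (_ : k' →ₐ[k] C),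
      (∃ a b : ℕ, a ≠ 0 ∧ b ≠ 0 ∧
        Nonempty (Matrix (Fin a) (Fin a) A ≃ₐ[k] Matrix (Fin b) (Fin b) C)) ∧
      Module.finrank k C = Module.finrank k k' ^ 2 := by
  classical
  have hm : Module.finrank k k' ≠ 0 := Module.finrank_pos.ne'
  have : NeZero n := ⟨hn⟩
  have : NeZero (Module.finrank k k') := ⟨hm⟩
  let bk := Module.finBasis k k'
  let lam : k' →ₐ[k] Matrix (Fin (Module.finrank k k')) (Fin (Module.finrank k k')) k :=
    Algebra.leftMulMatrix bk
  let F : Matrix (Fin n) (Fin n) k' →ₐ[k]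
      Matrix (Fin n × Fin (Module.finrank k k')) (Fin n × Fin (Module.finrank k k')) k :=
    (Matrix.compAlgEquiv (Fin n) (Fin (Module.finrank k k')) k k).toAlgHom.comp lam.mapMatrix
  let ρ₀ : A →ₐ[k] Matrix (Fin n) (Fin n) k' :=
    (e.restrictScalars k).toAlgHom.comp Algebra.TensorProduct.includeRight
  let κ₀ : k' →ₐ[k] Matrix (Fin n) (Fin n) k' := (Algebra.ofId k' _).restrictScalars k
  have hdimA : Module.finrank k A = n ^ 2 := finrank_eq_sq_of_algEquiv_matrix k A k' n e
  refine exists_csa_of_commuting_reps k A k'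
    (Matrix (Fin n × Fin (Module.finrank k k')) (Fin n × Fin (Module.finrank k k')) k)
    (F.comp ρ₀) (F.comp κ₀) ?_ (n * Module.finrank k k') (Nat.mul_ne_zero hn hm)
    (Matrix.reindexAlgEquiv k k finProdFinEquiv) ?_
  · intro a x
    change F (ρ₀ a) * F (κ₀ x) = F (κ₀ x) * F (ρ₀ a)
    rw [← map_mul, ← map_mul]
    congr 1
    exact (Algebra.commutes x (ρ₀ a)).symm
  · rw [hdimA, Module.finrank_matrix, Module.finrank_self]
    simp only [Fintype.card_prod, Fintype.card_fin, mul_one]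
    ring

end main

end Groth.Agent.H1
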