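import Mathlib.RingTheory.TensorProduct.Basic
import Mathlib.LinearAlgebra.DirectSum.Finsupp
import Mathlib.LinearAlgebra.Basis.VectorSpace
import Mathlib.RingTheory.SimpleRing.Basic
import Mathlib.RingTheory.TwoSidedIdeal.Operations
import Mathlib.Algebra.Central.Basic
import Mathlib.LinearAlgebra.Basis.Prod

/-!
Core lemma on two-sided ideals of `A ⊗[k] B` for `B` central simple over the field `k`.
-/

set_option autoImplicit false

open scoped TensorProduct

namespace Groth.Agent.H1

universe u v w

section coords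

variable {k : Type u} [Field k] {A : Type v} [Ring A] [Algebra k A]
  {B : Type w} [Ring B] [Algebra k B] {ι : Type*} (b : Module.Basis ι k A)

open Classical in
/-- coordinates of an element of `A ⊗ B` with respect to a basis of `A`, with coefficients in `B`. -/
noncomputable def coords : A ⊗[k] B ≃ₗ[k] (ι →₀ B) :=
  (TensorProduct.congr b.repr (LinearEquiv.refl k B)) ≪≫ₗ TensorProduct.finsuppScalarLeft k B ι

theorem coords_tmul (a : A) (c : B) (i : ι) : coords b (a ⊗ₜ[k] c) i = b.repr a i • c := by
  simp [coords]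

theorem coords_one_tmul_mul (u : B) (x : A ⊗[k] B) (i : ι) :
    coords b ((1 ⊗ₜ[k] u) * x) i = u * coords b x i := by
  induction x using TensorProduct.induction_on with
  | zero => simp
  | tmul a c => simp [coords_tmul, Algebra.TensorProduct.tmul_mul_tmul]
  | add x y hx hy => simp [mul_add, hx, hy]

theorem coords_mul_one_tmul (v : B) (x : A ⊗[k] B) (i : ι) :
    coords b (x * (1 ⊗ₜ[k] v)) i = coords b x i * v := by
  induction x using TensorProduct.induction_on with
  | zero => simp
  | tmul a c => simp [coords_tmul, Algebra.TensorProduct.tmul_mul_tmul]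
  | add x y hx hy => simp [add_mul, hx, hy]

theorem coords_symm_single (i : ι) (c : B) :
    (coords b).symm (Finsupp.single i c) = b i ⊗ₜ[k] c := by
  simp [coords]

theorem coords_support_one_tmul_mul (u : B) (x : A ⊗[k] B) :
    (coords b ((1 ⊗ₜ[k] u) * x)).support ⊆ (coords b x).support := by
  intro i hi
  rw [Finsupp.mem_support_iff, coords_one_tmul_mul] at hi
  rw [Finsupp.mem_support_iff]
  intro h
  exact hi (by rw [h, mul_zero])

theorem coords_support_mul_one_tmul (v : B) (x : A ⊗[k] B) :
    (coords b (x * (1 ⊗ₜ[k] v))).support ⊆ (coords b x).support := by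
  intro i hi
  rw [Finsupp.mem_support_iff, coords_mul_one_tmul] at hi
  rw [Finsupp.mem_support_iff]
  intro h
  exact hi (by rw [h, zero_mul])

/-- the two-sided ideal of `B` of possible `i₀`-coordinates of elements of `I` with support in `s`. -/
def coeffIdeal (I : TwoSidedIdeal (A ⊗[k] B)) (s : Finset ι) (i₀ : ι) : TwoSidedIdeal B :=
  .mk' {c | ∃ z ∈ I, (coords b z).support ⊆ s ∧ coords b z i₀ = c}
    ⟨0, I.zero_mem, by simp, by simp⟩
    (by
      classical
      rintro c c' ⟨z, hz, hzs, rfl⟩ ⟨z', hz', hzs', rfl⟩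
      refine ⟨z + z', I.add_mem hz hz', ?_, by simp⟩
      rw [map_add]
      exact Finsupp.support_add.trans (Finset.union_subset hzs hzs'))
    (by
      rintro c ⟨z, hz, hzs, rfl⟩
      refine ⟨-z, I.neg_mem hz, ?_, by simp⟩
      rw [map_neg, Finsupp.support_neg]
      exact hzs)
    (by
      rintro u c ⟨z, hz, hzs, rfl⟩
      exact ⟨(1 ⊗ₜ[k] u) * z, I.mul_mem_left _ _ hz,
        (coords_support_one_tmul_mul b u z).trans hzs, coords_one_tmul_mul b u z i₀⟩)
    (by
      rintro c v ⟨z, hz, hzs, rfl⟩
      exact ⟨z * (1 ⊗ₜ[k] v), I.mul_mem_right _ _ hz,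
        (coords_support_mul_one_tmul b v z).trans hzs, coords_mul_one_tmul b v z i₀⟩)

theorem mem_coeffIdeal (I : TwoSidedIdeal (A ⊗[k] B)) (s : Finset ι) (i₀ : ι) (c : B) :
    c ∈ coeffIdeal b I s i₀ ↔ ∃ z ∈ I, (coords b z).support ⊆ s ∧ coords b z i₀ = c := by
  simp [coeffIdeal, TwoSidedIdeal.mem_mk']

/-- An element of `A ⊗ B` all of whose coordinates are scalars is of the form `a ⊗ 1`. -/
theorem exists_eq_tmul_one_of_coords_mem_range [Nontrivial B] (z : A ⊗[k] B)
    (hz : ∀ i, coords b z i ∈ Set.range (algebraMap k B)) :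
    ∃ a : A, a ⊗ₜ[k] (1 : B) = z ∧ (b.repr a).support ⊆ (coords b z).support := by
  classical
  let g : B → k := fun c => if h : c ∈ Set.range (algebraMap k B) then h.choose else 0
  have hg : ∀ c ∈ Set.range (algebraMap k B), algebraMap k B (g c) = c := by
    intro c hc
    simp only [g, dif_pos hc]
    exact hc.choose_spec
  have hg0 : g 0 = 0 := by
    have h0 : (0 : B) ∈ Set.range (algebraMap k B) := ⟨0, map_zero _⟩
    have := hg 0 h0
    exact (map_eq_zero_iff _ (algebraMap k B).injective).mp this
  let rF : ι →₀ k := (coords b z).mapRange g hg0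
  refine ⟨b.repr.symm rF, ?_, ?_⟩
  · apply (coords b).injective
    ext i
    rw [coords_tmul, LinearEquiv.apply_symm_apply]
    simp only [rF, Finsupp.mapRange_apply]
    rw [← Algebra.algebraMap_eq_smul_one]
    exact hg _ (hz i)
  · rw [LinearEquiv.apply_symm_apply]
    exact Finsupp.support_mapRange

theorem core [Algebra.IsCentral k B] [IsSimpleRing B] (T : Set ι) (I : TwoSidedIdeal (A ⊗[k] B))
    (x : A ⊗[k] B) (hx : x ∈ I) (hx0 : x ≠ 0) (hxT : ↑(coords b x).support ⊆ T) :
    ∃ a : A, a ≠ 0 ∧ ↑(b.repr a).support ⊆ T ∧ a ⊗ₜ[k] (1 : B) ∈ I := by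
  classical
  let P : ℕ → Prop := fun n => ∃ y ∈ I, y ≠ 0 ∧ ↑(coords b y).support ⊆ T ∧
    (coords b y).support.card = n
  have hP : ∃ n, P n := ⟨_, x, hx, hx0, hxT, rfl⟩
  obtain ⟨y, hyI, hy0, hyT, hyn⟩ := Nat.find_spec hP
  have hmin : ∀ w ∈ I, ↑(coords b w).support ⊆ T → (coords b w).support.card < Nat.find hP →
      w = 0 := by
    intro w hw hwT hlt
    by_contra hw0
    exact Nat.find_min hP hlt ⟨w, hw, hw0, hwT, rfl⟩
  -- choose an index in the support of `y`
  have hsupp : (coords b y).support.Nonempty := by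
    rw [Finsupp.support_nonempty_iff]
    intro h
    exact hy0 ((coords b).injective (by simpa using h))
  obtain ⟨i₀, hi₀⟩ := hsupp
  -- normalise the coefficient at `i₀` to `1`
  have hone : (1 : B) ∈ coeffIdeal b I (coords b y).support i₀ := by
    refine IsSimpleRing.one_mem_of_ne_zero_mem _ (Finsupp.mem_support_iff.mp hi₀) ?_
    rw [mem_coeffIdeal]
    exact ⟨y, hyI, le_rfl, rfl⟩
  obtain ⟨z, hzI, hzs, hz1⟩ := (mem_coeffIdeal b I _ i₀ 1).mp hone
  have hzT : ↑(coords b z).support ⊆ T := (Finset.coe_subset.mpr hzs).trans hyT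
  have hzcard : (coords b z).support.card ≤ Nat.find hP := hyn ▸ Finset.card_le_card hzs
  have hz0 : z ≠ 0 := by
    intro h
    rw [h, map_zero] at hz1
    simp at hz1
  -- all coefficients are central
  have hcomm : ∀ (c : B) (i : ι), c * coords b z i = coords b z i * c := by
    intro c i
    let w := (1 ⊗ₜ[k] c) * z - z * (1 ⊗ₜ[k] c)
    have hwI : w ∈ I := I.sub_mem (I.mul_mem_left _ _ hzI) (I.mul_mem_right _ _ hzI)
    have hwi : ∀ j, coords b w j = c * coords b z j - coords b z j * c := by
      intro j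
      simp only [w, map_sub, Finsupp.sub_apply, coords_one_tmul_mul, coords_mul_one_tmul]
    have hws : (coords b w).support ⊆ (coords b z).support.erase i₀ := by
      intro j hj
      rw [Finsupp.mem_support_iff, hwi] at hj
      rw [Finset.mem_erase, Finsupp.mem_support_iff]
      refine ⟨?_, ?_⟩
      · rintro rfl
        apply hj
        rw [hz1, mul_one, one_mul, sub_self]
      · intro h
        apply hj
        rw [h, mul_zero, zero_mul, sub_self]
    have hi₀z : i₀ ∈ (coords b z).support := by
      rw [Finsupp.mem_support_iff, hz1]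
      exact one_ne_zero
    have hwcard : (coords b w).support.card < Nat.find hP :=
      (Finset.card_le_card hws).trans_lt
        ((Finset.card_erase_lt_of_mem hi₀z).trans_le hzcard)
    have hw0 : w = 0 := hmin w hwI
      ((Finset.coe_subset.mpr (hws.trans (Finset.erase_subset _ _))).trans hzT) hwcard
    have := hwi i
    rw [hw0, map_zero, Finsupp.zero_apply] at this
    exact sub_eq_zero.mp this.symm
  have hrange : ∀ i, coords b z i ∈ Set.range (algebraMap k B) := by
    intro i
    have : coords b z i ∈ Subalgebra.center k B := by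
      rw [Subalgebra.mem_center_iff]
      exact fun c => hcomm c i
    rw [Algebra.IsCentral.center_eq_bot] at this
    exact Algebra.mem_bot.mp this
  obtain ⟨a, haz, has⟩ := exists_eq_tmul_one_of_coords_mem_range b z hrange
  refine ⟨a, ?_, (Finset.coe_subset.mpr has).trans hzT, haz ▸ hzI⟩
  rintro rfl
  apply hz0
  rw [← haz, TensorProduct.zero_tmul]

end coords

section simple

variable {k : Type u} [Field k] {A : Type v} [Ring A] [Algebra k A]
  {B : Type w} [Ring B] [Algebra k B]

theorem tmul_one_injective [Nontrivial B] : Function.Injective (fun a : A => a ⊗ₜ[k] (1 : B)) := by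
  classical
  intro a a' h
  let b := Module.Basis.ofVectorSpace k A
  have : ∀ i, b.repr a i = b.repr a' i := by
    intro i
    have h1 := congrArg (fun z => coords b z i) h
    simp only [coords_tmul] at h1
    have h2 : (b.repr a i - b.repr a' i) • (1 : B) = 0 := by rw [sub_smul, h1, sub_self]
    rcases smul_eq_zero.mp h2 with h3 | h3
    · exact sub_eq_zero.mp h3
    · exact absurd h3 one_ne_zero
  apply b.repr.injective
  ext i
  exact this i

/-- `A` simple, `B` central simple (no finiteness needed) implies `A ⊗ B` simple. -/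
theorem isSimpleRing_tensor [IsSimpleRing A] [Algebra.IsCentral k B] [IsSimpleRing B] :
    IsSimpleRing (A ⊗[k] B) := by
  classical
  have : Nontrivial (A ⊗[k] B) := by
    refine ⟨⟨(1 : A) ⊗ₜ[k] (1 : B), (0 : A) ⊗ₜ[k] (1 : B), ?_⟩⟩
    intro h
    exact one_ne_zero (tmul_one_injective (k := k) (B := B) h)
  refine IsSimpleRing.of_eq_bot_or_eq_top fun I => ?_
  by_cases hI : I = ⊥
  · exact Or.inl hI
  right
  obtain ⟨x, hxI, hx0⟩ : ∃ x ∈ I, x ≠ 0 := by
    by_contra hcon
    push Not at hcon
    apply hI
    rw [eq_bot_iff]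
    intro x hx
    rw [TwoSidedIdeal.mem_bot]
    exact hcon x hx
  let b := Module.Basis.ofVectorSpace k A
  obtain ⟨a, ha0, -, haI⟩ := core b Set.univ I x hxI hx0 (Set.subset_univ _)
  have h1 : (1 : A) ∈ I.comap (Algebra.TensorProduct.includeLeft : A →ₐ[k] A ⊗[k] B) := by
    refine IsSimpleRing.one_mem_of_ne_zero_mem _ ha0 ?_
    rw [TwoSidedIdeal.mem_comap]
    exact haI
  rw [TwoSidedIdeal.mem_comap] at h1
  rw [eq_top_iff]
  intro y _
  have : y = y * (Algebra.TensorProduct.includeLeft (R := k) (S := k) (A := A) (B := B) 1) := by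
    rw [map_one, mul_one]
  rw [this]
  exact I.mul_mem_left _ _ h1

end simple

end Groth.Agent.H1
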