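import Groth.Agent.H1.SimpleArtinian
import Groth.Agent.H1.CSACore
import Mathlib.Algebra.Azumaya.Defs
import Mathlib.Algebra.Algebra.Subalgebra.Centralizer
import Mathlib.LinearAlgebra.Dimension.Constructions
import Mathlib.RingTheory.TensorProduct.Finite

/-!
Skolem–Noether and the centralizer theorems for central simple algebras.
-/

set_option autoImplicit false

open scoped TensorProduct

namespace Groth.Agent.H1

universe u v w

section twist

variable {k : Type u} [Field k] {A : Type v} [Ring A] [Algebra k A]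
  {B : Type w} [Ring B] [Algebra k B]

/-- the representation of `B ⊗ Aᵐᵒᵖ` on `A` through `f : B → A`: `(b ⊗ a) x = f b * x * a`. -/
noncomputable def twistRep (f : B →ₐ[k] A) : B ⊗[k] Aᵐᵒᵖ →ₐ[k] Module.End k A :=
  (AlgHom.mulLeftRight k A).comp (Algebra.TensorProduct.map f (AlgHom.id k Aᵐᵒᵖ))

theorem twistRep_tmul (f : B →ₐ[k] A) (b : B) (a : Aᵐᵒᵖ) (x : A) :
    twistRep f (b ⊗ₜ[k] a) x = f b * x * a.unop := by
  simp [twistRep]

/-- `A` regarded as a module over `B ⊗ Aᵐᵒᵖ` through `f`. -/
def TwistMod (_f : B →ₐ[k] A) : Type v := A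

variable (f : B →ₐ[k] A)

instance : Ring (TwistMod f) := inferInstanceAs (Ring A)
instance : Algebra k (TwistMod f) := inferInstanceAs (Algebra k A)

noncomputable instance : Module (B ⊗[k] Aᵐᵒᵖ) (TwistMod f) :=
  Module.compHom A (twistRep f).toRingHom

/-- the identity map `A → TwistMod f`. -/
def toTwist : A ≃ₐ[k] TwistMod f := AlgEquiv.refl

theorem twist_smul_def (r : B ⊗[k] Aᵐᵒᵖ) (x : A) :
    r • toTwist f x = toTwist f (twistRep f r x) := rfl

theorem twist_tmul_smul (b : B) (a : Aᵐᵒᵖ) (x : A) :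
    (b ⊗ₜ[k] a) • toTwist f x = toTwist f (f b * x * a.unop) := by
  rw [twist_smul_def, twistRep_tmul]

theorem twist_zero_smul (x : TwistMod f) : (0 : B ⊗[k] Aᵐᵒᵖ) • x = 0 :=
  zero_smul (B ⊗[k] Aᵐᵒᵖ) x

instance : IsScalarTower k (B ⊗[k] Aᵐᵒᵖ) (TwistMod f) where
  smul_assoc c r x := by
    obtain ⟨x, rfl⟩ := (toTwist f).surjective x
    rw [twist_smul_def, twist_smul_def, map_smul, LinearMap.smul_apply, map_smul]

instance [FiniteDimensional k A] : FiniteDimensional k (TwistMod f) :=
  inferInstanceAs (FiniteDimensional k A)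

instance [Nontrivial A] : Nontrivial (TwistMod f) := inferInstanceAs (Nontrivial A)

end twist


section intertwiner

variable {k : Type u} [Field k] {A : Type v} [Ring A] [Algebra k A]
  {B : Type w} [Ring B] [Algebra k B] (f g : B →ₐ[k] A)

/-- the value at `1` of an intertwiner. -/
noncomputable def twistOne (φ : TwistMod f →ₗ[B ⊗[k] Aᵐᵒᵖ] TwistMod g) : A :=
  (toTwist g).symm (φ (toTwist f 1))

theorem toTwist_twistOne (φ : TwistMod f →ₗ[B ⊗[k] Aᵐᵒᵖ] TwistMod g) :
    toTwist g (twistOne f g φ) = φ (toTwist f 1) := by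
  simp [twistOne]

theorem twist_linearMap_apply (φ : TwistMod f →ₗ[B ⊗[k] Aᵐᵒᵖ] TwistMod g) (x : A) :
    φ (toTwist f x) = toTwist g (twistOne f g φ * x) := by
  have h1 : toTwist f x = ((1 : B) ⊗ₜ[k] MulOpposite.op x) • toTwist f 1 := by
    rw [twist_tmul_smul, map_one, one_mul, MulOpposite.unop_op, one_mul]
  rw [h1, map_smul, ← toTwist_twistOne, twist_tmul_smul, map_one, one_mul, MulOpposite.unop_op]

theorem twist_linearMap_comm (φ : TwistMod f →ₗ[B ⊗[k] Aᵐᵒᵖ] TwistMod g) (b : B) :
    twistOne f g φ * f b = g b * twistOne f g φ := by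
  have h1 : toTwist f (f b) = (b ⊗ₜ[k] MulOpposite.op (1 : A)) • toTwist f 1 := by
    rw [twist_tmul_smul, mul_one, MulOpposite.unop_op, mul_one]
  have h2 := twist_linearMap_apply f g φ (f b)
  rw [h1, map_smul, ← toTwist_twistOne, twist_tmul_smul, MulOpposite.unop_op, mul_one] at h2
  exact ((toTwist g).injective h2).symm

/-- left multiplication by an element `c` with `c * f b = g b * c` is an intertwiner. -/
noncomputable def twistMulLeft (c : A) (hc : ∀ b, c * f b = g b * c) :
    TwistMod f →ₗ[B ⊗[k] Aᵐᵒᵖ] TwistMod g where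
  toFun x := toTwist g (c * (toTwist f).symm x)
  map_add' x y := by simp [mul_add]
  map_smul' r x := by
    obtain ⟨x, rfl⟩ := (toTwist f).surjective x
    simp only [RingHom.id_apply]
    induction r using TensorProduct.induction_on with
    | zero => rw [twist_zero_smul, twist_zero_smul, map_zero, mul_zero, map_zero]
    | tmul b a =>
      rw [twist_tmul_smul, AlgEquiv.symm_apply_apply, AlgEquiv.symm_apply_apply, twist_tmul_smul]
      congr 1
      rw [← mul_assoc, ← mul_assoc, ← mul_assoc, hc]
    | add r s hr hs =>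
      rw [add_smul, map_add, mul_add, map_add, hr, hs, add_smul]

theorem twistMulLeft_apply (c : A) (hc : ∀ b, c * f b = g b * c) (x : A) :
    twistMulLeft f g c hc (toTwist f x) = toTwist g (c * x) := rfl

theorem twistOne_twistMulLeft (c : A) (hc : ∀ b, c * f b = g b * c) :
    twistOne f g (twistMulLeft f g c hc) = c := by
  rw [twistOne, twistMulLeft_apply, mul_one, AlgEquiv.symm_apply_apply]

end intertwiner

section skolemNoether

variable {k : Type u} [Field k] {A : Type v} [Ring A] [Algebra k A]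
  [Algebra.IsCentral k A] [IsSimpleRing A] [FiniteDimensional k A]
  {B : Type w} [Ring B] [Algebra k B] [IsSimpleRing B]

omit [Algebra.IsCentral k A] in
theorem finiteDimensional_of_algHom (f : B →ₐ[k] A) : FiniteDimensional k B :=
  Module.Finite.of_injective f.toLinearMap (RingHom.injective f.toRingHom)

instance isSimpleRing_tensor_mop : IsSimpleRing (B ⊗[k] Aᵐᵒᵖ) := isSimpleRing_tensor

omit [Algebra.IsCentral k A] in
theorem finiteDimensional_tensor_mop (f : B →ₐ[k] A) : FiniteDimensional k (B ⊗[k] Aᵐᵒᵖ) := by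
  have := finiteDimensional_of_algHom f
  have : FiniteDimensional k Aᵐᵒᵖ := Module.Finite.equiv (MulOpposite.opLinearEquiv k (M := A))
  infer_instance

/-- **Skolem–Noether**. -/
theorem skolem_noether (f g : B →ₐ[k] A) :
    ∃ x : Aˣ, ∀ b : B, f b = (x : A) * g b * (x⁻¹ : Aˣ) := by
  have := finiteDimensional_tensor_mop f
  have he := nonempty_linearEquiv_of_finrank_eq k (B ⊗[k] Aᵐᵒᵖ) (TwistMod f) (TwistMod g) rfl
  obtain ⟨e⟩ := he
  set u := twistOne f g e.toLinearMap with hu
  set v := twistOne g f e.symm.toLinearMap with hv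
  have huv : u * v = 1 := by
    apply (toTwist g).injective
    have h1 := twist_linearMap_apply f g e.toLinearMap v
    rw [← hu] at h1
    rw [← h1, hv, toTwist_twistOne]
    simp
  have hvu : v * u = 1 := by
    apply (toTwist f).injective
    have h1 := twist_linearMap_apply g f e.symm.toLinearMap u
    rw [← hv] at h1
    rw [← h1, hu, toTwist_twistOne]
    simp
  refine ⟨⟨v, u, hvu, huv⟩, fun b => ?_⟩
  have h := twist_linearMap_comm f g e.toLinearMap b
  rw [← hu] at h
  change f b = v * g b * u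
  rw [mul_assoc, ← h, ← mul_assoc, hvu, one_mul]

end skolemNoether

end Groth.Agent.H1
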