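import Mathlib.AlgebraicGeometry.Morphisms.FlatDescent
import Mathlib.AlgebraicGeometry.Morphisms.Finite
import Mathlib.AlgebraicGeometry.Morphisms.Proper
import Mathlib.AlgebraicGeometry.Morphisms.ClosedImmersion
import Mathlib.AlgebraicGeometry.Morphisms.Separated
import Mathlib.AlgebraicGeometry.Morphisms.Integral
import Mathlib.AlgebraicGeometry.Morphisms.QuasiFinite
import Mathlib.AlgebraicGeometry.Morphisms.Immersion
import Mathlib.AlgebraicGeometry.Morphisms.LocalFlatDescent
import Mathlib.RingTheory.Finiteness.Descent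
import Mathlib.RingTheory.RingHom.Integral
import Mathlib.RingTheory.RingHom.QuasiFinite

/-!
fpqc descent for further properties of morphisms of schemes.
-/

set_option autoImplicit false

universe u

open CategoryTheory CategoryTheory.Limits AlgebraicGeometry MorphismProperty

namespace Groth.Agent.H1

/-- the class of fpqc covers consisting of a single morphism -/
abbrev fpqc : MorphismProperty Scheme.{u} := @Surjective ⊓ @Flat ⊓ @QuasiCompact

theorem locIso_surj_le : (@IsLocalIso ⊓ @Surjective : MorphismProperty Scheme.{u}) ≤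
    (@Surjective ⊓ @Flat : MorphismProperty Scheme.{u}) := by
  rw [inf_comm]
  exact inf_le_inf le_rfl (IsLocalIso.le_of_isZariskiLocalAtSource _)

/-- Quasi-compactness descends along fpqc covers. -/
theorem quasiCompact_descendsAlong_fpqc :
    DescendsAlong @QuasiCompact (fpqc.{u}) := by
  refine IsZariskiLocalAtTarget.descendsAlong_inf_quasiCompact _ _ locIso_surj_le ?_
  intro R S Y φ g ⟨hsurj, hflat⟩ hfst
  have : QuasiCompact (pullback.fst (Spec.map φ) g) := hfst
  have : Surjective (Spec.map φ) := hsurj
  have hc : CompactSpace ↥(pullback (Spec.map φ) g) :=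
    (quasiCompact_iff_compactSpace (pullback.fst (Spec.map φ) g)).mp inferInstance
  have hs : Surjective (pullback.snd (Spec.map φ) g) := inferInstance
  have : CompactSpace Y :=
    ⟨by
      rw [← Set.range_eq_univ.mpr (pullback.snd (Spec.map φ) g).surjective]
      exact isCompact_range (pullback.snd (Spec.map φ) g).continuous⟩
  exact (quasiCompact_iff_compactSpace g).mpr this

/-- Quasi-separatedness descends along fpqc covers. -/
theorem quasiSeparated_descendsAlong_fpqc :
    DescendsAlong @QuasiSeparated (fpqc.{u}) := by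
  rw [quasiSeparated_eq_diagonal_is_quasiCompact]
  have := quasiCompact_descendsAlong_fpqc.{u}
  infer_instance

set_option backward.isDefEq.respectTransparency false in
/-- Key step: if `Y` is qcqs and `q : T ⟶ Spec Γ(Y, ⊤)` is flat with `T` affine, such that
the base change of `Y` to `T` is affine, then the base change of `Y.toSpecΓ` along `q` is an
isomorphism. -/
theorem isIso_pullback_fst_toSpecΓ {Y T : Scheme.{u}} [CompactSpace Y] [QuasiSeparatedSpace Y]
    [IsAffine T] (q : T ⟶ Spec Γ(Y, ⊤)) [Flat q] [IsAffine (pullback q Y.toSpecΓ)] :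
    IsIso (pullback.fst q Y.toSpecΓ) := by
  let c := Y.toSpecΓ
  have H : IsPullback (pullback.snd q c) (pullback.fst q c) c q := (IsPullback.of_hasPullback q c).flip
  have hUY : (⊤ : (pullback q c).Opens) = pullback.snd q c ⁻¹ᵁ ⊤ ⊓ pullback.fst q c ⁻¹ᵁ ⊤ := by simp
  have h1 := isIso_pushoutSection_of_isQuasiSeparated_of_flat_right H (US := ⊤) (UT := ⊤) (UX := ⊤)
    (by simp) (by simp) hUY (isAffineOpen_top _) (isAffineOpen_top _)
    (by simpa using CompactSpace.isCompact_univ)
    (by simpa using (isQuasiSeparated_univ_iff.mpr inferInstance))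
  have h2 : IsIso (c.appLE ⊤ ⊤ (by simp)) := by
    have : c.appLE ⊤ ⊤ (by simp) = c.appTop := by
      simp [Scheme.Hom.appTop, Scheme.Hom.app_eq_appLE]
    rw [this, Scheme.toSpecΓ_appTop]
    infer_instance
  have h3 : pushout.inr (c.appLE ⊤ ⊤ (by simp)) (q.appLE ⊤ ⊤ (by simp)) ≫
      pushoutSection H (US := ⊤) (UT := ⊤) (UX := ⊤) (by simp) (by simp) hUY =
      (pullback.fst q c).appLE ⊤ ⊤ (by simp) := by
    simp [pushoutSection]
  have h4 : IsIso ((pullback.fst q c).appLE ⊤ ⊤ (by simp)) := by
    rw [← h3]
    infer_instance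
  have h5 : IsIso (pullback.fst q c).appTop := by
    have : (pullback.fst q c).appLE ⊤ ⊤ (by simp) = (pullback.fst q c).appTop := by
      simp [Scheme.Hom.appTop, Scheme.Hom.app_eq_appLE]
    rwa [this] at h4
  exact (HasAffineProperty.iff_of_isAffine (P := isomorphisms Scheme)).mpr ⟨inferInstance, h5⟩

set_option backward.isDefEq.respectTransparency false in
/-- Affine morphisms descend along fpqc covers. -/
theorem isAffineHom_descendsAlong_fpqc :
    DescendsAlong @IsAffineHom (fpqc.{u}) := by
  refine IsZariskiLocalAtTarget.descendsAlong_inf_quasiCompact _ _ locIso_surj_le ?_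
  intro R S Y φ g ⟨hsurj, hflat⟩ hfst
  have : IsAffineHom (pullback.fst (Spec.map φ) g) := hfst
  have : Surjective (Spec.map φ) := hsurj
  have : Flat (Spec.map φ) := hflat
  have hfpqc : fpqc (Spec.map φ) := ⟨⟨hsurj, hflat⟩, inferInstance⟩
  have := quasiCompact_descendsAlong_fpqc.{u}
  have := quasiSeparated_descendsAlong_fpqc.{u}
  have hqc : QuasiCompact g :=
    of_pullback_fst_of_descendsAlong (P := @QuasiCompact) (Q := fpqc) (f := Spec.map φ)
      hfpqc inferInstance
  have hqs : QuasiSeparated g :=
    of_pullback_fst_of_descendsAlong (P := @QuasiSeparated) (Q := fpqc) (f := Spec.map φ)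
      hfpqc inferInstance
  have : CompactSpace Y := (quasiCompact_iff_compactSpace g).mp hqc
  have : QuasiSeparatedSpace Y := quasiSeparatedSpace_of_quasiSeparated g
  let c := Y.toSpecΓ
  let s : Spec Γ(Y, ⊤) ⟶ Spec R := Spec.map g.appTop ≫ Spec.map (Scheme.ΓSpecIso R).inv
  have hcs : c ≫ s = g := by
    simp only [c, s]
    rw [← Scheme.toSpecΓ_naturality_assoc, toSpecΓ_SpecMap_ΓSpecIso_inv, Category.comp_id]
  let q := pullback.snd (Spec.map φ) s
  have : IsAffine (pullback (Spec.map φ) g) := isAffine_of_isAffineHom (pullback.fst (Spec.map φ) g)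
  let e : pullback q c ≅ pullback (Spec.map φ) g :=
    pullbackLeftPullbackSndIso (Spec.map φ) s c ≪≫ pullback.congrHom rfl hcs
  have : IsAffine (pullback q c) := IsAffine.of_isIso e.hom
  have hiso : IsIso (pullback.fst q c) := isIso_pullback_fst_toSpecΓ q
  have hq : fpqc q := ⟨⟨inferInstance, inferInstance⟩, inferInstance⟩
  have hc : IsIso c :=
    of_pullback_fst_of_descendsAlong (P := isomorphisms Scheme) (Q := fpqc) (f := q) hq hiso
  have : IsAffine Y := IsAffine.of_isIso c
  infer_instance

theorem faithfullyFlat_of_surjective_flat {R S : CommRingCat.{u}} {f : R ⟶ S}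
    (h : (@Surjective ⊓ @Flat : MorphismProperty Scheme.{u}) (Spec.map f)) :
    f.hom.FaithfullyFlat := by
  obtain ⟨hf₁, hf₂⟩ := h
  rw [RingHom.FaithfullyFlat.iff_flat_and_comap_surjective]
  refine ⟨?_, (Spec.map f).surjective⟩
  rwa [HasRingHomProperty.Spec_iff (P := @Flat)] at hf₂

set_option backward.isDefEq.respectTransparency false in
/-- A property of the form `affineAnd Q` descends along fpqc covers as soon as `Q` codescends
along faithfully flat ring maps. -/
theorem descendsAlong_fpqc_of_affineAnd (P : MorphismProperty Scheme.{u})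
    (Q : ∀ {R S : Type u} [CommRing R] [CommRing S], (R →+* S) → Prop)
    [P.IsStableUnderBaseChange]
    (hP : HasAffineProperty P (affineAnd Q))
    (hQ : RingHom.RespectsIso Q) (hQQ' : RingHom.CodescendsAlong Q RingHom.FaithfullyFlat) :
    P.DescendsAlong (fpqc.{u}) := by
  apply IsZariskiLocalAtTarget.descendsAlong_inf_quasiCompact _ _ locIso_surj_le
  introv h hf
  have := isAffineHom_descendsAlong_fpqc.{u}
  have : IsAffine Y := by
    convert! isAffine_of_isAffineHom g
    exact MorphismProperty.of_pullback_fst_of_descendsAlong (P := @IsAffineHom) (Q := fpqc)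
      (f := Spec.map φ) ⟨h, inferInstance⟩ <|
      AlgebraicGeometry.HasAffineProperty.affineAnd_le_isAffineHom P inferInstance _ hf
  wlog hY : ∃ S, Y = Spec S generalizing Y
  · rw [← P.cancel_left_of_respectsIso Y.isoSpec.inv]
    have heq : pullback.fst (Spec.map φ) (Y.isoSpec.inv ≫ g) =
        pullback.map _ _ _ _ (𝟙 _) (Y.isoSpec.inv) (𝟙 _) (by simp) (by simp) ≫
          pullback.fst (Spec.map φ) g := (pullback.lift_fst _ _ _).symm
    refine this _ ?_ inferInstance ⟨_, rfl⟩
    rwa [heq, P.cancel_left_of_respectsIso]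
  obtain ⟨Y, rfl⟩ := hY
  apply of_pullback_fst_Spec_of_codescendsAlong P (@Surjective ⊓ @Flat) hQQ'
    (fun h => faithfullyFlat_of_surjective_flat h) _ h hf
  simp [HasAffineProperty.SpecMap_iff_of_affineAnd hP hQ]

/-- Closed immersions descend along fpqc covers. -/
theorem isClosedImmersion_descendsAlong_fpqc :
    DescendsAlong @IsClosedImmersion (fpqc.{u}) :=
  descendsAlong_fpqc_of_affineAnd @IsClosedImmersion (fun f => Function.Surjective f)
    IsClosedImmersion.hasAffineProperty RingHom.surjective_respectsIso
    RingHom.FaithfullyFlat.codescendsAlong_surjective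

/-- Finite morphisms descend along fpqc covers. -/
theorem isFinite_descendsAlong_fpqc :
    DescendsAlong @IsFinite (fpqc.{u}) :=
  descendsAlong_fpqc_of_affineAnd @IsFinite RingHom.Finite
    inferInstance RingHom.finite_respectsIso
    RingHom.Finite.codescendsAlong_faithfullyFlat

/-- Separated morphisms descend along fpqc covers. -/
theorem isSeparated_descendsAlong_fpqc :
    DescendsAlong @IsSeparated (fpqc.{u}) := by
  rw [IsSeparated.isSeparated_eq_diagonal_isClosedImmersion]
  have := isClosedImmersion_descendsAlong_fpqc.{u}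
  infer_instance

open TensorProduct in
theorem isIntegral_of_tensorProduct_of_faithfullyFlat {R S T : Type*} [CommRing R] [CommRing S]
    [CommRing T] [Algebra R S] [Algebra R T] [Module.FaithfullyFlat R S]
    (H : Algebra.IsIntegral S (S ⊗[R] T)) : Algebra.IsIntegral R T := by
  refine ⟨fun t => ?_⟩
  let A : Subalgebra R T := Algebra.adjoin R {t}
  have hft : Algebra.FiniteType R A := by
    rw [← Subalgebra.fg_iff_finiteType]
    have := Subalgebra.fg_adjoin_finset (R := R) ({t} : Finset T)
    simpa using this
  let ι : S ⊗[R] A →ₐ[S] S ⊗[R] T := Algebra.TensorProduct.map (AlgHom.id S S) A.val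
  have hι : Function.Injective ι :=
    Module.Flat.lTensor_preserves_injective_linearMap (M := S) A.val.toLinearMap Subtype.val_injective
  have hint : Algebra.IsIntegral S (S ⊗[R] A) :=
    ⟨fun x => (isIntegral_algHom_iff ι hι).mp (H.isIntegral _)⟩
  have hfin : Module.Finite S (S ⊗[R] A) := Algebra.IsIntegral.finite
  have : Module.Finite R A := Module.Finite.of_finite_tensorProduct_of_faithfullyFlat S
  have ht : IsIntegral R (⟨t, Algebra.subset_adjoin (Set.mem_singleton t)⟩ : A) :=
    IsIntegral.of_finite R _
  exact ht.map A.val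

theorem isIntegral_codescendsAlong_faithfullyFlat :
    RingHom.CodescendsAlong RingHom.IsIntegral RingHom.FaithfullyFlat := by
  refine .mk _ RingHom.isIntegral_respectsIso fun R S T _ _ _ _ _ h h' ↦ ?_
  rw [RingHom.faithfullyFlat_algebraMap_iff] at h
  rw [algebraMap_isIntegral_iff] at h' ⊢
  exact isIntegral_of_tensorProduct_of_faithfullyFlat h'

/-- Integral morphisms descend along fpqc covers. -/
theorem isIntegralHom_descendsAlong_fpqc :
    DescendsAlong @IsIntegralHom (fpqc.{u}) :=
  descendsAlong_fpqc_of_affineAnd @IsIntegralHom RingHom.IsIntegral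
    IsIntegralHom.hasAffineProperty RingHom.isIntegral_respectsIso
    isIntegral_codescendsAlong_faithfullyFlat

open TensorProduct in
theorem quasiFinite_of_tensorProduct_of_faithfullyFlat {R A S : Type*} [CommRing R] [CommRing A]
    [CommRing S] [Algebra R A] [Algebra R S] [Module.FaithfullyFlat R A]
    [H : Algebra.QuasiFinite A (A ⊗[R] S)] : Algebra.QuasiFinite R S := by
  refine ⟨fun p hp ↦ ?_⟩
  obtain ⟨P, hP⟩ := PrimeSpectrum.comap_surjective_of_faithfullyFlat (A := R) (B := A) ⟨p, hp⟩
  have hPp : P.asIdeal.under R = p := congr_arg PrimeSpectrum.asIdeal hP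
  have : P.asIdeal.LiesOver p := ⟨hPp.symm⟩
  let := Localization.AtPrime.algebraOfLiesOver p P.asIdeal
  let e : P.asIdeal.Fiber (A ⊗[R] S) ≃ₐ[P.asIdeal.ResidueField]
      P.asIdeal.ResidueField ⊗[p.ResidueField] (p.Fiber S) :=
    (Algebra.TensorProduct.cancelBaseChange _ _ _ _ _).trans
      (Algebra.TensorProduct.cancelBaseChange _ _ _ _ _).symm
  have h1 : Module.Finite P.asIdeal.ResidueField (P.asIdeal.Fiber (A ⊗[R] S)) := inferInstance
  have h2 : Module.Finite P.asIdeal.ResidueField
      (P.asIdeal.ResidueField ⊗[p.ResidueField] (p.Fiber S)) :=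
    .of_surjective e.toLinearMap e.surjective
  exact Module.Finite.of_finite_tensorProduct_of_faithfullyFlat P.asIdeal.ResidueField

theorem quasiFinite_codescendsAlong_faithfullyFlat :
    RingHom.CodescendsAlong RingHom.QuasiFinite RingHom.FaithfullyFlat := by
  refine .mk _ RingHom.QuasiFinite.respectsIso fun R S T _ _ _ _ _ h h' ↦ ?_
  rw [RingHom.faithfullyFlat_algebraMap_iff] at h
  rw [RingHom.quasiFinite_algebraMap] at h' ⊢
  exact quasiFinite_of_tensorProduct_of_faithfullyFlat (A := S)

/-- Locally quasi-finite morphisms descend along fpqc covers. -/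
theorem locallyQuasiFinite_descendsAlong_fpqc :
    DescendsAlong @LocallyQuasiFinite (fpqc.{u}) :=
  HasRingHomProperty.descendsAlong_flat quasiFinite_codescendsAlong_faithfullyFlat

/-- Proper morphisms descend along fpqc covers. -/
theorem isProper_descendsAlong_fpqc :
    DescendsAlong @IsProper (fpqc.{u}) := by
  rw [isProper_eq]
  have := isSeparated_descendsAlong_fpqc.{u}
  infer_instance

end Groth.Agent.H1
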