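import Mathlib

set_option autoImplicit false

/-!
# Finite type to finite presentation: generators of the fibre of an ideal
-/

namespace Groth.Agent.H1.FibreCrit

universe u

open TensorProduct

attribute [local instance] MvPolynomial.algebraMvPolynomial

/-- For an ideal `J` of a polynomial ring over `A` in finitely many variables and a prime `𝔯` of
`A`, finitely many elements of `J` generate `J` modulo `𝔯` and up to multiplication by elements
of `A ∖ 𝔯` (because the polynomial ring over the residue field is Noetherian). -/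
theorem exists_finset_fibre_gen {A : Type u} [CommRing A] (𝔯 : Ideal A) [𝔯.IsPrime]
    {σ : Type*} [Finite σ] (J : Ideal (MvPolynomial σ A)) :
    ∃ F : Finset (MvPolynomial σ A), (↑F : Set (MvPolynomial σ A)) ⊆ J ∧
      ∀ j ∈ J, ∃ a : A, a ∉ 𝔯 ∧
        MvPolynomial.C a * j ∈ Ideal.span (↑F : Set (MvPolynomial σ A)) ⊔ 𝔯.map MvPolynomial.C := by
  classical
  set K := FractionRing (A ⧸ 𝔯) with hK
  set ψ₁ : MvPolynomial σ A →+* MvPolynomial σ (A ⧸ 𝔯) :=
    MvPolynomial.map (Ideal.Quotient.mk 𝔯) with hψ₁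
  set ψ₂ : MvPolynomial σ (A ⧸ 𝔯) →+* MvPolynomial σ K :=
    algebraMap (MvPolynomial σ (A ⧸ 𝔯)) (MvPolynomial σ K) with hψ₂
  have hψ₂inj : Function.Injective ψ₂ :=
    MvPolynomial.map_injective _ (IsFractionRing.injective (A ⧸ 𝔯) K)
  have hψ₁surj : Function.Surjective ψ₁ :=
    MvPolynomial.map_surjective _ Ideal.Quotient.mk_surjective
  have hker : RingHom.ker ψ₁ = 𝔯.map MvPolynomial.C := by
    rw [hψ₁, MvPolynomial.ker_map, Ideal.mk_ker]
  set ψ : MvPolynomial σ A →+* MvPolynomial σ K := ψ₂.comp ψ₁ with hψ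
  -- Noetherianity
  have hfg : (Submodule.span (MvPolynomial σ K) (ψ '' (J : Set (MvPolynomial σ A)))).FG :=
    IsNoetherian.noetherian _
  obtain ⟨s', hs'sub, hs'span⟩ := (Submodule.fg_span_iff_fg_span_finset_subset _).mp hfg
  obtain ⟨F, hFJ, hFs'⟩ := Finset.subset_set_image_iff.mp hs'sub
  refine ⟨F, hFJ, fun j hj => ?_⟩
  have hj1 : ψ j ∈ Ideal.map ψ₂ (Ideal.map ψ₁ (Ideal.span (↑F : Set (MvPolynomial σ A)))) := by
    rw [Ideal.map_map, Ideal.map_span]
    have : ψ j ∈ Submodule.span (MvPolynomial σ K) (ψ '' (J : Set (MvPolynomial σ A))) :=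
      Submodule.subset_span ⟨j, hj, rfl⟩
    rw [hs'span, ← hFs', Finset.coe_image] at this
    exact this
  rw [IsLocalization.mem_map_algebraMap_iff
    ((nonZeroDivisors (A ⧸ 𝔯)).map (MvPolynomial.C (σ := σ))) (MvPolynomial σ K)] at hj1
  obtain ⟨⟨⟨i, hi⟩, ⟨m, hm⟩⟩, him⟩ := hj1
  obtain ⟨ā, hā, rfl⟩ := hm
  obtain ⟨a, rfl⟩ := Ideal.Quotient.mk_surjective ā
  have ha : a ∉ 𝔯 := by
    intro ha
    have : (Ideal.Quotient.mk 𝔯 a) = 0 := Ideal.Quotient.eq_zero_iff_mem.mpr ha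
    rw [this] at hā
    exact zero_notMem_nonZeroDivisors hā
  refine ⟨a, ha, ?_⟩
  -- descend the equation to `(A ⧸ 𝔯)[x]`
  have h1 : ψ₁ (MvPolynomial.C a * j) = i := by
    apply hψ₂inj
    rw [map_mul, map_mul, mul_comm]
    have : ψ₁ (MvPolynomial.C a) = MvPolynomial.C (Ideal.Quotient.mk 𝔯 a) := by
      rw [hψ₁, MvPolynomial.map_C]
    rw [this]
    exact him
  have h2 : ψ₁ (MvPolynomial.C a * j) ∈
      Ideal.map ψ₁ (Ideal.span (↑F : Set (MvPolynomial σ A))) := by
    rw [h1]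
    exact hi
  obtain ⟨y, hy, hyeq⟩ := (Ideal.mem_map_iff_of_surjective ψ₁ hψ₁surj).mp h2
  have h3 : MvPolynomial.C a * j - y ∈ 𝔯.map MvPolynomial.C := by
    rw [← hker, RingHom.mem_ker, map_sub, hyeq, sub_self]
  have : MvPolynomial.C a * j = y + (MvPolynomial.C a * j - y) := by ring
  rw [this]
  exact Submodule.add_mem_sup hy h3

end Groth.Agent.H1.FibreCrit
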