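import Mathlib

set_option autoImplicit false

/-!
# General lemmas for the fibrewise criterion of flatness: change of rings in fibre flatness
-/

namespace Groth.Agent.H1.FibreCrit

universe u

open TensorProduct

section Surj

/-- A module over a quotient ring which is flat over the ring is flat over the quotient. -/
theorem flat_of_surjective_of_flat {Q B M : Type*} [CommRing Q] [CommRing B] [Algebra Q B]
    [AddCommGroup M] [Module Q M] [Module B M] [IsScalarTower Q B M]
    (hsurj : Function.Surjective (algebraMap Q B)) [hflat : Module.Flat Q M] :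
    Module.Flat B M := by
  rw [Module.Flat.iff_forall_isTrivialRelation]
  intro l f x hfx
  choose g hg using fun i => hsurj (f i)
  have hgx : ∑ i, g i • x i = 0 := by
    rw [← hfx]
    refine Finset.sum_congr rfl fun i _ => ?_
    rw [← hg i, algebraMap_smul]
  obtain ⟨k, a, y, hxy, haf⟩ := (Module.Flat.iff_forall_isTrivialRelation.mp hflat) hgx
  refine ⟨k, fun i j => algebraMap Q B (a i j), y, fun i => ?_, fun j => ?_⟩
  · rw [hxy i]
    refine Finset.sum_congr rfl fun j _ => ?_
    rw [algebraMap_smul]
  · have := congrArg (algebraMap Q B) (haf j)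
    rw [map_sum, map_zero] at this
    rw [← this]
    refine Finset.sum_congr rfl fun i _ => ?_
    rw [map_mul, hg i]

end Surj

section Pushout

variable {R₁ R₂ : Type*} [CommRing R₁] [CommRing R₂] [Algebra R₁ R₂] (I : Ideal R₁)

/-- The quotient of an algebra by an extended ideal is a pushout. -/
instance isPushout_quotient :
    Algebra.IsPushout R₁ (R₁ ⧸ I) R₂ (R₂ ⧸ I.map (algebraMap R₁ R₂)) := by
  constructor
  refine IsBaseChange.of_equiv
    (Algebra.TensorProduct.quotIdealMapEquivQuotTensor R₂ I).symm.toLinearEquiv ?_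
  intro x
  rw [AlgEquiv.toLinearEquiv_apply, AlgEquiv.symm_apply_eq]
  exact (Algebra.TensorProduct.quotIdealMapEquivQuotTensor_mk R₂ I x).symm

/-- Fibre flatness over a quotient of `R₂` gives fibre flatness over the quotient of `R₁`, provided
the quotient of `R₂` is flat over the quotient of `R₁`. -/
theorem flat_quotient_tensor_of_flat {M : Type*} [AddCommGroup M] [Module R₁ M] [Module R₂ M]
    [IsScalarTower R₁ R₂ M]
    [Module.Flat (R₁ ⧸ I) (R₂ ⧸ I.map (algebraMap R₁ R₂))]
    [Module.Flat (R₂ ⧸ I.map (algebraMap R₁ R₂)) ((R₂ ⧸ I.map (algebraMap R₁ R₂)) ⊗[R₂] M)] :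
    Module.Flat (R₁ ⧸ I) ((R₁ ⧸ I) ⊗[R₁] M) := by
  have h1 : Module.Flat (R₁ ⧸ I) ((R₂ ⧸ I.map (algebraMap R₁ R₂)) ⊗[R₂] M) :=
    Module.Flat.trans (R₁ ⧸ I) (R₂ ⧸ I.map (algebraMap R₁ R₂)) _
  exact (Module.Flat.equiv_iff
    (Algebra.IsPushout.cancelBaseChange R₁ (R₁ ⧸ I) R₂ (R₂ ⧸ I.map (algebraMap R₁ R₂)) M)).mp h1

end Pushout

section Tower

/-- Scalar towers pass to localized modules. -/
theorem isScalarTower_localizedModule {X P M : Type*} [CommRing X] [CommRing P] [Algebra X P]
    [AddCommGroup M] [Module X M] [Module P M] [IsScalarTower X P M] (S : Submonoid P) :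
    IsScalarTower X P (LocalizedModule S M) := by
  refine ⟨fun a b x => ?_⟩
  induction x using LocalizedModule.induction_on with
  | h m s =>
    rw [LocalizedModule.smul'_mk, LocalizedModule.smul'_mk, LocalizedModule.smul'_mk, smul_assoc]

end Tower

end Groth.Agent.H1.FibreCrit
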