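import Mathlib

set_option autoImplicit false

/-!
# The level-one functor `C ↦ C[x]/(f)` for the non-Noetherian fibrewise criterion of flatness
-/

namespace Groth.Agent.H1.FibreCrit

universe u

open TensorProduct

/-- Level-one data: finitely many polynomials in finitely many variables. -/
structure L1 (Z₀ : Type u) [CommRing Z₀] where
  /-- number of variables -/
  r : ℕ
  /-- number of equations -/
  a : ℕ
  /-- the equations -/
  f : Fin a → MvPolynomial (Fin r) Z₀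

namespace L1

variable {Z₀ : Type u} [CommRing Z₀] (𝓛 : L1 Z₀)

section basic

variable (C : Type u) [CommRing C] [Algebra Z₀ C]

/-- The equations over `C`. -/
noncomputable def fC (i : Fin 𝓛.a) : MvPolynomial (Fin 𝓛.r) C :=
  MvPolynomial.map (algebraMap Z₀ C) (𝓛.f i)

/-- The ideal of equations over `C`. -/
noncomputable def I : Ideal (MvPolynomial (Fin 𝓛.r) C) := Ideal.span (Set.range (𝓛.fC C))

/-- The ring `C[x]/(f)`. -/
def Q : Type u := MvPolynomial (Fin 𝓛.r) C ⧸ 𝓛.I C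

noncomputable instance : CommRing (𝓛.Q C) := inferInstanceAs (CommRing (_ ⧸ 𝓛.I C))

/-- The quotient map. -/
noncomputable def qmk : MvPolynomial (Fin 𝓛.r) C →+* 𝓛.Q C := Ideal.Quotient.mk (𝓛.I C)

lemma qmk_surjective : Function.Surjective (𝓛.qmk C) := Ideal.Quotient.mk_surjective

lemma ker_qmk : RingHom.ker (𝓛.qmk C) = 𝓛.I C := Ideal.mk_ker

lemma qmk_fC (i : Fin 𝓛.a) : 𝓛.qmk C (𝓛.fC C i) = 0 :=
  Ideal.Quotient.eq_zero_iff_mem.mpr (Ideal.subset_span ⟨i, rfl⟩)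

lemma qmk_eq_zero_iff (p : MvPolynomial (Fin 𝓛.r) C) : 𝓛.qmk C p = 0 ↔ p ∈ 𝓛.I C :=
  Ideal.Quotient.eq_zero_iff_mem

/-- Lifting ring homomorphisms to the quotient. -/
noncomputable def lift {T : Type*} [CommRing T] (g : MvPolynomial (Fin 𝓛.r) C →+* T)
    (hg : ∀ i, g (𝓛.fC C i) = 0) : 𝓛.Q C →+* T :=
  Ideal.Quotient.lift (𝓛.I C) g (by
    intro p hp
    have : 𝓛.I C ≤ RingHom.ker g := by
      rw [I, Ideal.span_le]
      rintro _ ⟨i, rfl⟩
      exact hg i
    exact this hp)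

@[simp] lemma lift_qmk {T : Type*} [CommRing T] (g : MvPolynomial (Fin 𝓛.r) C →+* T)
    (hg : ∀ i, g (𝓛.fC C i) = 0) (p : MvPolynomial (Fin 𝓛.r) C) :
    𝓛.lift C g hg (𝓛.qmk C p) = g p := rfl

lemma ringHom_ext {T : Type*} [Semiring T] {g₁ g₂ : 𝓛.Q C →+* T}
    (h : g₁.comp (𝓛.qmk C) = g₂.comp (𝓛.qmk C)) : g₁ = g₂ :=
  Ideal.Quotient.ringHom_ext h

instance [IsNoetherianRing C] : IsNoetherianRing (𝓛.Q C) :=
  inferInstanceAs (IsNoetherianRing (_ ⧸ 𝓛.I C))

/-- `Q C` as an algebra over the polynomial ring. -/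
noncomputable instance algebraPoly : Algebra (MvPolynomial (Fin 𝓛.r) C) (𝓛.Q C) :=
  (𝓛.qmk C).toAlgebra

lemma algebraMap_poly (p : MvPolynomial (Fin 𝓛.r) C) :
    algebraMap (MvPolynomial (Fin 𝓛.r) C) (𝓛.Q C) p = 𝓛.qmk C p := rfl

end basic

section alg

variable (C₀ C : Type u) [CommRing C₀] [CommRing C] [Algebra Z₀ C] [Algebra C₀ C]

/-- `Q C` is an algebra over every ring `C` is an algebra over. -/
noncomputable instance algebra : Algebra C₀ (𝓛.Q C) :=
  ((𝓛.qmk C).comp (algebraMap C₀ (MvPolynomial (Fin 𝓛.r) C))).toAlgebra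

lemma algebraMap_def (c : C₀) :
    algebraMap C₀ (𝓛.Q C) c = 𝓛.qmk C (MvPolynomial.C (algebraMap C₀ C c)) := rfl

instance isScalarTower_poly : IsScalarTower C₀ (MvPolynomial (Fin 𝓛.r) C) (𝓛.Q C) :=
  IsScalarTower.of_algebraMap_eq fun c => rfl

instance isScalarTower_base (C₁ : Type u) [CommRing C₁] [Algebra C₁ C₀] [Algebra C₁ C]
    [IsScalarTower C₁ C₀ C] : IsScalarTower C₁ C₀ (𝓛.Q C) :=
  IsScalarTower.of_algebraMap_eq fun c => by
    rw [algebraMap_def, algebraMap_def, ← IsScalarTower.algebraMap_apply]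

end alg

section map

variable (C C' : Type u) [CommRing C] [CommRing C'] [Algebra Z₀ C] [Algebra Z₀ C'] [Algebra C C']
  [IsScalarTower Z₀ C C']

lemma map_fC (i : Fin 𝓛.a) :
    MvPolynomial.map (algebraMap C C') (𝓛.fC C i) = 𝓛.fC C' i := by
  rw [fC, fC, MvPolynomial.map_map, ← IsScalarTower.algebraMap_eq]

/-- Functoriality of `Q`. -/
noncomputable def Qmap : 𝓛.Q C →+* 𝓛.Q C' :=
  𝓛.lift C ((𝓛.qmk C').comp (MvPolynomial.map (algebraMap C C'))) (fun i => by
    rw [RingHom.comp_apply, map_fC, qmk_fC])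

@[simp] lemma Qmap_qmk (p : MvPolynomial (Fin 𝓛.r) C) :
    𝓛.Qmap C C' (𝓛.qmk C p) = 𝓛.qmk C' (MvPolynomial.map (algebraMap C C') p) := rfl

/-- The algebra structure induced by functoriality. -/
noncomputable instance algebraQ : Algebra (𝓛.Q C) (𝓛.Q C') := (𝓛.Qmap C C').toAlgebra

lemma algebraMap_Q (x : 𝓛.Q C) : algebraMap (𝓛.Q C) (𝓛.Q C') x = 𝓛.Qmap C C' x := rfl

instance isScalarTower_Q : IsScalarTower C (𝓛.Q C) (𝓛.Q C') :=
  IsScalarTower.of_algebraMap_eq fun c => by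
    rw [algebraMap_Q, algebraMap_def, algebraMap_def, Qmap_qmk, MvPolynomial.map_C,
      Algebra.algebraMap_self_apply]

lemma I_map : (𝓛.I C).map (MvPolynomial.map (algebraMap C C')) = 𝓛.I C' := by
  rw [I, Ideal.map_span, I, ← Set.range_comp]
  congr 2
  funext i
  exact 𝓛.map_fC C C' i

end map

section tower

variable (C C' C'' : Type u) [CommRing C] [CommRing C'] [CommRing C''] [Algebra Z₀ C]
  [Algebra Z₀ C'] [Algebra Z₀ C''] [Algebra C C'] [Algebra C' C''] [Algebra C C'']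
  [IsScalarTower Z₀ C C'] [IsScalarTower Z₀ C' C''] [IsScalarTower Z₀ C C'']
  [IsScalarTower C C' C'']

instance isScalarTower_QQQ : IsScalarTower (𝓛.Q C) (𝓛.Q C') (𝓛.Q C'') :=
  IsScalarTower.of_algebraMap_eq fun x => by
    obtain ⟨p, rfl⟩ := 𝓛.qmk_surjective C x
    rw [algebraMap_Q, algebraMap_Q, algebraMap_Q, Qmap_qmk, Qmap_qmk, Qmap_qmk,
      MvPolynomial.map_map, ← IsScalarTower.algebraMap_eq]

end tower

end L1

end Groth.Agent.H1.FibreCrit
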