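import Mathlib
import Groth.Agent.H1.FibreCritQ

set_option autoImplicit false

/-!
# The surjection `C[y, x] → Q(C)[y]`
-/

namespace Groth.Agent.H1.FibreCrit

universe u

open TensorProduct

namespace L1

variable {Z₀ : Type u} [CommRing Z₀] (𝓛 : L1 Z₀) (s : ℕ)

section

variable (C : Type u) [CommRing C] [Algebra Z₀ C]

/-- The images of the variables. -/
noncomputable def phiVar : Fin (s + 𝓛.r) → MvPolynomial (Fin s) (𝓛.Q C) :=
  Fin.addCases (fun j => MvPolynomial.X j) (fun i => MvPolynomial.C (𝓛.qmk C (MvPolynomial.X i)))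

/-- The surjection `C[y, x] → Q(C)[y]`. -/
noncomputable def phi : MvPolynomial (Fin (s + 𝓛.r)) C →ₐ[C] MvPolynomial (Fin s) (𝓛.Q C) :=
  MvPolynomial.aeval (𝓛.phiVar s C)

@[simp] lemma phi_X_castAdd (j : Fin s) :
    𝓛.phi s C (MvPolynomial.X (Fin.castAdd 𝓛.r j)) = MvPolynomial.X j := by
  rw [phi, MvPolynomial.aeval_X, phiVar, Fin.addCases_left]

@[simp] lemma phi_X_natAdd (i : Fin 𝓛.r) :
    𝓛.phi s C (MvPolynomial.X (Fin.natAdd s i)) = MvPolynomial.C (𝓛.qmk C (MvPolynomial.X i)) := by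
  rw [phi, MvPolynomial.aeval_X, phiVar, Fin.addCases_right]

@[simp] lemma phi_C (c : C) :
    𝓛.phi s C (MvPolynomial.C c) = MvPolynomial.C (𝓛.qmk C (MvPolynomial.C c)) := by
  rw [phi, MvPolynomial.aeval_C]
  rfl

lemma phi_rename (u : MvPolynomial (Fin 𝓛.r) C) :
    𝓛.phi s C (MvPolynomial.rename (Fin.natAdd s) u) = MvPolynomial.C (𝓛.qmk C u) := by
  have h : ((𝓛.phi s C).toRingHom.comp (MvPolynomial.rename (Fin.natAdd s)).toRingHom) =
      (MvPolynomial.C).comp (𝓛.qmk C) := by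
    refine MvPolynomial.ringHom_ext (fun c => ?_) (fun i => ?_)
    · simp only [RingHom.comp_apply, AlgHom.toRingHom_eq_coe, RingHom.coe_coe,
        MvPolynomial.rename_C, phi_C]
    · simp
  exact DFunLike.congr_fun h u

lemma phi_surjective : Function.Surjective (𝓛.phi s C) := by
  intro p
  induction p using MvPolynomial.induction_on with
  | C b =>
    obtain ⟨u, rfl⟩ := 𝓛.qmk_surjective C b
    exact ⟨_, 𝓛.phi_rename s C u⟩
  | add p q hp hq =>
    obtain ⟨p', rfl⟩ := hp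
    obtain ⟨q', rfl⟩ := hq
    exact ⟨p' + q', map_add _ _ _⟩
  | mul_X p j hp =>
    obtain ⟨p', rfl⟩ := hp
    exact ⟨p' * MvPolynomial.X (Fin.castAdd 𝓛.r j), by rw [map_mul, phi_X_castAdd]⟩

/-- The generators of the kernel of `phi`. -/
noncomputable def h (i : Fin 𝓛.a) : MvPolynomial (Fin (s + 𝓛.r)) C :=
  MvPolynomial.rename (Fin.natAdd s) (𝓛.fC C i)

lemma phi_h (i : Fin 𝓛.a) : 𝓛.phi s C (𝓛.h s C i) = 0 := by
  rw [h, phi_rename, qmk_fC, map_zero]

/-- The ideal generated by the `h i`. -/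
noncomputable def J : Ideal (MvPolynomial (Fin (s + 𝓛.r)) C) := Ideal.span (Set.range (𝓛.h s C))

lemma J_le_ker : 𝓛.J s C ≤ RingHom.ker (𝓛.phi s C).toRingHom := by
  rw [J, Ideal.span_le]
  rintro _ ⟨i, rfl⟩
  exact 𝓛.phi_h s C i

/-- The inverse map on coefficients. -/
noncomputable def rho : 𝓛.Q C →+* MvPolynomial (Fin (s + 𝓛.r)) C ⧸ 𝓛.J s C :=
  𝓛.lift C ((Ideal.Quotient.mk (𝓛.J s C)).comp (MvPolynomial.rename (Fin.natAdd s)).toRingHom)
    (fun i => by
      rw [RingHom.comp_apply]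
      exact Ideal.Quotient.eq_zero_iff_mem.mpr (Ideal.subset_span ⟨i, rfl⟩))

/-- The inverse map. -/
noncomputable def rhoPoly :
    MvPolynomial (Fin s) (𝓛.Q C) →+* MvPolynomial (Fin (s + 𝓛.r)) C ⧸ 𝓛.J s C :=
  MvPolynomial.eval₂Hom (𝓛.rho s C)
    (fun j => Ideal.Quotient.mk (𝓛.J s C) (MvPolynomial.X (Fin.castAdd 𝓛.r j)))

lemma rhoPoly_comp_phi :
    (𝓛.rhoPoly s C).comp (𝓛.phi s C).toRingHom = Ideal.Quotient.mk (𝓛.J s C) := by
  refine MvPolynomial.ringHom_ext (fun c => ?_) (fun i => ?_)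
  · simp only [RingHom.comp_apply, AlgHom.toRingHom_eq_coe, RingHom.coe_coe, phi_C, rhoPoly,
      MvPolynomial.eval₂Hom_C, rho, lift_qmk]
    simp
  · refine Fin.addCases (fun j => ?_) (fun i => ?_) i
    · simp only [RingHom.comp_apply, AlgHom.toRingHom_eq_coe, RingHom.coe_coe, phi_X_castAdd,
        rhoPoly, MvPolynomial.eval₂Hom_X']
    · simp only [RingHom.comp_apply, AlgHom.toRingHom_eq_coe, RingHom.coe_coe, phi_X_natAdd,
        rhoPoly, MvPolynomial.eval₂Hom_C, rho, lift_qmk]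
      simp

lemma ker_phi : RingHom.ker (𝓛.phi s C).toRingHom = 𝓛.J s C := by
  refine le_antisymm (fun p hp => ?_) (𝓛.J_le_ker s C)
  rw [RingHom.mem_ker] at hp
  have := DFunLike.congr_fun (𝓛.rhoPoly_comp_phi s C) p
  rw [RingHom.comp_apply, hp, map_zero] at this
  exact Ideal.Quotient.eq_zero_iff_mem.mp this.symm

lemma phi_eq_zero_iff (p : MvPolynomial (Fin (s + 𝓛.r)) C) : 𝓛.phi s C p = 0 ↔ p ∈ 𝓛.J s C := by
  rw [← ker_phi]
  rfl

end

section nat

variable (C C' : Type u) [CommRing C] [CommRing C'] [Algebra Z₀ C] [Algebra Z₀ C'] [Algebra C C']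
  [IsScalarTower Z₀ C C']

/-- Naturality of `phi`. -/
lemma map_phi (p : MvPolynomial (Fin (s + 𝓛.r)) C) :
    MvPolynomial.map (algebraMap (𝓛.Q C) (𝓛.Q C')) (𝓛.phi s C p) =
      𝓛.phi s C' (MvPolynomial.map (algebraMap C C') p) := by
  have h : (MvPolynomial.map (algebraMap (𝓛.Q C) (𝓛.Q C'))).comp (𝓛.phi s C).toRingHom =
      (𝓛.phi s C').toRingHom.comp (MvPolynomial.map (algebraMap C C')) := by
    refine MvPolynomial.ringHom_ext (fun c => ?_) (fun i => ?_)
    · simp only [RingHom.comp_apply, AlgHom.toRingHom_eq_coe, RingHom.coe_coe, phi_C,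
        MvPolynomial.map_C, algebraMap_Q, Qmap_qmk]
    · refine Fin.addCases (fun j => ?_) (fun i => ?_) i
      · simp
      · simp [algebraMap_Q]
  exact DFunLike.congr_fun h p

lemma map_comp_phi :
    (MvPolynomial.map (algebraMap (𝓛.Q C) (𝓛.Q C'))).comp (𝓛.phi s C).toRingHom =
      (𝓛.phi s C').toRingHom.comp (MvPolynomial.map (algebraMap C C')) :=
  RingHom.ext fun p => 𝓛.map_phi s C C' p

lemma map_h (i : Fin 𝓛.a) :
    MvPolynomial.map (algebraMap C C') (𝓛.h s C i) = 𝓛.h s C' i := by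
  rw [h, h, MvPolynomial.map_rename, map_fC]

end nat

end L1

end Groth.Agent.H1.FibreCrit
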