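import Mathlib
import Groth.Agent.H2.LocalCrit
import Groth.Agent.H24.GenericFlat

set_option autoImplicit false

/-!
# The local criterion of flatness at a prime of an algebra

`R → S` Noetherian, `M` a finite `S`-module, `q` a prime of `S`, `I` an ideal of `R` contained in
`q`.  If `Tor₁(M, R/I)` vanishes at `q` and `M_q / I M_q` is flat over `R / I`, then `M_q` is flat
over `R`.  For `I = q ∩ R` the second condition is automatic.
-/

namespace Groth.Agent.H1.FlatLocus

universe u

open TensorProduct

section DivFlat

/-- A module over a domain on which every nonzero scalar acts bijectively is flat. -/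
theorem flat_of_forall_smul_bijective {D N : Type*} [CommRing D] [IsDomain D] [AddCommGroup N]
    [Module D N] (h : ∀ d : D, d ≠ 0 → Function.Bijective (fun x : N => d • x)) :
    Module.Flat D N := by
  have hloc : IsLocalizedModule (nonZeroDivisors D) (LinearMap.id : N →ₗ[D] N) :=
    { map_units := fun s => (Module.End.isUnit_iff _).mpr (h s (nonZeroDivisors.ne_zero s.2))
      surj := fun y => ⟨⟨y, 1⟩, by simp⟩
      exists_of_eq := fun {x₁ x₂} hx => ⟨1, by simpa using hx⟩ }
  let _ : Module (FractionRing D) N :=
    IsLocalizedModule.module (nonZeroDivisors D) (LinearMap.id : N →ₗ[D] N)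
  have : IsScalarTower D (FractionRing D) N :=
    IsLocalizedModule.isScalarTower_module (nonZeroDivisors D) (LinearMap.id : N →ₗ[D] N)
  have : Module.Flat (FractionRing D) N := inferInstance
  exact (Module.flat_iff_of_isLocalization (FractionRing D) (nonZeroDivisors D) N).mp this

end DivFlat

variable {R S M : Type u} [CommRing R] [CommRing S] [Algebra R S] [AddCommGroup M] [Module R M]
  [Module S M] [IsScalarTower R S M]

/-- Vanishing of `Tor₁(M, R/I)` at `q` (torsion form) gives injectivity of
`M_q ⊗ I → M_q ⊗ R`. -/
theorem lTensor_localizedModule_injective (q : Ideal S) [q.IsPrime] (I : Ideal R)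
    (ha : ∀ z : M ⊗[R] I, LinearMap.lTensor M I.subtype z = 0 → ∃ g : S, g ∉ q ∧ g • z = 0) :
    Function.Injective (LinearMap.lTensor (LocalizedModule q.primeCompl M) I.subtype) := by
  set mk := LocalizedModule.mkLinearMap q.primeCompl M with hmk
  have hlocI : IsLocalizedModule q.primeCompl (AlgebraTensorModule.rTensor R I mk) := inferInstance
  have hlocA : IsLocalizedModule q.primeCompl (AlgebraTensorModule.rTensor R R mk) := inferInstance
  have hB' : ∀ (b : S) (y : LocalizedModule q.primeCompl M ⊗[R] I),
      LinearMap.lTensor (LocalizedModule q.primeCompl M) I.subtype (b • y) =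
      b • LinearMap.lTensor (LocalizedModule q.primeCompl M) I.subtype y :=
    fun b y => (AlgebraTensorModule.lTensor S (LocalizedModule q.primeCompl M) I.subtype).map_smul b y
  have hB : ∀ (b : S) (y : M ⊗[R] I), LinearMap.lTensor M I.subtype (b • y) =
      b • LinearMap.lTensor M I.subtype y :=
    fun b y => (AlgebraTensorModule.lTensor S M I.subtype).map_smul b y
  have hcomm : ∀ y : M ⊗[R] I,
      LinearMap.lTensor (LocalizedModule q.primeCompl M) I.subtype
        (AlgebraTensorModule.rTensor R I mk y) =
        AlgebraTensorModule.rTensor R R mk (LinearMap.lTensor M I.subtype y) :=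
    fun y => Groth.Agent.H24.GenericFlat.rTensor_lTensor_comm I (mk.restrictScalars R) y
  rw [injective_iff_map_eq_zero]
  intro z hz
  obtain ⟨⟨w, s⟩, hw⟩ := hlocI.surj z
  have hw' : (s : S) • z = AlgebraTensorModule.rTensor R I mk w := hw
  have h1 : AlgebraTensorModule.rTensor R R mk (LinearMap.lTensor M I.subtype w) =
      AlgebraTensorModule.rTensor R R mk 0 := by
    rw [map_zero, ← hcomm, ← hw', hB', hz, smul_zero]
  obtain ⟨t, ht⟩ := hlocA.exists_of_eq h1
  rw [smul_zero, Submonoid.smul_def, ← hB] at ht
  obtain ⟨g, hg, hgz⟩ := ha _ ht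
  have h2 : (g * t * s : S) • z = 0 := by
    rw [mul_smul, hw', ← map_smul, mul_smul, hgz, map_zero]
  have hmem : g * t * s ∈ q.primeCompl :=
    q.primeCompl.mul_mem (q.primeCompl.mul_mem hg t.2) s.2
  have := IsLocalizedModule.smul_injective (AlgebraTensorModule.rTensor R I mk) ⟨_, hmem⟩
  apply this
  change (g * t * s : S) • z = (g * t * s : S) • 0
  rw [h2, smul_zero]

/-- **Local criterion of flatness at a prime.** -/
theorem flat_localizedModule_of_tor_of_flat_quotient [IsNoetherianRing R] [IsNoetherianRing S]
    [Module.Finite S M] (q : Ideal S) [q.IsPrime] (I : Ideal R)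
    (hI : I ≤ q.comap (algebraMap R S))
    (ha : ∀ z : M ⊗[R] I, LinearMap.lTensor M I.subtype z = 0 → ∃ g : S, g ∉ q ∧ g • z = 0)
    [Module.Flat (R ⧸ I) ((R ⧸ I) ⊗[R] LocalizedModule q.primeCompl M)] :
    Module.Flat R (LocalizedModule q.primeCompl M) := by
  have hfin : Module.Finite (Localization.AtPrime q) (LocalizedModule q.primeCompl M) :=
    Module.Finite.of_isLocalizedModule q.primeCompl (LocalizedModule.mkLinearMap q.primeCompl M)
  refine Groth.Agent.H2.flat_of_rTensor_injective_of_flat_quotient
    (S := Localization.AtPrime q) I ?_ ?_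
  · rw [IsLocalRing.jacobson_eq_maximalIdeal ⊥ bot_ne_top, Ideal.map_le_iff_le_comap]
    intro x hx
    rw [Ideal.mem_comap, IsScalarTower.algebraMap_apply R S (Localization.AtPrime q),
      IsLocalization.AtPrime.to_map_mem_maximal_iff _ q]
    exact hI hx
  · rw [← LinearMap.lTensor_inj_iff_rTensor_inj]
    exact lTensor_localizedModule_injective q I ha

/-- Local criterion at a prime `q`, with `I = q ∩ R`: only the `Tor` condition is needed. -/
theorem flat_localizedModule_of_tor_comap [IsNoetherianRing R] [IsNoetherianRing S]
    [Module.Finite S M] (q : Ideal S) [q.IsPrime]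
    (ha : ∀ z : M ⊗[R] (q.comap (algebraMap R S)),
      LinearMap.lTensor M (q.comap (algebraMap R S)).subtype z = 0 → ∃ g : S, g ∉ q ∧ g • z = 0) :
    Module.Flat R (LocalizedModule q.primeCompl M) := by
  set p := q.comap (algebraMap R S) with hp
  have : Module.Flat (R ⧸ p) ((R ⧸ p) ⊗[R] LocalizedModule q.primeCompl M) := by
    apply flat_of_forall_smul_bijective
    intro d hd
    obtain ⟨a, rfl⟩ := Ideal.Quotient.mk_surjective d
    have hap : a ∉ p := fun h => hd (Ideal.Quotient.eq_zero_iff_mem.mpr h)
    have haq : algebraMap R S a ∈ q.primeCompl := hap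
    have hunit := IsLocalizedModule.map_units (LocalizedModule.mkLinearMap q.primeCompl M)
      ⟨_, haq⟩
    rw [Module.End.isUnit_iff] at hunit
    have hbij : Function.Bijective (LinearMap.lsmul R (LocalizedModule q.primeCompl M) a) := by
      have hfun : ⇑(LinearMap.lsmul R (LocalizedModule q.primeCompl M) a) =
          ⇑((algebraMap S (Module.End S (LocalizedModule q.primeCompl M)))
            (algebraMap R S a)) := by
        ext x
        rw [LinearMap.lsmul_apply, Module.algebraMap_end_apply, algebraMap_smul]
      rw [hfun]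
      exact hunit
    let e : LocalizedModule q.primeCompl M ≃ₗ[R] LocalizedModule q.primeCompl M :=
      LinearEquiv.ofBijective (LinearMap.lsmul R _ a) hbij
    have heq : (fun x : (R ⧸ p) ⊗[R] LocalizedModule q.primeCompl M =>
        (Ideal.Quotient.mk p a) • x) = (LinearEquiv.lTensor (R ⧸ p) e) := by
      ext x
      induction x with
      | zero => simp
      | add x y hx hy => simp only [smul_add, map_add, hx, hy]
      | tmul x m =>
        simp only [LinearEquiv.lTensor_tmul, e, LinearEquiv.ofBijective_apply,
          LinearMap.lsmul_apply]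
        rw [TensorProduct.smul_tmul', ← TensorProduct.smul_tmul]
        congr 1
    rw [heq]
    exact (LinearEquiv.lTensor (R ⧸ p) e).bijective
  exact flat_localizedModule_of_tor_of_flat_quotient q p le_rfl ha

end Groth.Agent.H1.FlatLocus
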