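import Mathlib
import Groth.Agent.H24.GenericFlat

set_option autoImplicit false

/-!
# Generic flatness modulo a prime, at primes of the algebra

`R` Noetherian, `S` a finite type `R`-algebra, `M` a finite `S`-module, `p` a prime of `R`.
There is `a ∉ p` such that `(R/p) ⊗ M_q` is flat over `R/p` for every prime `q` of `S` not
containing `a`.
-/

namespace Groth.Agent.H1.FlatLocus

universe u

open TensorProduct

attribute [local instance] Algebra.TensorProduct.rightAlgebra

variable {R S M : Type u} [CommRing R] [CommRing S] [Algebra R S] [AddCommGroup M] [Module R M]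
  [Module S M] [IsScalarTower R S M]

/-- `lTensor` of a localization map is a localization map. -/
theorem isLocalizedModule_lTensor {N N' : Type*} [AddCommGroup N] [Module S N] [AddCommGroup N']
    [Module S N'] (B : Type*) [CommRing B] [Algebra S B] (T : Submonoid S) (f : N →ₗ[S] N')
    [IsLocalizedModule T f] :
    IsLocalizedModule (Algebra.algebraMapSubmonoid B T) (AlgebraTensorModule.lTensor B B f) := by
  have h1 : IsLocalizedModule T (LinearMap.lTensor B f) := by
    have h2 : IsLocalizedModule T (LinearMap.rTensor B f) :=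
      inferInstanceAs (IsLocalizedModule T (AlgebraTensorModule.rTensor S B f))
    have h3 : LinearMap.lTensor B f =
        (TensorProduct.comm S N' B).toLinearMap ∘ₗ
          (LinearMap.rTensor B f ∘ₗ (TensorProduct.comm S B N).toLinearMap) := by
      ext b n
      simp
    rw [h3]
    infer_instance
  have h4 : IsLocalizedModule T ((AlgebraTensorModule.lTensor B B f).restrictScalars S) := by
    rw [AlgebraTensorModule.restrictScalars_lTensor]
    exact h1
  exact IsLocalizedModule.of_restrictScalars T (AlgebraTensorModule.lTensor B B f)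

theorem exists_flat_quotient_tensor_localizedModule (p : Ideal R) [p.IsPrime]
    [IsNoetherianRing R] [Algebra.FiniteType R S] [Module.Finite S M] :
    ∃ a : R, a ∉ p ∧ ∀ (q : Ideal S) [q.IsPrime], algebraMap R S a ∉ q →
      Module.Flat (R ⧸ p) ((R ⧸ p) ⊗[R] LocalizedModule q.primeCompl M) := by
  obtain ⟨f, hf, H⟩ := Groth.Agent.H24.GenericFlat.exists_flat_localization (A := R ⧸ p)
    ((R ⧸ p) ⊗[R] S) (((R ⧸ p) ⊗[R] S) ⊗[S] M)
  obtain ⟨a, rfl⟩ := Ideal.Quotient.mk_surjective f
  refine ⟨a, fun h => hf (Ideal.Quotient.eq_zero_iff_mem.mpr h), ?_⟩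
  intro q _ haq
  have hloc := isLocalizedModule_lTensor ((R ⧸ p) ⊗[R] S) q.primeCompl
    (LocalizedModule.mkLinearMap q.primeCompl M)
  have hmem : algebraMap (R ⧸ p) ((R ⧸ p) ⊗[R] S) (Ideal.Quotient.mk p a) ∈
      Algebra.algebraMapSubmonoid ((R ⧸ p) ⊗[R] S) q.primeCompl := by
    refine ⟨algebraMap R S a, haq, ?_⟩
    rw [← Ideal.Quotient.algebraMap_eq, ← IsScalarTower.algebraMap_apply,
      ← IsScalarTower.algebraMap_apply]
  have hflat := H _ hmem (((R ⧸ p) ⊗[R] S) ⊗[S] LocalizedModule q.primeCompl M)
    (AlgebraTensorModule.lTensor ((R ⧸ p) ⊗[R] S) ((R ⧸ p) ⊗[R] S)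
      (LocalizedModule.mkLinearMap q.primeCompl M))
  exact Module.Flat.of_linearEquiv
    (Algebra.IsPushout.cancelBaseChange R (R ⧸ p) S ((R ⧸ p) ⊗[R] S)
      (LocalizedModule q.primeCompl M)).symm

end Groth.Agent.H1.FlatLocus
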