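import Mathlib
import Groth.Agent.H24.GenericFlat

set_option autoImplicit false

/-!
# Pointwise flatness: localizations

Basic facts about the flat locus `{q | M_q flat over R}` of a module `M` over an `R`-algebra `S`.
-/

namespace Groth.Agent.H1.FlatLocus

open TensorProduct

section

variable {R S : Type*} [CommRing R] [CommRing S] [Algebra R S]
variable {N N' : Type*} [AddCommGroup N] [Module R N] [Module S N] [IsScalarTower R S N]
  [AddCommGroup N'] [Module R N'] [Module S N'] [IsScalarTower R S N']

/-- A localization (at a submonoid of the algebra `S`) of an `R`-flat `S`-module is `R`-flat. -/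
theorem flat_of_isLocalizedModule_algebra [Module.Flat R N] (T : Submonoid S) (f : N →ₗ[S] N')
    [IsLocalizedModule T f] : Module.Flat R N' := by
  have h : Groth.Agent.H24.GenericFlat.TorTorsion (1 : R) N := by
    intro I z hz
    refine ⟨0, ?_⟩
    have : z = 0 :=
      Module.Flat.lTensor_preserves_injective_linearMap I.subtype I.injective_subtype
        (by rw [hz, map_zero])
    simp [this]
  exact h.flat_of_isLocalizedModule T (by simp) f

variable (R) in
/-- The flat locus of the `S`-module `M` over `R`. -/
def flatLocus (M : Type*) [AddCommGroup M] [Module R M] [Module S M] [IsScalarTower R S M] :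
    Set (PrimeSpectrum S) :=
  {q | Module.Flat R (LocalizedModule q.asIdeal.primeCompl M)}

variable {M : Type*} [AddCommGroup M] [Module R M] [Module S M] [IsScalarTower R S M]

theorem flat_localizedModule_of_le {T₁ T₂ : Submonoid S} (h : T₁ ≤ T₂)
    [Module.Flat R (LocalizedModule T₁ M)] : Module.Flat R (LocalizedModule T₂ M) :=
  flat_of_isLocalizedModule_algebra (R := R) T₂ (LocalizedModule.liftOfLE T₁ T₂ h (M := M))

theorem stableUnderGeneralization_flatLocus : StableUnderGeneralization (flatLocus R (S := S) M) := by
  intro x y hyx hx
  have hle : y.asIdeal ≤ x.asIdeal := (PrimeSpectrum.le_iff_specializes y x).mpr hyx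
  have hT : x.asIdeal.primeCompl ≤ y.asIdeal.primeCompl := fun s hs hsy => hs (hle hsy)
  have : Module.Flat R (LocalizedModule x.asIdeal.primeCompl M) := hx
  exact flat_localizedModule_of_le (R := R) hT

end

end Groth.Agent.H1.FlatLocus
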