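import Mathlib

set_option autoImplicit false

/-!
# A criterion for openness in Noetherian sober spaces

`U` is open as soon as it is stable under generization and, for every `x ∈ U`, contains a
nonempty open part `W ∩ closure {x}` of the closure of `x` (EGA 0_III 9.2.5 / Matsumura 22.B).
-/

namespace Groth.Agent.H1.FlatLocus

open TopologicalSpace

theorem isOpen_of_forall_exists_nhds_inter_closure {X : Type*} [TopologicalSpace X]
    [NoetherianSpace X] [QuasiSober X] {U : Set X} (hgen : StableUnderGeneralization U)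
    (hloc : ∀ x ∈ U, ∃ W : Set X, IsOpen W ∧ x ∈ W ∧ W ∩ closure {x} ⊆ U) : IsOpen U := by
  rw [← isClosed_compl_iff]
  suffices h : ∀ T : Closeds X, IsClosed (Uᶜ ∩ (T : Set X)) by simpa using h ⊤
  intro T
  apply wellFounded_lt.induction T; clear T
  intro T H
  by_cases h₁ : IsPreirreducible (T : Set X)
  · rcases eq_or_ne T ⊥ with rfl | h₀
    · simp
    have hT : IsIrreducible (T : Set X) := ⟨Closeds.coe_nonempty.2 h₀, h₁⟩
    have hξ : IsGenericPoint hT.genericPoint (T : Set X) :=
      hT.isGenericPoint_genericPoint T.isClosed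
    by_cases hξU : hT.genericPoint ∈ U
    · obtain ⟨W, hW, hξW, hWU⟩ := hloc _ hξU
      let T' : Closeds X := ⟨(T : Set X) \ W, T.isClosed.sdiff hW⟩
      have hlt : T' < T := by
        refine lt_of_le_of_ne (fun x hx => hx.1) ?_
        intro heq
        have : hT.genericPoint ∈ (T' : Set X) := by
          rw [heq]; exact hξ.mem
        exact this.2 hξW
      have heq : Uᶜ ∩ (T : Set X) = Uᶜ ∩ (T' : Set X) := by
        ext x
        constructor
        · rintro ⟨hxU, hxT⟩
          refine ⟨hxU, hxT, fun hxW => hxU (hWU ⟨hxW, ?_⟩)⟩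
          rw [hξ.def]; exact hxT
        · rintro ⟨hxU, hxT, _⟩
          exact ⟨hxU, hxT⟩
      rw [heq]
      exact H T' hlt
    · have hsub : (T : Set X) ⊆ Uᶜ := by
        intro x hxT hxU
        exact hξU (hgen (hξ.specializes hxT) hxU)
      rw [Set.inter_eq_right.mpr hsub]
      exact T.isClosed
  · simp only [isPreirreducible_iff_isClosed_union_isClosed, not_forall, not_or] at h₁
    obtain ⟨z₁, z₂, hz₁, hz₂, h, hz₁', hz₂'⟩ := h₁
    lift z₁ to Closeds X using hz₁
    lift z₂ to Closeds X using hz₂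
    have e1 := H (T ⊓ z₁) (inf_lt_left.2 hz₁')
    have e2 := H (T ⊓ z₂) (inf_lt_left.2 hz₂')
    have heq : Uᶜ ∩ (T : Set X) =
        (Uᶜ ∩ ((T ⊓ z₁ : Closeds X) : Set X)) ∪ (Uᶜ ∩ ((T ⊓ z₂ : Closeds X) : Set X)) := by
      ext x
      simp only [Set.mem_inter_iff, Set.mem_compl_iff, Closeds.coe_inf, Set.mem_union,
        SetLike.mem_coe]
      constructor
      · rintro ⟨hxU, hxT⟩
        rcases h hxT with hx | hx
        · exact Or.inl ⟨hxU, hxT, hx⟩
        · exact Or.inr ⟨hxU, hxT, hx⟩
      · rintro (⟨hxU, hxT, _⟩ | ⟨hxU, hxT, _⟩) <;> exact ⟨hxU, hxT⟩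
    rw [heq]
    exact e1.union e2

end Groth.Agent.H1.FlatLocus
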