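import Mathlib
import Groth.Agent.H1.FlatLocusTop
import Groth.Agent.H1.FlatLocusLoc
import Groth.Agent.H1.FlatLocusCrit
import Groth.Agent.H1.FlatLocusGF

set_option autoImplicit false

/-!
# Openness of the flat locus, Noetherian case

`R` Noetherian, `S` a finite type `R`-algebra, `M` a finite `S`-module.  Then
`{q ∈ Spec S | M_q flat over R}` is open (EGA IV 11.1.1, Matsumura 24.3).
-/

namespace Groth.Agent.H1.FlatLocus

universe u

open TensorProduct

theorem exists_smul_eq_zero_of_fg {S N : Type*} [CommRing S] [AddCommGroup N] [Module S N]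
    (T : Submonoid S) (K : Submodule S N) (hK : K.FG)
    (h : ∀ z ∈ K, ∃ g ∈ T, g • z = 0) : ∃ g ∈ T, ∀ z ∈ K, g • z = 0 := by
  classical
  obtain ⟨G, rfl⟩ := hK
  have h' : ∀ x : N, ∃ g ∈ T, x ∈ (G : Set N) → g • x = 0 := by
    intro x
    by_cases hx : x ∈ (G : Set N)
    · obtain ⟨g, hg, hgx⟩ := h x (Submodule.subset_span hx)
      exact ⟨g, hg, fun _ => hgx⟩
    · exact ⟨1, T.one_mem, fun h => absurd h hx⟩
  choose g hgT hg using h'
  refine ⟨∏ x ∈ G, g x, T.prod_mem (fun x _ => hgT x), ?_⟩
  intro z hz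
  induction hz using Submodule.span_induction with
  | mem x hx =>
    obtain ⟨c, hc⟩ := Finset.dvd_prod_of_mem g hx
    rw [hc, mul_comm, mul_smul, hg x hx, smul_zero]
  | zero => simp
  | add x y _ _ hx hy => rw [smul_add, hx, hy, add_zero]
  | smul c x _ hx => rw [smul_comm, hx, smul_zero]

variable {R S M : Type u} [CommRing R] [CommRing S] [Algebra R S] [AddCommGroup M] [Module R M]
  [Module S M] [IsScalarTower R S M]

/-- If `M_q` is flat over `R`, elements of `ker (M ⊗ I → M ⊗ R)` are killed by elements outside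
`q`. -/
theorem exists_smul_eq_zero_of_flat_localizedModule (q : Ideal S) [q.IsPrime]
    [Module.Flat R (LocalizedModule q.primeCompl M)] (I : Ideal R) (z : M ⊗[R] I)
    (hz : LinearMap.lTensor M I.subtype z = 0) : ∃ g : S, g ∉ q ∧ g • z = 0 := by
  set mk := LocalizedModule.mkLinearMap q.primeCompl M with hmk
  have hlocI : IsLocalizedModule q.primeCompl (AlgebraTensorModule.rTensor R I mk) := inferInstance
  have hcomm : LinearMap.lTensor (LocalizedModule q.primeCompl M) I.subtype
        (AlgebraTensorModule.rTensor R I mk z) =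
        AlgebraTensorModule.rTensor R R mk (LinearMap.lTensor M I.subtype z) :=
    Groth.Agent.H24.GenericFlat.rTensor_lTensor_comm I (mk.restrictScalars R) z
  rw [hz, map_zero] at hcomm
  have h0 : AlgebraTensorModule.rTensor R I mk z = 0 :=
    Module.Flat.lTensor_preserves_injective_linearMap I.subtype I.injective_subtype
      (by rw [hcomm, map_zero])
  obtain ⟨s, hs⟩ := (IsLocalizedModule.eq_zero_iff q.primeCompl
    (AlgebraTensorModule.rTensor R I mk)).mp h0
  exact ⟨s.1, s.2, hs⟩

/-- **Openness of the flat locus**, Noetherian case. -/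
theorem isOpen_flatLocus_of_isNoetherianRing [IsNoetherianRing R] [Algebra.FiniteType R S]
    [Module.Finite S M] : IsOpen (flatLocus R (S := S) M) := by
  have hS : IsNoetherianRing S := Algebra.FiniteType.isNoetherianRing R S
  refine isOpen_of_forall_exists_nhds_inter_closure
    (stableUnderGeneralization_flatLocus (R := R) (S := S) (M := M)) ?_
  intro q hq
  have hqflat : Module.Flat R (LocalizedModule q.asIdeal.primeCompl M) := hq
  set p := q.asIdeal.comap (algebraMap R S) with hp
  have hfin : Module.Finite S (M ⊗[R] p) := Groth.Agent.H2.finite_tensorProduct_of_finite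
  have hnoeth : IsNoetherian S (M ⊗[R] p) := isNoetherian_of_isNoetherianRing_of_finite S _
  obtain ⟨g₁, hg₁, hK⟩ := exists_smul_eq_zero_of_fg q.asIdeal.primeCompl
    (LinearMap.ker (AlgebraTensorModule.lTensor S M p.subtype))
    (IsNoetherian.noetherian _) (by
      intro z hz
      obtain ⟨g, hg, hgz⟩ := exists_smul_eq_zero_of_flat_localizedModule (R := R) q.asIdeal p z hz
      exact ⟨g, hg, hgz⟩)
  obtain ⟨a, hap, H⟩ := exists_flat_quotient_tensor_localizedModule (S := S) (M := M) p
  refine ⟨(PrimeSpectrum.basicOpen (g₁ * algebraMap R S a) : Set (PrimeSpectrum S)),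
    (PrimeSpectrum.basicOpen _).isOpen, ?_, ?_⟩
  · change g₁ * algebraMap R S a ∉ q.asIdeal
    exact q.asIdeal.primeCompl.mul_mem hg₁ hap
  · rintro q' ⟨hq'W, hq'cl⟩
    have hle : q.asIdeal ≤ q'.asIdeal := (PrimeSpectrum.le_iff_mem_closure q q').mpr hq'cl
    have hq'W' : g₁ * algebraMap R S a ∉ q'.asIdeal := hq'W
    have hg₁' : g₁ ∉ q'.asIdeal := fun h => hq'W' (Ideal.mul_mem_right _ _ h)
    have ha' : algebraMap R S a ∉ q'.asIdeal := fun h => hq'W' (Ideal.mul_mem_left _ _ h)
    have := H q'.asIdeal ha'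
    change Module.Flat R (LocalizedModule q'.asIdeal.primeCompl M)
    refine flat_localizedModule_of_tor_of_flat_quotient q'.asIdeal p ?_ ?_
    · exact Ideal.comap_mono hle
    · intro z hz
      exact ⟨g₁, hg₁', hK z hz⟩

end Groth.Agent.H1.FlatLocus
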