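import Mathlib
import Groth.Agent.H1.FlatLocusLoc
import Groth.Agent.H1.FlatLocusGF

set_option autoImplicit false

/-!
# Concrete models of finitely presented modules over polynomial rings, and base change of
pointwise flatness
-/

namespace Groth.Agent.H1.FlatLocus

universe u

open TensorProduct

section BCabs

variable {C C' P P' N N' : Type*} [CommRing C] [CommRing C'] [CommRing P] [CommRing P']
  [Algebra C C'] [Algebra C P] [Algebra C' P'] [Algebra P P'] [Algebra C P']
  [IsScalarTower C C' P'] [IsScalarTower C P P'] [Algebra.IsPushout C C' P P']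
  [AddCommGroup N] [Module C N] [Module P N] [IsScalarTower C P N]
  [AddCommGroup N'] [Module C' N'] [Module P N'] [Module P' N']
  [IsScalarTower C' P' N'] [IsScalarTower P P' N']

/-- **Base change of pointwise flatness**: if `N_q` is flat over `C`, `N' = P' ⊗_P N` with
`P' = C' ⊗_C P`, and `q'` lies over `q`, then `N'_{q'}` is flat over `C'`. -/
theorem flat_localizedModule_of_isBaseChange (f : N →ₗ[P] N') (hf : IsBaseChange P' f)
    (q' : Ideal P') [q'.IsPrime] (q : Ideal P) [q.IsPrime] (hq : q = q'.comap (algebraMap P P'))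
    [Module.Flat C (LocalizedModule q.primeCompl N)] :
    Module.Flat C' (LocalizedModule q'.primeCompl N') := by
  set T₀ : Submonoid P' := Algebra.algebraMapSubmonoid P' q.primeCompl with hT₀
  -- `P' ⊗_P N_q` is flat over `C'`
  have hflat1 : Module.Flat C' (C' ⊗[C] LocalizedModule q.primeCompl N) := inferInstance
  have hflat2 : Module.Flat C' (P' ⊗[P] LocalizedModule q.primeCompl N) :=
    Module.Flat.of_linearEquiv
      (Algebra.IsPushout.cancelBaseChange C C' P P' (LocalizedModule q.primeCompl N))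
  -- it is a localization of `N'` at `T₀`
  have hloc := isLocalizedModule_lTensor P' q.primeCompl
    (LocalizedModule.mkLinearMap q.primeCompl N)
  have hloc' : IsLocalizedModule T₀
      ((AlgebraTensorModule.lTensor P' P' (LocalizedModule.mkLinearMap q.primeCompl N)) ∘ₗ
        hf.equiv.symm.toLinearMap) := inferInstance
  have hflat3 : Module.Flat C' (LocalizedModule T₀ N') :=
    Module.Flat.of_linearEquiv ((IsLocalizedModule.iso T₀
      ((AlgebraTensorModule.lTensor P' P' (LocalizedModule.mkLinearMap q.primeCompl N)) ∘ₗ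
        hf.equiv.symm.toLinearMap)).restrictScalars C')
  have hle : T₀ ≤ q'.primeCompl := by
    rintro _ ⟨x, hx, rfl⟩
    intro hmem
    apply hx
    rw [hq]
    exact hmem
  exact flat_localizedModule_of_le (R := C') hle

end BCabs

attribute [local instance] MvPolynomial.algebraMvPolynomial

/-- A finite presentation pattern: `n` generators and `m` relations over the polynomial ring in `r`
variables over `Z`. -/
structure Model (Z : Type u) [CommRing Z] where
  /-- number of variables -/
  r : ℕ
  /-- number of generators -/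
  n : ℕ
  /-- number of relations -/
  m : ℕ
  /-- the relations -/
  g : Fin m → Fin n → MvPolynomial (Fin r) Z

namespace Model

variable {Z : Type u} [CommRing Z] (𝓜 : Model Z)

/-- The polynomial ring over `C`. -/
abbrev P (C : Type u) [CommRing C] : Type u := MvPolynomial (Fin 𝓜.r) C

/-- The free module over the polynomial ring over `C`. -/
abbrev F (C : Type u) [CommRing C] : Type u := Fin 𝓜.n → MvPolynomial (Fin 𝓜.r) C

section maps

variable (C C' : Type u) [CommRing C] [CommRing C'] [Algebra C C']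

/-- The base change map on free modules. -/
noncomputable def mapF : 𝓜.F C →ₗ[𝓜.P C] 𝓜.F C' :=
  (Algebra.linearMap (𝓜.P C) (𝓜.P C')).compLeft (Fin 𝓜.n)

@[simp] lemma mapF_apply (x : 𝓜.F C) (i : Fin 𝓜.n) :
    𝓜.mapF C C' x i = MvPolynomial.map (algebraMap C C') (x i) := rfl

lemma isBaseChange_mapF : IsBaseChange (𝓜.P C') (𝓜.mapF C C') :=
  IsBaseChange.finitePow _ (IsBaseChange.linearMap (𝓜.P C) (𝓜.P C'))

end maps

section gens

variable (C : Type u) [CommRing C] [Algebra Z C]

/-- The relations over `C`. -/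
noncomputable def gen (j : Fin 𝓜.m) : 𝓜.F C := 𝓜.mapF Z C (𝓜.g j)

/-- The relation map. -/
noncomputable def relMap : (Fin 𝓜.m → 𝓜.P C) →ₗ[𝓜.P C] 𝓜.F C :=
  Fintype.linearCombination (𝓜.P C) (𝓜.gen C)

/-- The relation submodule. -/
noncomputable def K : Submodule (𝓜.P C) (𝓜.F C) := Submodule.span _ (Set.range (𝓜.gen C))

lemma range_relMap : LinearMap.range (𝓜.relMap C) = 𝓜.K C :=
  Fintype.range_linearCombination _ _

/-- The module presented by the model over `C`. -/
abbrev Mod : Type u := 𝓜.F C ⧸ 𝓜.K C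

end gens

section mapMod

variable (C C' : Type u) [CommRing C] [CommRing C'] [Algebra C C'] [Algebra Z C] [Algebra Z C']
  [IsScalarTower Z C C']

lemma mapF_gen (j : Fin 𝓜.m) : 𝓜.mapF C C' (𝓜.gen C j) = 𝓜.gen C' j := by
  ext i : 1
  simp only [gen, mapF_apply, MvPolynomial.map_map]
  rw [← IsScalarTower.algebraMap_eq]

lemma K_le_comap : 𝓜.K C ≤ ((𝓜.K C').restrictScalars (𝓜.P C)).comap (𝓜.mapF C C') := by
  rw [K, Submodule.span_le]
  rintro _ ⟨j, rfl⟩
  simp only [Submodule.comap_coe, Submodule.coe_restrictScalars, Set.mem_preimage, SetLike.mem_coe]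
  rw [mapF_gen]
  exact Submodule.subset_span ⟨j, rfl⟩

/-- The base change map on the presented modules. -/
noncomputable def mapMod : 𝓜.Mod C →ₗ[𝓜.P C] 𝓜.Mod C' :=
  (𝓜.K C).liftQ (((𝓜.K C').mkQ.restrictScalars (𝓜.P C)) ∘ₗ 𝓜.mapF C C') (by
    intro x hx
    have := 𝓜.K_le_comap C C' hx
    simpa using this)

@[simp] lemma mapMod_mk (x : 𝓜.F C) :
    𝓜.mapMod C C' (Submodule.Quotient.mk x) = Submodule.Quotient.mk (𝓜.mapF C C' x) := rfl

lemma isBaseChange_mapMod : IsBaseChange (𝓜.P C') (𝓜.mapMod C C') := by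
  refine IsBaseChange.of_right_exact (𝓜.P C')
    ((Algebra.linearMap (𝓜.P C) (𝓜.P C')).compLeft (Fin 𝓜.m)) (𝓜.mapF C C') (𝓜.mapMod C C')
    (f := 𝓜.relMap C) (g := (𝓜.K C).mkQ) (f' := 𝓜.relMap C') (g' := (𝓜.K C').mkQ)
    ?_ ?_ (IsBaseChange.finitePow _ (IsBaseChange.linearMap (𝓜.P C) (𝓜.P C')))
    (𝓜.isBaseChange_mapF C C')
    ?_ (Submodule.mkQ_surjective _) ?_ (Submodule.mkQ_surjective _)
  · refine LinearMap.ext fun x => ?_
    simp only [LinearMap.comp_apply, LinearMap.restrictScalars_apply, relMap,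
      Fintype.linearCombination_apply, map_sum, map_smul, mapF_gen]
    refine Finset.sum_congr rfl fun j _ => ?_
    change x j • 𝓜.gen C' j = (algebraMap (𝓜.P C) (𝓜.P C') (x j)) • 𝓜.gen C' j
    rw [algebraMap_smul]
  · refine LinearMap.ext fun x => ?_
    rfl
  · rw [LinearMap.exact_iff, Submodule.ker_mkQ, range_relMap]
  · rw [LinearMap.exact_iff, Submodule.ker_mkQ, range_relMap]

/-- Base change of pointwise flatness for models. -/
theorem flat_localizedModule_of_comap (q' : Ideal (𝓜.P C')) [q'.IsPrime]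
    [Module.Flat C (LocalizedModule (q'.comap (algebraMap (𝓜.P C) (𝓜.P C'))).primeCompl
      (𝓜.Mod C))] :
    Module.Flat C' (LocalizedModule q'.primeCompl (𝓜.Mod C')) :=
  flat_localizedModule_of_isBaseChange (C := C) (C' := C') (𝓜.mapMod C C')
    (𝓜.isBaseChange_mapMod C C') q' (q'.comap (algebraMap (𝓜.P C) (𝓜.P C'))) rfl

end mapMod

end Model

end Groth.Agent.H1.FlatLocus
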