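import Mathlib

set_option autoImplicit false

/-!
# `Tor₁` via a presentation

For `M = F ⧸ K` with `F` flat over `C`: the kernel of `M ⊗ I → M` is `(K ∩ IF) / IK`.  We only
need the "torsion" form of this statement.
-/

namespace Groth.Agent.H1.FlatLocus

open TensorProduct

section

variable {C P F : Type*} [CommRing C] [CommRing P] [Algebra C P] [AddCommGroup F] [Module C F]
  [Module P F] [IsScalarTower C P F]

/-- `μ : F ⊗[C] I → F`, `f ⊗ i ↦ i • f`, as a `P`-linear map. -/
noncomputable def mu (F : Type*) [AddCommGroup F] [Module C F] [Module P F] [IsScalarTower C P F]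
    (I : Ideal C) : F ⊗[C] I →ₗ[P] F :=
  (AlgebraTensorModule.rid C P F).toLinearMap ∘ₗ AlgebraTensorModule.lTensor P F I.subtype

@[simp] lemma mu_tmul (I : Ideal C) (f : F) (i : I) : mu (P := P) F I (f ⊗ₜ i) = (i : C) • f := by
  simp [mu]

/-- `IF`: the submodule `I • F` (as a `P`-submodule). -/
def smulTop (P : Type*) [CommRing P] [Algebra C P] (F : Type*) [AddCommGroup F] [Module C F]
    [Module P F] [IsScalarTower C P F] (I : Ideal C) : Submodule P F :=
  (I.map (algebraMap C P)) • (⊤ : Submodule P F)

/-- `IK`: the submodule `I • K`. -/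
def smulSub (K : Submodule P F) (I : Ideal C) : Submodule P F :=
  (I.map (algebraMap C P)) • K

lemma range_mu (I : Ideal C) : LinearMap.range (mu (P := P) F I) = smulTop P F I := by
  apply le_antisymm
  · rintro _ ⟨y, rfl⟩
    induction y with
    | zero => simp
    | add x y hx hy => rw [map_add]; exact Submodule.add_mem _ hx hy
    | tmul f i =>
      rw [mu_tmul, ← algebraMap_smul P (i : C) f]
      exact Submodule.smul_mem_smul (Ideal.mem_map_of_mem _ i.2) Submodule.mem_top
  · rw [smulTop, Submodule.smul_le]
    intro a ha f _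
    have key : ∀ f : F, a • f ∈ LinearMap.range (mu (P := P) F I) := by
      rw [Ideal.map] at ha
      induction ha using Submodule.span_induction with
      | mem a ha =>
        obtain ⟨i, hi, rfl⟩ := ha
        intro f
        exact ⟨f ⊗ₜ ⟨i, hi⟩, by rw [mu_tmul, algebraMap_smul]⟩
      | zero => intro f; simp
      | add a b _ _ ha hb => intro f; rw [add_smul]; exact Submodule.add_mem _ (ha f) (hb f)
      | smul c a _ ha =>
        intro f
        rw [smul_eq_mul, mul_comm, mul_smul]
        exact ha (c • f)
    exact key f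

lemma mu_comp_rTensor (K : Submodule P F) (I : Ideal C) :
    mu (P := P) F I ∘ₗ AlgebraTensorModule.rTensor C I K.subtype =
      K.subtype ∘ₗ mu (P := P) K I := by
  ext k i
  simp

lemma range_mu_comp_rTensor (K : Submodule P F) (I : Ideal C) :
    LinearMap.range (mu (P := P) F I ∘ₗ AlgebraTensorModule.rTensor C I K.subtype) =
      smulSub K I := by
  rw [mu_comp_rTensor, LinearMap.range_comp, range_mu, smulTop, smulSub, Submodule.map_smul'',
    Submodule.map_top, Submodule.range_subtype]

lemma mu_injective [Module.Flat C F] (I : Ideal C) : Function.Injective (mu (P := P) F I) := by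
  intro x y h
  have h' : (TensorProduct.rid C F) (LinearMap.lTensor F I.subtype x) =
      (TensorProduct.rid C F) (LinearMap.lTensor F I.subtype y) := h
  exact Module.Flat.lTensor_preserves_injective_linearMap I.subtype I.injective_subtype
    ((TensorProduct.rid C F).injective h')

lemma rid_lTensor_rTensor_mkQ (K : Submodule P F) (I : Ideal C) (y : F ⊗[C] I) :
    TensorProduct.rid C (F ⧸ K) (LinearMap.lTensor (F ⧸ K) I.subtype
      (LinearMap.rTensor I (K.mkQ.restrictScalars C) y)) = K.mkQ (mu (P := P) F I y) := by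
  induction y with
  | zero => simp
  | add x y hx hy => simp only [map_add, hx, hy]
  | tmul f i => simp

/-- **`Tor₁` via a presentation**, torsion form. -/
theorem tor_presentation_iff [Module.Flat C F] (K : Submodule P F) (I : Ideal C)
    (T : Submonoid P) :
    (∀ z : (F ⧸ K) ⊗[C] I, LinearMap.lTensor (F ⧸ K) I.subtype z = 0 → ∃ g ∈ T, g • z = 0) ↔
    (∀ k ∈ K, k ∈ smulTop P F I → ∃ g ∈ T, g • k ∈ smulSub K I) := by
  have hexact : Function.Exact (LinearMap.rTensor I (K.subtype.restrictScalars C))
      (LinearMap.rTensor I (K.mkQ.restrictScalars C)) :=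
    rTensor_exact I (f := K.subtype.restrictScalars C) (g := K.mkQ.restrictScalars C)
      (LinearMap.exact_subtype_mkQ K) (Submodule.mkQ_surjective K)
  have hsurj : Function.Surjective (LinearMap.rTensor I (K.mkQ.restrictScalars C)) :=
    LinearMap.rTensor_surjective I (Submodule.mkQ_surjective K)
  have hsmul : ∀ (g : P) (y : F ⊗[C] I),
      LinearMap.rTensor I (K.mkQ.restrictScalars C) (g • y) =
        g • LinearMap.rTensor I (K.mkQ.restrictScalars C) y :=
    fun g y => (AlgebraTensorModule.rTensor C I K.mkQ).map_smul g y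
  constructor
  · intro h k hkK hkI
    rw [← range_mu] at hkI
    obtain ⟨y, rfl⟩ := hkI
    have hz : LinearMap.lTensor (F ⧸ K) I.subtype
        (LinearMap.rTensor I (K.mkQ.restrictScalars C) y) = 0 := by
      apply (TensorProduct.rid C (F ⧸ K)).injective
      rw [rid_lTensor_rTensor_mkQ (P := P), map_zero]
      exact (Submodule.Quotient.mk_eq_zero K).mpr hkK
    obtain ⟨g, hgT, hg⟩ := h _ hz
    rw [← hsmul] at hg
    obtain ⟨w, hw⟩ := (hexact (g • y)).mp hg
    refine ⟨g, hgT, ?_⟩
    rw [← range_mu_comp_rTensor, ← map_smul]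
    exact ⟨w, by rw [LinearMap.comp_apply]; exact congrArg _ hw⟩
  · intro h z hz
    obtain ⟨y, rfl⟩ := hsurj z
    have hk : mu (P := P) F I y ∈ K := by
      rw [← Submodule.Quotient.mk_eq_zero K]
      have := rid_lTensor_rTensor_mkQ (P := P) K I y
      rw [hz, map_zero] at this
      exact this.symm
    have hkI : mu (P := P) F I y ∈ smulTop P F I := by
      rw [← range_mu]; exact ⟨y, rfl⟩
    obtain ⟨g, hgT, hg⟩ := h _ hk hkI
    rw [← range_mu_comp_rTensor] at hg
    obtain ⟨w, hw⟩ := hg
    refine ⟨g, hgT, ?_⟩
    rw [LinearMap.comp_apply, ← map_smul] at hw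
    have hy : LinearMap.rTensor I (K.subtype.restrictScalars C) w = g • y :=
      mu_injective (P := P) I hw
    rw [← hsmul, ← hy]
    exact (hexact _).mpr ⟨w, rfl⟩

end

end Groth.Agent.H1.FlatLocus
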