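import Mathlib
import Groth.Agent.H1.FlatLocusModel
import Groth.Agent.H1.FlatLocusPres
import Groth.Agent.H1.FlatLocusCrit
import Groth.Agent.H1.FlatLocusA

set_option autoImplicit false

/-!
# Pointwise flatness of a model in terms of its presentation
-/

namespace Groth.Agent.H1.FlatLocus

universe u

open TensorProduct

attribute [local instance] MvPolynomial.algebraMvPolynomial

namespace Model

variable {Z : Type u} [CommRing Z] (𝓜 : Model Z) (C : Type u) [CommRing C] [Algebra Z C]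

omit [Algebra Z C] in
lemma mem_smulTop_iff (I : Ideal C) (x : 𝓜.F C) :
    x ∈ smulTop (𝓜.P C) (𝓜.F C) I ↔ ∀ i, x i ∈ I.map (algebraMap C (𝓜.P C)) := by
  constructor
  · intro hx i
    rw [smulTop] at hx
    refine Submodule.smul_induction_on hx ?_ ?_
    · intro a ha f _
      exact Ideal.mul_mem_right _ _ ha
    · intro x y hx hy
      exact Ideal.add_mem _ hx hy
  · intro hx
    rw [pi_eq_sum_univ x]
    refine Submodule.sum_mem _ fun i _ => ?_
    exact Submodule.smul_mem_smul (hx i) Submodule.mem_top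

omit [Algebra Z C] in
lemma mem_smulTop_iff_coeff (I : Ideal C) (x : 𝓜.F C) :
    x ∈ smulTop (𝓜.P C) (𝓜.F C) I ↔ ∀ i m, (x i).coeff m ∈ I := by
  rw [mem_smulTop_iff]
  refine forall_congr' fun i => ?_
  rw [MvPolynomial.algebraMap_eq, MvPolynomial.mem_map_C_iff]

/-- The presentation form of `Tor₁(Mod C, C/I)_q = 0`. -/
def TorAt (q : Ideal (𝓜.P C)) (I : Ideal C) : Prop :=
  ∀ k ∈ 𝓜.K C, k ∈ smulTop (𝓜.P C) (𝓜.F C) I → ∃ g : 𝓜.P C, g ∉ q ∧ g • k ∈ smulSub (𝓜.K C) I

theorem torAt_of_flat (q : Ideal (𝓜.P C)) [q.IsPrime]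
    [Module.Flat C (LocalizedModule q.primeCompl (𝓜.Mod C))] (I : Ideal C) : 𝓜.TorAt C q I := by
  intro k hk hkI
  have := (tor_presentation_iff (𝓜.K C) I q.primeCompl).mp (fun z hz => by
    obtain ⟨g, hg, h⟩ := exists_smul_eq_zero_of_flat_localizedModule (R := C) q I z hz
    exact ⟨g, hg, h⟩) k hk hkI
  obtain ⟨g, hg, h⟩ := this
  exact ⟨g, hg, h⟩

theorem flat_of_torAt [IsNoetherianRing C] (q : Ideal (𝓜.P C)) [q.IsPrime]
    (h : 𝓜.TorAt C q (q.comap (algebraMap C (𝓜.P C)))) :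
    Module.Flat C (LocalizedModule q.primeCompl (𝓜.Mod C)) := by
  refine flat_localizedModule_of_tor_comap q ?_
  intro z hz
  have := (tor_presentation_iff (𝓜.K C) (q.comap (algebraMap C (𝓜.P C))) q.primeCompl).mpr
    (fun k hk hkI => by
      obtain ⟨g, hg, h'⟩ := h k hk hkI
      exact ⟨g, hg, h'⟩) z hz
  obtain ⟨g, hg, h'⟩ := this
  exact ⟨g, hg, h'⟩

end Model

end Groth.Agent.H1.FlatLocus
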