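import Mathlib
import Groth.Agent.H1.FlatLocusTorAt

set_option autoImplicit false

/-!
# Surjectivity of the change-of-rings map on `Tor₁(-, κ)`, elementwise

For a model over `Z` and a `Z`-algebra `C` with a prime `p`: every element of `K_C ∩ p F_C` is,
up to a multiplier outside `p` and modulo `p K_C`, a `P_C`-combination of images of elements of
`K_Z ∩ p₀ F_Z` (`p₀ = p ∩ Z`).
-/

namespace Groth.Agent.H1.FlatLocus

universe u

open TensorProduct

attribute [local instance] MvPolynomial.algebraMvPolynomial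

namespace Model

variable {Z : Type u} [CommRing Z] (𝓜 : Model Z) (C : Type u) [CommRing C] [Algebra Z C]

lemma g_eq_gen (j : Fin 𝓜.m) : 𝓜.g j = 𝓜.gen Z j := by
  ext i : 1
  simp [gen, mapF_apply, Algebra.algebraMap_self, MvPolynomial.map_id]

lemma g_mem_K (j : Fin 𝓜.m) : 𝓜.g j ∈ 𝓜.K Z := by
  rw [g_eq_gen]
  exact Submodule.subset_span ⟨j, rfl⟩

lemma mapF_mem_K {x : 𝓜.F Z} (hx : x ∈ 𝓜.K Z) : 𝓜.mapF Z C x ∈ 𝓜.K C :=
  𝓜.K_le_comap Z C hx

omit [Algebra Z C] in
lemma C_smul_eq (a : C) (x : 𝓜.F C) : (MvPolynomial.C a : 𝓜.P C) • x = a • x := by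
  rw [← MvPolynomial.algebraMap_eq, algebraMap_smul]

lemma mapF_smul_poly (p : 𝓜.P Z) (x : 𝓜.F Z) :
    𝓜.mapF Z C (p • x) = (MvPolynomial.map (algebraMap Z C) p) • 𝓜.mapF Z C x := by
  ext i : 1
  simp [mapF_apply]

lemma mapF_smul_base (z : Z) (x : 𝓜.F Z) :
    𝓜.mapF Z C (z • x) = (algebraMap Z C z) • 𝓜.mapF Z C x := by
  ext i : 1
  simp only [mapF_apply, Pi.smul_apply, MvPolynomial.smul_eq_C_mul, map_mul, MvPolynomial.map_C]

lemma K_le_span : ∀ k ∈ 𝓜.K C, k ∈ Submodule.span C (𝓜.mapF Z C '' (𝓜.K Z : Set (𝓜.F Z))) := by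
  set Sp := Submodule.span C (𝓜.mapF Z C '' (𝓜.K Z : Set (𝓜.F Z))) with hSp
  have hX : ∀ i : Fin 𝓜.r, ∀ x ∈ Sp, (MvPolynomial.X i : 𝓜.P C) • x ∈ Sp := by
    intro i x hx
    induction hx using Submodule.span_induction with
    | mem x hx =>
      obtain ⟨k', hk', rfl⟩ := hx
      refine Submodule.subset_span ⟨(MvPolynomial.X i : 𝓜.P Z) • k', ?_, ?_⟩
      · exact (𝓜.K Z).smul_mem _ hk'
      · rw [mapF_smul_poly, MvPolynomial.map_X]
    | zero => simp
    | add x y _ _ hx hy => rw [smul_add]; exact Submodule.add_mem _ hx hy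
    | smul c x _ hx => rw [smul_comm]; exact Submodule.smul_mem _ _ hx
  have hP : ∀ p : 𝓜.P C, ∀ x ∈ Sp, p • x ∈ Sp := by
    intro p
    induction p using MvPolynomial.induction_on with
    | C a => intro x hx; rw [C_smul_eq]; exact Submodule.smul_mem _ _ hx
    | add p q hp hq => intro x hx; rw [add_smul]; exact Submodule.add_mem _ (hp x hx) (hq x hx)
    | mul_X p i hp => intro x hx; rw [mul_smul]; exact hp _ (hX i x hx)
  intro k hk
  rw [K] at hk
  induction hk using Submodule.span_induction with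
  | mem x hx =>
    obtain ⟨j, rfl⟩ := hx
    exact Submodule.subset_span ⟨𝓜.g j, 𝓜.g_mem_K j, rfl⟩
  | zero => exact Submodule.zero_mem _
  | add x y _ _ hx hy => exact Submodule.add_mem _ hx hy
  | smul p x _ hx => exact hP p x hx


/-- The set of elements of `K_Z` with all coefficients in `I₀`. -/
def N₀ (I₀ : Ideal Z) : Set (𝓜.F Z) :=
  {u | u ∈ 𝓜.K Z ∧ u ∈ smulTop (𝓜.P Z) (𝓜.F Z) I₀}

theorem torSurj [IsNoetherianRing Z] (p : Ideal C) [p.IsPrime] (k : 𝓜.F C) (hk : k ∈ 𝓜.K C)
    (hkI : k ∈ smulTop (𝓜.P C) (𝓜.F C) p) :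
    ∃ d : C, d ∉ p ∧ d • k ∈
      (Submodule.span (𝓜.P C) (𝓜.mapF Z C '' 𝓜.N₀ (p.comap (algebraMap Z C))) ⊔
        smulSub (𝓜.K C) p : Submodule (𝓜.P C) (𝓜.F C)) := by
  classical
  -- Step 1: write `k` as a `C`-combination of images of elements of `K_Z`
  obtain ⟨l, c, kz, hsum⟩ := Submodule.mem_span_set'.mp (𝓜.K_le_span C k hk)
  choose kz' hkz' using fun β => (kz β).2
  have hkzK : ∀ β, kz' β ∈ 𝓜.K Z := fun β => (hkz' β).1
  have hkzmap : ∀ β, 𝓜.mapF Z C (kz' β) = (kz β : 𝓜.F C) := fun β => (hkz' β).2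
  set p₀ := p.comap (algebraMap Z C) with hp₀
  -- Step 2: the residue field as a flat module over `Z ⧸ p₀`
  let D₀ := Z ⧸ p₀
  let κ := FractionRing (C ⧸ p)
  have hφ : Function.Injective (algebraMap D₀ κ) := by
    rw [IsScalarTower.algebraMap_eq D₀ (C ⧸ p) κ]
    exact (IsFractionRing.injective (C ⧸ p) κ).comp Ideal.algebraMap_quotient_injective
  have hφmk : ∀ z : Z, algebraMap D₀ κ (Ideal.Quotient.mk p₀ z) =
      algebraMap (C ⧸ p) κ (Ideal.Quotient.mk p (algebraMap Z C z)) := by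
    intro z
    rw [IsScalarTower.algebraMap_apply D₀ (C ⧸ p) κ]
    rfl
  have hflat : Module.Flat D₀ κ := by
    apply flat_of_forall_smul_bijective
    intro d hd
    have hne : algebraMap D₀ κ d ≠ 0 := fun h => hd (hφ (by rw [h, map_zero]))
    have : (fun x : κ => d • x) = fun x => algebraMap D₀ κ d * x := by
      ext x; rw [Algebra.smul_def]
    rw [this]
    exact mulLeft_bijective₀ _ hne
  -- Step 3: the relation module
  let cbar : Fin l → κ := fun β => algebraMap (C ⧸ p) κ (Ideal.Quotient.mk p (c β))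
  let v : Fin 𝓜.n × (Fin 𝓜.r →₀ ℕ) → (Fin l → D₀) :=
    fun im β => Ideal.Quotient.mk p₀ ((kz' β im.1).coeff im.2)
  let Kmod : Submodule D₀ (Fin l → D₀) := Submodule.span D₀ (Set.range v)
  let x : (Fin l → D₀) →ₗ[D₀] κ := Fintype.linearCombination D₀ cbar
  have hcoeff : ∀ i m, (k i).coeff m = ∑ β, c β * algebraMap Z C ((kz' β i).coeff m) := by
    intro i m
    rw [← hsum]
    simp only [Finset.sum_apply, Pi.smul_apply, MvPolynomial.coeff_sum, MvPolynomial.coeff_smul,
      smul_eq_mul]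
    refine Finset.sum_congr rfl fun β _ => ?_
    rw [← hkzmap, mapF_apply, MvPolynomial.coeff_map]
  have hx0 : x ∘ₗ Kmod.subtype = 0 := by
    apply LinearMap.ext
    rintro ⟨e, he⟩
    simp only [LinearMap.comp_apply, Submodule.subtype_apply, LinearMap.zero_apply]
    induction he using Submodule.span_induction with
    | mem e he =>
      obtain ⟨⟨i, m⟩, rfl⟩ := he
      have hmem : (k i).coeff m ∈ p := (𝓜.mem_smulTop_iff_coeff C p k).mp hkI i m
      rw [hcoeff] at hmem
      simp only [x, Fintype.linearCombination_apply, v, cbar, Algebra.smul_def, hφmk, ← map_mul,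
        ← map_sum]
      rw [(Ideal.Quotient.eq_zero_iff_mem (I := p)).mpr (by
        convert hmem using 1
        exact Finset.sum_congr rfl fun β _ => mul_comm _ _), map_zero]
    | zero => simp
    | add a b _ _ ha hb => rw [map_add, ha, hb, add_zero]
    | smul d a _ ha => rw [map_smul, ha, smul_zero]
  -- Step 4: the equational criterion
  obtain ⟨k', a, y, hya, haf⟩ :=
    Module.Flat.exists_factorization_of_comp_eq_zero_of_free (R := D₀) (M := κ) hx0
  -- Step 5: the elements `u i`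
  let abar : Fin k' → Fin l → D₀ := fun i β => a (Pi.single β 1) i
  choose at' hat using fun i β => Ideal.Quotient.mk_surjective (abar i β)
  let u : Fin k' → 𝓜.F Z := fun i => ∑ β, (at' i β) • kz' β
  have hu1 : ∀ i, u i ∈ 𝓜.K Z := fun i =>
    Submodule.sum_mem _ fun β _ => (𝓜.K Z).smul_of_tower_mem _ (hkzK β)
  have ha_v : ∀ (e : Fin l → D₀) (i : Fin k'), a e i = ∑ β, e β * abar i β := by
    intro e i
    have he : e = ∑ β, e β • (Pi.single β (1 : D₀) : Fin l → D₀) := by
      ext j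
      simp [Finset.sum_apply, Pi.single_apply]
    conv_lhs => rw [he]
    simp only [map_sum, map_smul, Finsupp.coe_finsetSum, Finsupp.coe_smul, Finset.sum_apply,
      Pi.smul_apply, smul_eq_mul, abar]
  have hu2 : ∀ i, u i ∈ smulTop (𝓜.P Z) (𝓜.F Z) p₀ := by
    intro i
    rw [mem_smulTop_iff_coeff]
    intro j m
    rw [← Ideal.Quotient.eq_zero_iff_mem]
    have h0 : a (v (j, m)) = 0 :=
      LinearMap.congr_fun haf ⟨v (j, m), Submodule.subset_span ⟨_, rfl⟩⟩
    have h1 := ha_v (v (j, m)) i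
    rw [h0] at h1
    simp only [Finsupp.coe_zero, Pi.zero_apply] at h1
    simp only [u, Finset.sum_apply, Pi.smul_apply, MvPolynomial.coeff_sum, MvPolynomial.coeff_smul,
      smul_eq_mul, map_sum, map_mul, hat]
    rw [h1]
    exact Finset.sum_congr rfl fun β _ => mul_comm _ _
  -- Step 6: common denominator
  let y' : Fin k' → κ := fun i => y (Finsupp.single i 1)
  have hc : ∀ β, cbar β = ∑ i, abar i β • y' i := by
    intro β
    have h1 : x (Pi.single β 1) = cbar β := by
      simp [x, Fintype.linearCombination_apply, Pi.single_apply]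
    have h2 : a (Pi.single β 1) = ∑ i, abar i β • Finsupp.single i (1 : D₀) := by
      ext i
      simp [abar]
    rw [← h1, hya, LinearMap.comp_apply, h2, map_sum]
    simp only [map_smul, y']
  obtain ⟨b, hb⟩ := IsLocalization.exist_integer_multiples (nonZeroDivisors (C ⧸ p))
    Finset.univ y'
  choose nn hnn using fun i => hb i (Finset.mem_univ i)
  obtain ⟨d, hd⟩ := Ideal.Quotient.mk_surjective (b : C ⧸ p)
  have hdp : d ∉ p := by
    intro h
    have : (b : C ⧸ p) = 0 := by rw [← hd]; exact Ideal.Quotient.eq_zero_iff_mem.mpr h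
    exact nonZeroDivisors.coe_ne_zero b this
  choose c' hc' using fun i => Ideal.Quotient.mk_surjective (nn i)
  -- Step 7
  have key : ∀ β, d * c β - ∑ i, algebraMap Z C (at' i β) * c' i ∈ p := by
    intro β
    rw [← Ideal.Quotient.eq_zero_iff_mem, map_sub, sub_eq_zero]
    apply IsFractionRing.injective (C ⧸ p) κ
    calc algebraMap (C ⧸ p) κ (Ideal.Quotient.mk p (d * c β))
        = (b : C ⧸ p) • cbar β := by
          rw [map_mul, map_mul, hd, Algebra.smul_def]
      _ = ∑ i, abar i β • ((b : C ⧸ p) • y' i) := by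
          rw [hc β, Finset.smul_sum]
          exact Finset.sum_congr rfl fun i _ => smul_comm _ _ _
      _ = ∑ i, algebraMap D₀ κ (abar i β) * algebraMap (C ⧸ p) κ (nn i) := by
          refine Finset.sum_congr rfl fun i _ => ?_
          rw [← hnn i, Algebra.smul_def]
      _ = algebraMap (C ⧸ p) κ (Ideal.Quotient.mk p (∑ i, algebraMap Z C (at' i β) * c' i)) := by
          rw [map_sum, map_sum]
          refine Finset.sum_congr rfl fun i _ => ?_
          rw [← hat i β, hφmk, map_mul, map_mul, hc' i]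
  -- Step 8
  refine ⟨d, hdp, ?_⟩
  have hu_map : ∀ i, 𝓜.mapF Z C (u i) = ∑ β, algebraMap Z C (at' i β) • 𝓜.mapF Z C (kz' β) := by
    intro i
    simp only [u, map_sum, mapF_smul_base]
  have hdk : d • k = ∑ i, c' i • 𝓜.mapF Z C (u i) +
      ∑ β, (d * c β - ∑ i, algebraMap Z C (at' i β) * c' i) • 𝓜.mapF Z C (kz' β) := by
    have e1 : ∑ i, c' i • 𝓜.mapF Z C (u i) =
        ∑ β, (∑ i, algebraMap Z C (at' i β) * c' i) • 𝓜.mapF Z C (kz' β) := by
      simp only [hu_map, Finset.smul_sum, Finset.sum_smul, smul_smul]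
      rw [Finset.sum_comm]
      refine Finset.sum_congr rfl fun β _ => Finset.sum_congr rfl fun i _ => ?_
      rw [mul_comm]
    rw [e1, ← Finset.sum_add_distrib, ← hsum, Finset.smul_sum]
    refine Finset.sum_congr rfl fun β _ => ?_
    rw [← add_smul, add_sub_cancel, smul_smul, hkzmap]
  rw [hdk]
  refine Submodule.add_mem _ (Submodule.mem_sup_left ?_) (Submodule.mem_sup_right ?_)
  · refine Submodule.sum_mem _ fun i _ => ?_
    exact Submodule.smul_of_tower_mem _ _ (Submodule.subset_span ⟨u i, ⟨hu1 i, hu2 i⟩, rfl⟩)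
  · refine Submodule.sum_mem _ fun β _ => ?_
    rw [← algebraMap_smul (𝓜.P C)]
    exact Submodule.smul_mem_smul (Ideal.mem_map_of_mem _ (key β)) (𝓜.mapF_mem_K C (hkzK β))

end Model

end Groth.Agent.H1.FlatLocus
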