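import Mathlib
import Groth.Agent.H1.FlatLocusTorSurj

set_option autoImplicit false

/-!
# Pointwise descent of flatness to a finitely generated subalgebra (EGA IV 11.2.6, local part)
-/

namespace Groth.Agent.H1.FlatLocus

universe u

open TensorProduct

attribute [local instance] MvPolynomial.algebraMvPolynomial

theorem exists_common_smul_mem {P N ι : Type*} [CommRing P] [AddCommGroup N] [Module P N]
    (T : Submonoid P) (W : Submodule P N) (U : Finset ι) (f : ι → N)
    (h : ∀ u ∈ U, ∃ g ∈ T, g • f u ∈ W) : ∃ g ∈ T, ∀ u ∈ U, g • f u ∈ W := by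
  classical
  induction U using Finset.induction_on with
  | empty => exact ⟨1, T.one_mem, by simp⟩
  | insert a U ha ih =>
    obtain ⟨g₁, hg₁, h₁⟩ := ih (fun u hu => h u (Finset.mem_insert_of_mem hu))
    obtain ⟨g₂, hg₂, h₂⟩ := h a (Finset.mem_insert_self a U)
    refine ⟨g₁ * g₂, T.mul_mem hg₁ hg₂, fun u hu => ?_⟩
    rcases Finset.mem_insert.mp hu with rfl | hu
    · rw [mul_smul]; exact W.smul_mem _ h₂
    · rw [mul_comm, mul_smul]; exact W.smul_mem _ (h₁ u hu)

namespace Model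

variable {Z : Type u} [CommRing Z] (𝓜 : Model Z)

section compose

variable (C A : Type u) [CommRing C] [CommRing A] [Algebra C A]

lemma mapF_smul_poly' (p : 𝓜.P C) (x : 𝓜.F C) :
    𝓜.mapF C A (p • x) = (MvPolynomial.map (algebraMap C A) p) • 𝓜.mapF C A x := by
  ext i : 1
  simp [mapF_apply]

lemma mapF_injective (h : Function.Injective (algebraMap C A)) :
    Function.Injective (𝓜.mapF C A) := by
  intro x y hxy
  ext i : 1
  exact MvPolynomial.map_injective _ h (congrFun hxy i)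

variable [Algebra Z C] [Algebra Z A] [IsScalarTower Z C A]

lemma mapF_comp (x : 𝓜.F Z) : 𝓜.mapF C A (𝓜.mapF Z C x) = 𝓜.mapF Z A x := by
  ext i : 1
  simp only [mapF_apply, MvPolynomial.map_map]
  rw [← IsScalarTower.algebraMap_eq]

end compose

/-- **Pointwise descent of flatness.**  If `(Mod A)_q` is flat over `A`, then for every
sufficiently large finitely generated subalgebra `C ⊆ A`, `(Mod C)_{q ∩ P_C}` is flat over `C`. -/
theorem exists_finset_forall_flat [IsNoetherianRing Z] (A : Type u) [CommRing A] [Algebra Z A]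
    (q : Ideal (𝓜.P A)) [q.IsPrime] [Module.Flat A (LocalizedModule q.primeCompl (𝓜.Mod A))] :
    ∃ Sg : Finset A, ∀ (C : Subalgebra Z A), (Sg : Set A) ⊆ C → C.FG →
      Module.Flat C (LocalizedModule
        (q.comap (algebraMap (𝓜.P C) (𝓜.P A))).primeCompl (𝓜.Mod C)) := by
  classical
  set pA := q.comap (algebraMap A (𝓜.P A)) with hpA
  set p₀ := pA.comap (algebraMap Z A) with hp₀
  have hnoeth : IsNoetherian (𝓜.P Z) (𝓜.F Z) := inferInstance
  obtain ⟨U, hU⟩ := IsNoetherian.noetherian (𝓜.K Z ⊓ smulTop (𝓜.P Z) (𝓜.F Z) p₀)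
  have hUmem : ∀ u ∈ U, u ∈ 𝓜.K Z ∧ u ∈ smulTop (𝓜.P Z) (𝓜.F Z) p₀ := fun u hu => by
    have : u ∈ 𝓜.K Z ⊓ smulTop (𝓜.P Z) (𝓜.F Z) p₀ := hU ▸ Submodule.subset_span hu
    exact this
  have hA : ∀ u ∈ U, ∃ s ∈ q.primeCompl, s • 𝓜.mapF Z A u ∈ smulSub (𝓜.K A) pA := by
    intro u hu
    obtain ⟨h1, h2⟩ := hUmem u hu
    refine 𝓜.torAt_of_flat A q pA _ (𝓜.mapF_mem_K A h1) ?_
    rw [mem_smulTop_iff_coeff] at h2 ⊢
    intro i m
    rw [mapF_apply, MvPolynomial.coeff_map]
    exact h2 i m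
  obtain ⟨s, hs, hsU⟩ := exists_common_smul_mem q.primeCompl (smulSub (𝓜.K A) pA) U
    (𝓜.mapF Z A) hA
  have hcert : ∀ u : 𝓜.F Z, ∃ b : Fin 𝓜.m → 𝓜.P A, u ∈ U →
      (∀ j, b j ∈ pA.map (algebraMap A (𝓜.P A))) ∧ ∑ j, b j • 𝓜.gen A j = s • 𝓜.mapF Z A u := by
    intro u
    by_cases hu : u ∈ U
    · have := hsU u hu
      rw [smulSub, K, Submodule.mem_ideal_smul_span_iff_exists_sum] at this
      obtain ⟨a, ha, hsum⟩ := this
      refine ⟨a, fun _ => ⟨ha, ?_⟩⟩
      rw [← hsum]
      exact (Finsupp.sum_fintype a (fun j c => c • 𝓜.gen A j) (fun i => zero_smul _ _)).symm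
    · exact ⟨0, fun h => absurd h hu⟩
  choose b hb using hcert
  refine ⟨s.coeffs ∪ U.biUnion (fun u => Finset.univ.biUnion (fun j => (b u j).coeffs)), ?_⟩
  intro C hSg hCfg
  have hft : Algebra.FiniteType Z C := (Subalgebra.fg_iff_finiteType C).mp hCfg
  have hCnoeth : IsNoetherianRing C := Algebra.FiniteType.isNoetherianRing Z C
  have hinj : Function.Injective (algebraMap C A) := Subtype.val_injective
  have hlift : ∀ f : 𝓜.P A, (f.coeffs : Set A) ⊆ C →
      ∃ f' : 𝓜.P C, MvPolynomial.map (algebraMap C A) f' = f := by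
    intro f hf
    exact MvPolynomial.mem_range_map_iff_coeffs_subset.mpr
      (fun a ha => ⟨⟨a, hf ha⟩, rfl⟩)
  obtain ⟨sC, hsC⟩ := hlift s (fun a ha => hSg (by
    simp only [Finset.coe_union, Set.mem_union]; exact Or.inl ha))
  have hbC : ∀ u : 𝓜.F Z, ∀ j, ∃ f' : 𝓜.P C, u ∈ U →
      MvPolynomial.map (algebraMap C A) f' = b u j := by
    intro u j
    by_cases hu : u ∈ U
    · obtain ⟨f', hf'⟩ := hlift (b u j) (fun a ha => hSg (by
        simp only [Finset.coe_union, Set.mem_union, Finset.coe_biUnion, Set.mem_iUnion]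
        exact Or.inr ⟨u, hu, j, Finset.mem_coe.mpr (Finset.mem_univ j), ha⟩))
      exact ⟨f', fun _ => hf'⟩
    · exact ⟨0, fun h => absurd h hu⟩
  choose bC hbC using hbC
  set qC := q.comap (algebraMap (𝓜.P C) (𝓜.P A)) with hqC
  set pC := qC.comap (algebraMap C (𝓜.P C)) with hpC
  have hpC_iff : ∀ c : C, c ∈ pC ↔ (c : A) ∈ pA := by
    intro c
    simp only [hpC, hqC, hpA, Ideal.mem_comap, MvPolynomial.algebraMap_eq,
      MvPolynomial.algebraMap_def, MvPolynomial.map_C]
    rfl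
  have hp₀' : pC.comap (algebraMap Z C) = p₀ := by
    ext z
    rw [Ideal.mem_comap, hpC_iff, hp₀, Ideal.mem_comap]
    rfl
  have hsCq : sC ∉ qC := by
    intro h
    apply hs
    rw [hqC, Ideal.mem_comap, MvPolynomial.algebraMap_def, hsC] at h
    exact h
  -- the key membership for the generators
  have hgenU : ∀ u ∈ U, sC • 𝓜.mapF Z C u ∈ smulSub (𝓜.K C) pC := by
    intro u hu
    have e : sC • 𝓜.mapF Z C u = ∑ j, bC u j • 𝓜.gen C j := by
      apply 𝓜.mapF_injective C A hinj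
      rw [mapF_smul_poly', hsC, mapF_comp, map_sum]
      simp only [mapF_smul_poly', hbC u _ hu, mapF_gen]
      exact ((hb u hu).2).symm
    rw [e]
    refine Submodule.sum_mem _ fun j _ => ?_
    refine Submodule.smul_mem_smul ?_ (Submodule.subset_span ⟨j, rfl⟩)
    rw [MvPolynomial.algebraMap_eq, MvPolynomial.mem_map_C_iff]
    intro m
    rw [hpC_iff]
    have h1 := (hb u hu).1 j
    rw [MvPolynomial.algebraMap_eq, MvPolynomial.mem_map_C_iff] at h1
    have h2 := h1 m
    rw [← hbC u j hu, MvPolynomial.coeff_map] at h2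
    exact h2
  -- the submodule of elements `x` with `sC • x ∈ pC K_C`
  have hspan : ∀ x ∈ Submodule.span (𝓜.P C) (𝓜.mapF Z C '' 𝓜.N₀ (pC.comap (algebraMap Z C))),
      sC • x ∈ smulSub (𝓜.K C) pC := by
    intro x hx
    induction hx using Submodule.span_induction with
    | mem x hx =>
      obtain ⟨u₀, hu₀, rfl⟩ := hx
      rw [hp₀'] at hu₀
      have hu₀' : u₀ ∈ Submodule.span (𝓜.P Z) (U : Set (𝓜.F Z)) := by
        rw [hU]; exact hu₀
      clear hu₀
      induction hu₀' using Submodule.span_induction with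
      | mem u hu => exact hgenU u hu
      | zero => simp
      | add a b _ _ ha hb => rw [map_add, smul_add]; exact Submodule.add_mem _ ha hb
      | smul ρ a _ ha =>
        rw [mapF_smul_poly, smul_comm]
        exact Submodule.smul_mem _ _ ha
    | zero => simp
    | add a b _ _ ha hb => rw [smul_add]; exact Submodule.add_mem _ ha hb
    | smul ρ a _ ha => rw [smul_comm]; exact Submodule.smul_mem _ _ ha
  apply 𝓜.flat_of_torAt C qC
  intro k hk hkI
  obtain ⟨d, hd, hdk⟩ := 𝓜.torSurj C pC k hk hkI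
  refine ⟨sC * MvPolynomial.C d, ?_, ?_⟩
  · intro h
    rcases (Ideal.IsPrime.mem_or_mem inferInstance h) with h | h
    · exact hsCq h
    · apply hd
      rw [hpC, Ideal.mem_comap, MvPolynomial.algebraMap_eq]
      exact h
  · rw [mul_smul, C_smul_eq]
    obtain ⟨x₁, hx₁, x₂, hx₂, hsum⟩ := Submodule.mem_sup.mp hdk
    rw [← hsum, smul_add]
    exact Submodule.add_mem _ (hspan x₁ hx₁) (Submodule.smul_mem _ _ hx₂)

end Model

end Groth.Agent.H1.FlatLocus
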