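import Mathlib
import Groth.Agent.H1.FlatLocusDescentPt

set_option autoImplicit false

/-!
# Openness of the flat locus of a model over an arbitrary base
-/

namespace Groth.Agent.H1.FlatLocus

universe u

open TensorProduct

attribute [local instance] MvPolynomial.algebraMvPolynomial

section

variable {R S M : Type u} [CommRing R] [CommRing S] [Algebra R S] [AddCommGroup M] [Module R M]
  [Module S M] [IsScalarTower R S M]

/-- Elementwise characterization of pointwise flatness. -/
theorem flat_localizedModule_iff (q : Ideal S) [q.IsPrime] :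
    Module.Flat R (LocalizedModule q.primeCompl M) ↔
      ∀ (I : Ideal R) (z : M ⊗[R] I), LinearMap.lTensor M I.subtype z = 0 →
        ∃ g : S, g ∉ q ∧ g • z = 0 := by
  constructor
  · intro h I z hz
    exact exists_smul_eq_zero_of_flat_localizedModule (R := R) q I z hz
  · intro h
    rw [Module.Flat.iff_lTensor_injective']
    intro I
    exact lTensor_localizedModule_injective q I (h I)

end

namespace Model

variable {Z : Type u} [CommRing Z] (𝓜 : Model Z)

/-- **Openness of the flat locus** of a model, over an arbitrary (non-Noetherian) base `A`. -/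
theorem isOpen_flatLocus [IsNoetherianRing Z] (A : Type u) [CommRing A] [Algebra Z A] :
    IsOpen (flatLocus A (S := 𝓜.P A) (𝓜.Mod A)) := by
  rw [isOpen_iff_forall_mem_open]
  intro q hq
  have hqflat : Module.Flat A (LocalizedModule q.asIdeal.primeCompl (𝓜.Mod A)) := hq
  obtain ⟨Sg, hSg⟩ := 𝓜.exists_finset_forall_flat A q.asIdeal
  set C : Subalgebra Z A := Algebra.adjoin Z (Sg : Set A) with hC
  have hCfg : C.FG := ⟨Sg, rfl⟩
  have hft : Algebra.FiniteType Z C := (Subalgebra.fg_iff_finiteType C).mp hCfg
  have hCnoeth : IsNoetherianRing C := Algebra.FiniteType.isNoetherianRing Z C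
  have hopen : IsOpen (flatLocus C (S := 𝓜.P C) (𝓜.Mod C)) :=
    isOpen_flatLocus_of_isNoetherianRing
  refine ⟨PrimeSpectrum.comap (algebraMap (𝓜.P C) (𝓜.P A)) ⁻¹'
    (flatLocus C (S := 𝓜.P C) (𝓜.Mod C)), ?_, ?_, ?_⟩
  · intro q' hq'
    have : Module.Flat C (LocalizedModule
        ((q'.asIdeal).comap (algebraMap (𝓜.P C) (𝓜.P A))).primeCompl (𝓜.Mod C)) := hq'
    exact 𝓜.flat_localizedModule_of_comap C A q'.asIdeal
  · exact hopen.preimage (PrimeSpectrum.continuous_comap _)
  · exact hSg C Algebra.subset_adjoin hCfg

end Model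

end Groth.Agent.H1.FlatLocus
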