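import Mathlib
import Groth.Agent.H1.FlatLocusOpen

set_option autoImplicit false

/-!
# Existence of models, and openness of the flat locus in the finitely presented case
-/

namespace Groth.Agent.H1.FlatLocus

universe u

open TensorProduct

attribute [local instance] MvPolynomial.algebraMvPolynomial

/-- Every finitely presented module over a finitely presented algebra comes from a model over a
finitely generated `ℤ`-subalgebra of the base. -/
theorem exists_model (R S M : Type u) [CommRing R] [CommRing S] [Algebra R S]
    [Algebra.FinitePresentation R S] [AddCommGroup M] [Module S M]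
    [Module.FinitePresentation S M] :
    ∃ (Z : Subalgebra ℤ R) (_ : Z.FG) (𝓜 : Model Z) (φ : 𝓜.P R →ₐ[R] S) (e : 𝓜.Mod R ≃+ M),
      Function.Surjective φ ∧ ∀ (p : 𝓜.P R) (x : 𝓜.Mod R), e (p • x) = φ p • e x := by
  classical
  obtain ⟨r, φ₀, hφ₀surj, hφ₀ker⟩ := Algebra.FinitePresentation.out (R := R) (A := S)
  let P := MvPolynomial (Fin r) R
  let _ : Algebra P S := φ₀.toRingHom.toAlgebra
  let _ : Module P M := Module.compHom M φ₀.toRingHom
  have htower : IsScalarTower P S M := IsScalarTower.of_algebraMap_smul fun p x => rfl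
  have hfpS : Module.FinitePresentation P S := by
    refine Module.finitePresentation_of_surjective (Algebra.linearMap P S) hφ₀surj ?_
    have : LinearMap.ker (Algebra.linearMap P S) = (RingHom.ker φ₀.toRingHom) := by
      ext x
      rfl
    rw [this]
    exact hφ₀ker
  have hfpM : Module.FinitePresentation P M := Module.FinitePresentation.trans P M S
  obtain ⟨n, s, hs⟩ := Module.Finite.exists_fin (R := P) (M := M)
  let l : (Fin n → P) →ₗ[P] M := Fintype.linearCombination P s
  have hl : Function.Surjective l := by
    rw [← LinearMap.range_eq_top, Fintype.range_linearCombination, hs]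
  have hker : (LinearMap.ker l).FG := Module.FinitePresentation.fg_ker l hl
  obtain ⟨m, g, hg⟩ := Submodule.fg_iff_exists_fin_generating_family.mp hker
  let Sg : Finset R := Finset.univ.biUnion (fun j : Fin m =>
    Finset.univ.biUnion (fun i : Fin n => (g j i).coeffs))
  let Z : Subalgebra ℤ R := Algebra.adjoin ℤ (Sg : Set R)
  have hlift : ∀ j i, ∃ f' : MvPolynomial (Fin r) Z,
      MvPolynomial.map (algebraMap Z R) f' = g j i := by
    intro j i
    refine MvPolynomial.mem_range_map_iff_coeffs_subset.mpr (fun a ha => ?_)
    refine ⟨⟨a, Algebra.subset_adjoin ?_⟩, rfl⟩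
    simp only [Sg, Finset.coe_biUnion, Set.mem_iUnion]
    exact ⟨j, Finset.mem_coe.mpr (Finset.mem_univ j), i, Finset.mem_coe.mpr (Finset.mem_univ i), ha⟩
  choose g₀ hg₀ using hlift
  let 𝓜 : Model Z := ⟨r, n, m, g₀⟩
  have hgen : 𝓜.gen R = g := by
    funext j
    ext i : 1
    exact hg₀ j i
  have hK : 𝓜.K R = LinearMap.ker l := by
    rw [Model.K, hgen, hg]
  let e : 𝓜.Mod R ≃ₗ[P] M :=
    (Submodule.quotEquivOfEq _ _ hK).trans (l.quotKerEquivOfSurjective hl)
  refine ⟨Z, ⟨Sg, rfl⟩, 𝓜, φ₀, e.toAddEquiv, hφ₀surj, ?_⟩
  intro p x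
  exact e.map_smul p x

section

variable {R S M : Type u} [CommRing R] [CommRing S] [Algebra R S] [AddCommGroup M] [Module R M]
  [Module S M] [IsScalarTower R S M]

/-- Transfer of pointwise flatness along a surjection of algebras and a semilinear isomorphism of
modules. -/
theorem flat_localizedModule_iff_of_surjective {P N : Type u} [CommRing P] [Algebra R P]
    [AddCommGroup N] [Module R N] [Module P N] [IsScalarTower R P N]
    (φ : P →ₐ[R] S) (hφ : Function.Surjective φ) (e : N ≃+ M)
    (he : ∀ (p : P) (x : N), e (p • x) = φ p • e x) (q : Ideal S) [q.IsPrime] :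
    Module.Flat R (LocalizedModule (q.comap φ).primeCompl N) ↔
      Module.Flat R (LocalizedModule q.primeCompl M) := by
  have heR : ∀ (r : R) (x : N), e (r • x) = r • e x := by
    intro r x
    rw [← algebraMap_smul P r x, he, AlgHom.commutes, algebraMap_smul]
  let eR : N ≃ₗ[R] M := { e with map_smul' := heR }
  have heRapp : ∀ x, eR x = e x := fun x => rfl
  have hcompat : ∀ (I : Ideal R) (p : P) (z : N ⊗[R] I),
      (TensorProduct.congr eR (LinearEquiv.refl R I)) (p • z) =
        φ p • (TensorProduct.congr eR (LinearEquiv.refl R I)) z := by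
    intro I p z
    induction z with
    | zero => simp
    | add x y hx hy => simp only [smul_add, map_add, hx, hy]
    | tmul x i =>
      rw [TensorProduct.smul_tmul', TensorProduct.congr_tmul, TensorProduct.congr_tmul,
        TensorProduct.smul_tmul', heRapp, he, heRapp]
  have hlT : ∀ (I : Ideal R) (z : N ⊗[R] I),
      LinearMap.lTensor M I.subtype ((TensorProduct.congr eR (LinearEquiv.refl R I)) z) =
        (TensorProduct.congr eR (LinearEquiv.refl R R)) (LinearMap.lTensor N I.subtype z) := by
    intro I z
    induction z with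
    | zero => simp
    | add x y hx hy => simp only [map_add, hx, hy]
    | tmul x i => simp
  rw [flat_localizedModule_iff, flat_localizedModule_iff]
  constructor
  · intro h I z hz
    obtain ⟨z', rfl⟩ := (TensorProduct.congr eR (LinearEquiv.refl R I)).surjective z
    rw [hlT, LinearEquiv.map_eq_zero_iff] at hz
    obtain ⟨p, hp, hpz⟩ := h I z' hz
    refine ⟨φ p, hp, ?_⟩
    rw [← hcompat, hpz, map_zero]
  · intro h I z hz
    have hz' : LinearMap.lTensor M I.subtype
        ((TensorProduct.congr eR (LinearEquiv.refl R I)) z) = 0 := by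
      rw [hlT, hz, map_zero]
    obtain ⟨g, hg, hgz⟩ := h I _ hz'
    obtain ⟨p, rfl⟩ := hφ g
    refine ⟨p, hg, ?_⟩
    rw [← hcompat, LinearEquiv.map_eq_zero_iff] at hgz
    exact hgz

/-- **Openness of the flat locus**: `R → S` of finite presentation, `M` a finitely presented
`S`-module. -/
theorem isOpen_flatLocus_of_finitePresentation [Algebra.FinitePresentation R S]
    [Module.FinitePresentation S M] : IsOpen (flatLocus R (S := S) M) := by
  obtain ⟨Z, hZ, 𝓜, φ, e, hφ, he⟩ := exists_model R S M
  have hft : Algebra.FiniteType ℤ Z := (Subalgebra.fg_iff_finiteType Z).mp hZ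
  have hZnoeth : IsNoetherianRing Z := Algebra.FiniteType.isNoetherianRing ℤ Z
  have hopen := 𝓜.isOpen_flatLocus R
  have heq : flatLocus R (S := S) M =
      PrimeSpectrum.comap φ.toRingHom ⁻¹' (flatLocus R (S := 𝓜.P R) (𝓜.Mod R)) := by
    ext q
    exact (flat_localizedModule_iff_of_surjective φ hφ e he q.asIdeal).symm
  rw [heq]
  exact hopen.preimage (PrimeSpectrum.continuous_comap _)

end

end Groth.Agent.H1.FlatLocus
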