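import Mathlib
import Groth.Agent.H1.FibreCritPhi
import Groth.Agent.H1.FlatLocusExists

set_option autoImplicit false

/-!
# The combined model of a two-level model
-/

namespace Groth.Agent.H1.FibreCrit

universe u

open TensorProduct Groth.Agent.H1.FlatLocus

attribute [local instance] MvPolynomial.algebraMvPolynomial

section QuotIso

/-- Quotients by corresponding submodules along a surjective semilinear map are isomorphic. -/
theorem exists_addEquiv_quotient {P P' F F' : Type*} [CommRing P] [CommRing P'] [AddCommGroup F]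
    [Module P F] [AddCommGroup F'] [Module P' F'] (φ : P →+* P')
    (Φ : F →+ F') (hΦ : Function.Surjective Φ) (hsl : ∀ p x, Φ (p • x) = φ p • Φ x)
    (K : Submodule P F) (K' : Submodule P' F') (hK : ∀ x, x ∈ K ↔ Φ x ∈ K') :
    ∃ e : (F ⧸ K) ≃+ (F' ⧸ K'),
      (∀ x, e (Submodule.Quotient.mk x) = Submodule.Quotient.mk (Φ x)) ∧
      ∀ (p : P) (x : F ⧸ K), e (p • x) = φ p • e x := by
  let _ : Module P (F' ⧸ K') := Module.compHom _ φ
  let Φ' : F →ₗ[P] F' ⧸ K' :=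
    { toFun := fun x => Submodule.Quotient.mk (Φ x)
      map_add' := fun x y => by rw [map_add, Submodule.Quotient.mk_add]
      map_smul' := fun p x => by
        rw [hsl, Submodule.Quotient.mk_smul]
        rfl }
  have hle : K ≤ LinearMap.ker Φ' := fun x hx => by
    rw [LinearMap.mem_ker]
    exact (Submodule.Quotient.mk_eq_zero K').mpr ((hK x).mp hx)
  have hker : LinearMap.ker Φ' ≤ K := fun x hx => by
    rw [LinearMap.mem_ker] at hx
    exact (hK x).mpr ((Submodule.Quotient.mk_eq_zero K').mp hx)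
  have hinj : Function.Injective (K.liftQ Φ' hle) := by
    rw [← LinearMap.ker_eq_bot]
    exact Submodule.ker_liftQ_eq_bot K Φ' hle hker
  have hsurj : Function.Surjective (K.liftQ Φ' hle) := by
    intro y
    obtain ⟨y', rfl⟩ := Submodule.Quotient.mk_surjective K' y
    obtain ⟨x, rfl⟩ := hΦ y'
    exact ⟨Submodule.Quotient.mk x, rfl⟩
  let e := LinearEquiv.ofBijective (K.liftQ Φ' hle) ⟨hinj, hsurj⟩
  refine ⟨e.toAddEquiv, fun x => rfl, fun p x => ?_⟩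
  exact e.map_smul p x

end QuotIso

namespace L1

variable {Z₀ : Type u} [CommRing Z₀] (𝓛 : L1 Z₀) {Z : Type u} [CommRing Z] [Algebra Z₀ Z]
  (𝓜' : Model (𝓛.Q Z))

/-- The index type of the relations of the combined model. -/
abbrev RelIdx : Type := Fin 𝓜'.m ⊕ (Fin 𝓛.a × Fin 𝓜'.n)

/-- Chosen lifts of the relations. -/
noncomputable def liftG (j : Fin 𝓜'.m) (i : Fin 𝓜'.n) : MvPolynomial (Fin (𝓜'.r + 𝓛.r)) Z :=
  (𝓛.phi_surjective 𝓜'.r Z (𝓜'.g j i)).choose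

lemma phi_liftG (j : Fin 𝓜'.m) (i : Fin 𝓜'.n) :
    𝓛.phi 𝓜'.r Z (𝓛.liftG 𝓜' j i) = 𝓜'.g j i :=
  (𝓛.phi_surjective 𝓜'.r Z (𝓜'.g j i)).choose_spec

/-- The relations of the combined model. -/
noncomputable def relG : 𝓛.RelIdx 𝓜' → Fin 𝓜'.n → MvPolynomial (Fin (𝓜'.r + 𝓛.r)) Z
  | Sum.inl j => 𝓛.liftG 𝓜' j
  | Sum.inr (i, k) => Pi.single k (𝓛.h 𝓜'.r Z i)

/-- The combined model. -/
noncomputable abbrev comb : Model Z where
  r := 𝓜'.r + 𝓛.r
  n := 𝓜'.n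
  m := Fintype.card (𝓛.RelIdx 𝓜')
  g := fun j => 𝓛.relG 𝓜' ((Fintype.equivFin (𝓛.RelIdx 𝓜')).symm j)

section C

variable (C : Type u) [CommRing C] [Algebra Z₀ C] [Algebra Z C] [IsScalarTower Z₀ Z C]

/-- The componentwise map. -/
noncomputable def Phi : (𝓛.comb 𝓜').F C →+ 𝓜'.F (𝓛.Q C) where
  toFun x := fun i => 𝓛.phi 𝓜'.r C (x i)
  map_zero' := by funext i; simp
  map_add' x y := by funext i; simp

lemma Phi_apply (x : (𝓛.comb 𝓜').F C) (i : Fin 𝓜'.n) :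
    𝓛.Phi 𝓜' C x i = 𝓛.phi 𝓜'.r C (x i) := rfl

lemma Phi_smul (p : (𝓛.comb 𝓜').P C) (x : (𝓛.comb 𝓜').F C) :
    𝓛.Phi 𝓜' C (p • x) = 𝓛.phi 𝓜'.r C p • 𝓛.Phi 𝓜' C x := by
  funext i
  simp only [Phi_apply, Pi.smul_apply, smul_eq_mul, map_mul]

lemma Phi_surjective : Function.Surjective (𝓛.Phi 𝓜' C) := by
  intro y
  choose x hx using fun i => 𝓛.phi_surjective 𝓜'.r C (y i)
  exact ⟨x, funext hx⟩

lemma Phi_gen_inl (j : Fin 𝓜'.m) :
    𝓛.Phi 𝓜' C ((𝓛.comb 𝓜').mapF Z C (𝓛.relG 𝓜' (Sum.inl j))) = 𝓜'.gen (𝓛.Q C) j := by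
  funext i
  rw [Phi_apply, Model.mapF_apply, relG, ← map_phi, phi_liftG]
  rfl

lemma mapF_relG_inr (i : Fin 𝓛.a) (k : Fin 𝓜'.n) :
    (𝓛.comb 𝓜').mapF Z C (𝓛.relG 𝓜' (Sum.inr (i, k))) = Pi.single k (𝓛.h 𝓜'.r C i) := by
  funext i'
  rw [Model.mapF_apply, relG]
  by_cases hik : i' = k
  · subst hik
    rw [Pi.single_eq_same, Pi.single_eq_same, map_h]
  · rw [Pi.single_eq_of_ne hik, Pi.single_eq_of_ne hik, map_zero]

lemma Phi_gen_inr (i : Fin 𝓛.a) (k : Fin 𝓜'.n) :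
    𝓛.Phi 𝓜' C ((𝓛.comb 𝓜').mapF Z C (𝓛.relG 𝓜' (Sum.inr (i, k)))) = 0 := by
  rw [mapF_relG_inr]
  funext i'
  rw [Phi_apply]
  by_cases hik : i' = k
  · subst hik
    rw [Pi.single_eq_same, phi_h]
    rfl
  · rw [Pi.single_eq_of_ne hik, map_zero]
    rfl

lemma gen_comb (j : Fin (𝓛.comb 𝓜').m) :
    (𝓛.comb 𝓜').gen C j =
      (𝓛.comb 𝓜').mapF Z C (𝓛.relG 𝓜' ((Fintype.equivFin (𝓛.RelIdx 𝓜')).symm j)) := rfl

lemma relG_mem_K (t : 𝓛.RelIdx 𝓜') :
    (𝓛.comb 𝓜').mapF Z C (𝓛.relG 𝓜' t) ∈ (𝓛.comb 𝓜').K C := by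
  refine Submodule.subset_span ⟨Fintype.equivFin (𝓛.RelIdx 𝓜') t, ?_⟩
  rw [gen_comb, Equiv.symm_apply_apply]

lemma mem_K_iff (x : (𝓛.comb 𝓜').F C) :
    x ∈ (𝓛.comb 𝓜').K C ↔ 𝓛.Phi 𝓜' C x ∈ 𝓜'.K (𝓛.Q C) := by
  constructor
  · intro hx
    rw [Model.K] at hx
    induction hx using Submodule.span_induction with
    | mem x hx =>
      obtain ⟨j, rfl⟩ := hx
      rw [gen_comb]
      rcases (Fintype.equivFin (𝓛.RelIdx 𝓜')).symm j with j' | ⟨i, k⟩
      · rw [Phi_gen_inl]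
        exact Submodule.subset_span ⟨j', rfl⟩
      · rw [Phi_gen_inr]
        exact Submodule.zero_mem _
    | zero => rw [map_zero]; exact Submodule.zero_mem _
    | add a b _ _ ha hb => rw [map_add]; exact Submodule.add_mem _ ha hb
    | smul p a _ ha => rw [Phi_smul]; exact Submodule.smul_mem _ _ ha
  · intro hx
    rw [Model.K, Submodule.mem_span_range_iff_exists_fun] at hx
    obtain ⟨c, hc⟩ := hx
    choose p hp using fun j => 𝓛.phi_surjective 𝓜'.r C (c j)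
    set y : (𝓛.comb 𝓜').F C :=
      x - ∑ j, p j • (𝓛.comb 𝓜').mapF Z C (𝓛.relG 𝓜' (Sum.inl j)) with hy
    have hΦy : 𝓛.Phi 𝓜' C y = 0 := by
      rw [hy, map_sub, map_sum, ← hc, sub_eq_zero]
      refine Finset.sum_congr rfl fun j _ => ?_
      rw [Phi_smul, Phi_gen_inl, hp]
    have hyJ : ∀ k, y k ∈ 𝓛.J 𝓜'.r C := fun k => by
      rw [← phi_eq_zero_iff]
      exact congrFun hΦy k
    have hsingle : ∀ (k : Fin 𝓜'.n) (u : MvPolynomial (Fin (𝓜'.r + 𝓛.r)) C),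
        u ∈ 𝓛.J 𝓜'.r C → (Pi.single k u : (𝓛.comb 𝓜').F C) ∈ (𝓛.comb 𝓜').K C := by
      intro k u hu
      rw [J] at hu
      induction hu using Submodule.span_induction with
      | mem u hu =>
        obtain ⟨i, rfl⟩ := hu
        rw [← mapF_relG_inr]
        exact 𝓛.relG_mem_K 𝓜' C _
      | zero => rw [Pi.single_zero]; exact Submodule.zero_mem _
      | add a b _ _ ha hb => rw [Pi.single_add]; exact Submodule.add_mem _ ha hb
      | smul a b _ hb =>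
        have : (Pi.single k (a • b) : (𝓛.comb 𝓜').F C) = a • Pi.single k b := by
          funext i'
          by_cases hik : i' = k
          · subst hik
            simp
          · simp [Pi.single_eq_of_ne hik]
        rw [this]
        exact Submodule.smul_mem _ _ hb
    have hyK : y ∈ (𝓛.comb 𝓜').K C := by
      have : y = ∑ k, Pi.single k (y k) := by
        funext i'
        rw [Finset.sum_apply, Finset.sum_eq_single i' (fun b _ hb => Pi.single_eq_of_ne' hb _)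
          (fun h => absurd (Finset.mem_univ _) h), Pi.single_eq_same]
      rw [this]
      exact Submodule.sum_mem _ fun k _ => hsingle k _ (hyJ k)
    have hx' : x = y + ∑ j, p j • (𝓛.comb 𝓜').mapF Z C (𝓛.relG 𝓜' (Sum.inl j)) := by
      rw [hy]; abel
    rw [hx']
    exact Submodule.add_mem _ hyK (Submodule.sum_mem _ fun j _ =>
      Submodule.smul_mem _ _ (𝓛.relG_mem_K 𝓜' C _))

/-- The comparison isomorphism between the combined model and the two-level model. -/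
theorem exists_equiv :
    ∃ e : (𝓛.comb 𝓜').Mod C ≃+ 𝓜'.Mod (𝓛.Q C),
      ∀ (p : (𝓛.comb 𝓜').P C) (x : (𝓛.comb 𝓜').Mod C), e (p • x) = 𝓛.phi 𝓜'.r C p • e x := by
  obtain ⟨e, -, he⟩ := exists_addEquiv_quotient (𝓛.phi 𝓜'.r C).toRingHom (𝓛.Phi 𝓜' C)
    (𝓛.Phi_surjective 𝓜' C) (𝓛.Phi_smul 𝓜' C) ((𝓛.comb 𝓜').K C) (𝓜'.K (𝓛.Q C))
    (𝓛.mem_K_iff 𝓜' C)
  exact ⟨e, he⟩

/-- Transfer of pointwise flatness over the sub-base between the two models. -/
theorem flat_comb_iff (q : Ideal (𝓜'.P (𝓛.Q C))) [q.IsPrime] :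
    Module.Flat C (LocalizedModule (q.comap (𝓛.phi 𝓜'.r C)).primeCompl ((𝓛.comb 𝓜').Mod C)) ↔
      Module.Flat C (LocalizedModule q.primeCompl (𝓜'.Mod (𝓛.Q C))) := by
  obtain ⟨e, he⟩ := 𝓛.exists_equiv 𝓜' C
  exact flat_localizedModule_iff_of_surjective (R := C) (𝓛.phi 𝓜'.r C)
    (𝓛.phi_surjective 𝓜'.r C) e he q

end C

end L1

end Groth.Agent.H1.FibreCrit
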