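import Mathlib
import Groth.Agent.H1.FlatLocusExists
import Groth.Agent.H2.FlatBase
import Groth.Agent.H2.LocalCrit

set_option autoImplicit false

/-!
# Descent of pointwise flatness along flat base changes
-/

namespace Groth.Agent.H1.FibreCrit

universe u

open TensorProduct Groth.Agent.H1.FlatLocus

section Tors

variable {P P' T : Type*} [CommRing P] [CommRing P'] [Algebra P P'] [Module.Flat P P']
  [AddCommGroup T] [Module P T]

/-- Torsion descent along a flat ring map. -/
theorem exists_smul_eq_zero_of_flat (q' : Ideal P') [q'.IsPrime] (t : T)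
    (h : ∃ g' : P', g' ∉ q' ∧ g' • ((1 : P') ⊗ₜ[P] t) = 0) :
    ∃ g : P, g ∉ q'.comap (algebraMap P P') ∧ g • t = 0 := by
  obtain ⟨g', hg', hg't⟩ := h
  set 𝔞 : Ideal P := LinearMap.ker (LinearMap.toSpanSingleton P T t) with h𝔞
  by_contra hcon0
  have hcon : ∀ g : P, g ∉ q'.comap (algebraMap P P') → g • t ≠ 0 :=
    fun g hg h => hcon0 ⟨g, hg, h⟩
  have hle : 𝔞 ≤ q'.comap (algebraMap P P') := by
    intro g hg
    by_contra hgq
    exact hcon g hgq (by simpa [h𝔞] using hg)
  -- the injection `P ⧸ 𝔞 → T`
  let ι : (P ⧸ 𝔞) →ₗ[P] T := Submodule.liftQ 𝔞 (LinearMap.toSpanSingleton P T t) le_rfl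
  have hι : Function.Injective ι := by
    rw [← LinearMap.ker_eq_bot]
    exact Submodule.ker_liftQ_eq_bot _ _ _ le_rfl
  have hinj : Function.Injective (LinearMap.lTensor P' ι) :=
    Module.Flat.lTensor_preserves_injective_linearMap ι hι
  have h1 : LinearMap.lTensor P' ι (g' ⊗ₜ[P] (Submodule.Quotient.mk (1 : P))) = 0 := by
    rw [LinearMap.lTensor_tmul]
    have : ι (Submodule.Quotient.mk (1 : P)) = t := by
      change LinearMap.toSpanSingleton P T t 1 = t
      simp
    rw [this]
    have : g' ⊗ₜ[P] t = g' • ((1 : P') ⊗ₜ[P] t) := by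
      rw [TensorProduct.smul_tmul', smul_eq_mul, mul_one]
    rw [this, hg't]
  have h2 : g' ⊗ₜ[P] (Submodule.Quotient.mk (1 : P) : P ⧸ 𝔞) = 0 := hinj (by rw [h1, map_zero])
  have h3 := congrArg (TensorProduct.tensorQuotEquivQuotSMul P' 𝔞) h2
  rw [map_zero] at h3
  have h4 : (TensorProduct.tensorQuotEquivQuotSMul P' 𝔞)
      (g' ⊗ₜ[P] (Submodule.Quotient.mk (1 : P) : P ⧸ 𝔞)) = Submodule.Quotient.mk g' := by
    have := TensorProduct.tensorQuotEquivQuotSMul_tmul_mk (M := P') 𝔞 g' (1 : P)
    rw [one_smul] at this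
    exact this
  rw [h4, Submodule.Quotient.mk_eq_zero, Ideal.smul_top_eq_map] at h3
  have h5 : g' ∈ 𝔞.map (algebraMap P P') := h3
  exact hg' (Ideal.map_le_iff_le_comap.mpr hle h5)

end Tors

section DescAbs

variable {R P P' N N' : Type u} [CommRing R] [CommRing P] [CommRing P'] [Algebra R P]
  [Algebra P P'] [Algebra R P'] [IsScalarTower R P P'] [Module.Flat P P']
  [AddCommGroup N] [Module R N] [Module P N] [IsScalarTower R P N]
  [AddCommGroup N'] [Module R N'] [Module P N'] [Module P' N'] [IsScalarTower R P' N']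
  [IsScalarTower P P' N'] [IsScalarTower R P N']

/-- **Descent of pointwise flatness along a flat base change of the algebra**: if `N' = P' ⊗_P N`
with `P'` flat over `P` and `N'_{q'}` is flat over `R`, then `N_q` is flat over `R`, for
`q = q' ∩ P`. -/
theorem flat_localizedModule_of_isBaseChange_of_flat (f : N →ₗ[P] N') (hf : IsBaseChange P' f)
    (q' : Ideal P') [q'.IsPrime] [Module.Flat R (LocalizedModule q'.primeCompl N')] :
    Module.Flat R (LocalizedModule (q'.comap (algebraMap P P')).primeCompl N) := by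
  rw [flat_localizedModule_iff]
  intro I z hz
  -- the comparison isomorphism
  let ψ : P' ⊗[P] (N ⊗[R] I) ≃ₗ[P'] N' ⊗[R] I :=
    (AlgebraTensorModule.assoc R P P' P' N I).symm ≪≫ₗ
      AlgebraTensorModule.congr hf.equiv (LinearEquiv.refl R I)
  have hψ : ∀ w : N ⊗[R] I, ψ ((1 : P') ⊗ₜ[P] w) = LinearMap.rTensor I (f.restrictScalars R) w := by
    intro w
    induction w with
    | zero => simp
    | add x y hx hy => rw [TensorProduct.tmul_add, map_add, map_add, hx, hy]
    | tmul n i =>
      simp only [ψ, LinearEquiv.trans_apply, AlgebraTensorModule.assoc_symm_tmul,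
        AlgebraTensorModule.congr_tmul, LinearEquiv.refl_apply, LinearMap.rTensor_tmul,
        LinearMap.restrictScalars_apply]
      rw [hf.equiv_tmul, one_smul]
  set z' : N' ⊗[R] I := LinearMap.rTensor I (f.restrictScalars R) z with hz'
  have hz'0 : LinearMap.lTensor N' I.subtype z' = 0 := by
    have hcomm : LinearMap.lTensor N' I.subtype ∘ₗ LinearMap.rTensor I (f.restrictScalars R) =
        LinearMap.rTensor R (f.restrictScalars R) ∘ₗ LinearMap.lTensor N I.subtype := by
      refine TensorProduct.ext' fun n i => ?_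
      simp
    have := LinearMap.congr_fun hcomm z
    rw [LinearMap.comp_apply, LinearMap.comp_apply, hz, map_zero] at this
    exact this
  obtain ⟨g', hg', hg'z⟩ :=
    exists_smul_eq_zero_of_flat_localizedModule (R := R) (S := P') q' I z' hz'0
  refine exists_smul_eq_zero_of_flat (P := P) (P' := P') q' z ⟨g', hg', ?_⟩
  apply ψ.injective
  rw [map_smul, hψ, map_zero]
  exact hg'z

end DescAbs

section QM

variable {C C' P P' N N' : Type*} [CommRing C] [CommRing C'] [CommRing P] [CommRing P']
  [Algebra C C'] [Algebra C P] [Algebra C' P'] [Algebra P P'] [Algebra C P']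
  [IsScalarTower C C' P'] [IsScalarTower C P P'] [Algebra.IsPushout C C' P P']
  [AddCommGroup N] [Module C N] [Module P N] [IsScalarTower C P N]
  [AddCommGroup N'] [Module C' N'] [Module P N'] [Module P' N']
  [IsScalarTower C' P' N'] [IsScalarTower P P' N']

/-- For a surjective base change `P → P'`, the localization of the base-changed module at `q'` is
the base change of the localization at `q = q' ∩ P`. -/
theorem flat_localizedModule_iff_flat_tensor (f : N →ₗ[P] N') (hf : IsBaseChange P' f)
    (q' : Ideal P') [q'.IsPrime] (q : Ideal P) [q.IsPrime] (hq : q = q'.comap (algebraMap P P'))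
    (hsurj : Function.Surjective (algebraMap P P')) :
    Module.Flat C' (LocalizedModule q'.primeCompl N') ↔
      Module.Flat C' (C' ⊗[C] LocalizedModule q.primeCompl N) := by
  set T₀ : Submonoid P' := Algebra.algebraMapSubmonoid P' q.primeCompl with hT₀
  have hT : T₀ = q'.primeCompl := by
    ext x
    constructor
    · rintro ⟨y, hy, rfl⟩
      intro hmem
      apply hy
      rw [hq]
      exact hmem
    · intro hx
      obtain ⟨y, rfl⟩ := hsurj x
      refine ⟨y, ?_, rfl⟩
      intro hy
      apply hx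
      rw [hq] at hy
      exact hy
  have hloc := isLocalizedModule_lTensor P' q.primeCompl
    (LocalizedModule.mkLinearMap q.primeCompl N)
  have hloc' : IsLocalizedModule T₀
      ((AlgebraTensorModule.lTensor P' P' (LocalizedModule.mkLinearMap q.primeCompl N)) ∘ₗ
        hf.equiv.symm.toLinearMap) := inferInstance
  rw [hT] at hloc'
  let e₁ : LocalizedModule q'.primeCompl N' ≃ₗ[P']
      P' ⊗[P] LocalizedModule q.primeCompl N :=
    IsLocalizedModule.iso q'.primeCompl
      ((AlgebraTensorModule.lTensor P' P' (LocalizedModule.mkLinearMap q.primeCompl N)) ∘ₗ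
        hf.equiv.symm.toLinearMap)
  let e₂ : P' ⊗[P] LocalizedModule q.primeCompl N ≃ₗ[C']
      C' ⊗[C] LocalizedModule q.primeCompl N :=
    Algebra.IsPushout.cancelBaseChange C C' P P' (LocalizedModule q.primeCompl N)
  exact Module.Flat.equiv_iff ((e₁.restrictScalars C') ≪≫ₗ e₂)

end QM

section LocalCrit

variable {R₀ R S M : Type u} [CommRing R₀] [CommRing R] [CommRing S] [Algebra R₀ R] [Algebra R S]
  [Algebra R₀ S] [IsScalarTower R₀ R S] [AddCommGroup M] [Module R₀ M] [Module R M] [Module S M]
  [IsScalarTower R S M] [IsScalarTower R₀ S M]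

/-- **Local criterion of flatness at a prime, over a flat base**: `R`, `S` Noetherian, `M` a
finite `S`-module, `I₀` an ideal of `R₀` with `I₀ R ⊆ q ∩ R`.  If `M_q` is flat over `R₀` and
`M_q / I₀ M_q` is flat over `R / I₀ R`, then `M_q` is flat over `R`. -/
theorem flat_localizedModule_of_flat_base [IsNoetherianRing R] [IsNoetherianRing S]
    [Module.Finite S M] (q : Ideal S) [q.IsPrime] (I₀ : Ideal R₀)
    (hI : I₀.map (algebraMap R₀ R) ≤ q.comap (algebraMap R S))
    [Module.Flat R₀ (LocalizedModule q.primeCompl M)]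
    [Module.Flat (R ⧸ I₀.map (algebraMap R₀ R))
      ((R ⧸ I₀.map (algebraMap R₀ R)) ⊗[R] LocalizedModule q.primeCompl M)] :
    Module.Flat R (LocalizedModule q.primeCompl M) := by
  have hfin : Module.Finite (Localization.AtPrime q) (LocalizedModule q.primeCompl M) :=
    Module.Finite.of_isLocalizedModule q.primeCompl (LocalizedModule.mkLinearMap q.primeCompl M)
  have htower : IsScalarTower R₀ R (LocalizedModule q.primeCompl M) := by
    refine ⟨fun a b x => ?_⟩
    induction x using LocalizedModule.induction_on with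
    | h m s =>
      rw [LocalizedModule.smul'_mk, LocalizedModule.smul'_mk, LocalizedModule.smul'_mk]
      congr 1
      rw [← algebraMap_smul S (a • b) m, ← algebraMap_smul S b m, ← algebraMap_smul S a (_ • m),
        Algebra.smul_def, map_mul, mul_smul, ← IsScalarTower.algebraMap_apply]
  refine Groth.Agent.H2.flat_of_rTensor_injective_of_flat_quotient
    (S := Localization.AtPrime q) (I₀.map (algebraMap R₀ R)) ?_ ?_
  · rw [IsLocalRing.jacobson_eq_maximalIdeal ⊥ bot_ne_top, Ideal.map_le_iff_le_comap]
    intro x hx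
    rw [Ideal.mem_comap, IsScalarTower.algebraMap_apply R S (Localization.AtPrime q),
      IsLocalization.AtPrime.to_map_mem_maximal_iff _ q]
    exact hI hx
  · exact Groth.Agent.H2.rTensor_map_injective_of_flat (R := R₀) (S := R)
      (M := LocalizedModule q.primeCompl M) I₀

end LocalCrit

section ModelDesc

attribute [local instance] MvPolynomial.algebraMvPolynomial

variable {Z : Type u} [CommRing Z] (𝓜 : Model Z) (D D' : Type u) [CommRing D] [CommRing D']
  [Algebra D D'] [Algebra Z D] [Algebra Z D'] [IsScalarTower Z D D']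

/-- Descent of pointwise flatness for models along a flat map of base rings. -/
theorem Model.flat_comap_of_flat [Module.Flat D D'] (q' : Ideal (𝓜.P D')) [q'.IsPrime]
    [Module.Flat D' (LocalizedModule q'.primeCompl (𝓜.Mod D'))] :
    Module.Flat D (LocalizedModule (q'.comap (algebraMap (𝓜.P D) (𝓜.P D'))).primeCompl
      (𝓜.Mod D)) := by
  have h1 : Module.Flat D (LocalizedModule q'.primeCompl (𝓜.Mod D')) :=
    Module.Flat.trans D D' _
  have hpo : Algebra.IsPushout D (𝓜.P D) D' (𝓜.P D') := inferInstance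
  have h2 : Module.Flat (𝓜.P D) (𝓜.P D') :=
    Module.Flat.isBaseChange (R := D) (M := D') (S := 𝓜.P D) (𝓜.P D') hpo.out
  exact flat_localizedModule_of_isBaseChange_of_flat (R := D) (P := 𝓜.P D) (P' := 𝓜.P D')
    (𝓜.mapMod D D') (𝓜.isBaseChange_mapMod D D') q'

/-- Quotient form of fibre flatness, for models. -/
theorem Model.flat_quotient_iff (I : Ideal D) (qb : Ideal (𝓜.P (D ⧸ I))) [qb.IsPrime] :
    Module.Flat (D ⧸ I) (LocalizedModule qb.primeCompl (𝓜.Mod (D ⧸ I))) ↔
      Module.Flat (D ⧸ I) ((D ⧸ I) ⊗[D] LocalizedModule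
        (qb.comap (algebraMap (𝓜.P D) (𝓜.P (D ⧸ I)))).primeCompl (𝓜.Mod D)) := by
  refine flat_localizedModule_iff_flat_tensor (C := D) (C' := D ⧸ I) (P := 𝓜.P D)
    (P' := 𝓜.P (D ⧸ I)) (𝓜.mapMod D (D ⧸ I)) (𝓜.isBaseChange_mapMod D (D ⧸ I)) qb _ rfl ?_
  exact MvPolynomial.map_surjective _ Ideal.Quotient.mk_surjective

end ModelDesc

end Groth.Agent.H1.FibreCrit
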