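import Mathlib
import Groth.Agent.H1.FibreCritQ

set_option autoImplicit false

/-!
# `Q` commutes with base change
-/

namespace Groth.Agent.H1.FibreCrit

universe u

open TensorProduct

attribute [local instance] MvPolynomial.algebraMvPolynomial

namespace L1

variable {Z₀ : Type u} [CommRing Z₀] (𝓛 : L1 Z₀)

section

variable (C : Type u) [CommRing C] [Algebra Z₀ C]

/-- The relation map `C[x]^a → C[x]`. -/
noncomputable def rel : (Fin 𝓛.a → MvPolynomial (Fin 𝓛.r) C) →ₗ[MvPolynomial (Fin 𝓛.r) C]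
    MvPolynomial (Fin 𝓛.r) C :=
  Fintype.linearCombination (MvPolynomial (Fin 𝓛.r) C) (𝓛.fC C)

lemma range_rel : LinearMap.range (𝓛.rel C) = 𝓛.I C :=
  Fintype.range_linearCombination _ _

/-- The quotient map as a linear map. -/
noncomputable def qmkₗ : MvPolynomial (Fin 𝓛.r) C →ₗ[MvPolynomial (Fin 𝓛.r) C] 𝓛.Q C :=
  (𝓛.I C).mkQ

lemma qmkₗ_apply (p : MvPolynomial (Fin 𝓛.r) C) : 𝓛.qmkₗ C p = 𝓛.qmk C p := rfl

lemma exact_rel_qmkₗ : Function.Exact (𝓛.rel C) (𝓛.qmkₗ C) := by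
  rw [LinearMap.exact_iff, range_rel]
  exact (Submodule.ker_mkQ _)

end

section

variable (C C' : Type u) [CommRing C] [CommRing C'] [Algebra Z₀ C] [Algebra Z₀ C'] [Algebra C C']
  [IsScalarTower Z₀ C C']

instance isPushout_Q : Algebra.IsPushout C C' (𝓛.Q C) (𝓛.Q C') := by
  constructor
  have hb : IsBaseChange C' (IsScalarTower.toAlgHom C (MvPolynomial (Fin 𝓛.r) C)
      (MvPolynomial (Fin 𝓛.r) C')).toLinearMap :=
    (inferInstance : Algebra.IsPushout C C' (MvPolynomial (Fin 𝓛.r) C)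
      (MvPolynomial (Fin 𝓛.r) C')).out
  refine IsBaseChange.of_right_exact C'
    (((IsScalarTower.toAlgHom C (MvPolynomial (Fin 𝓛.r) C)
      (MvPolynomial (Fin 𝓛.r) C')).toLinearMap).compLeft (Fin 𝓛.a))
    (IsScalarTower.toAlgHom C (MvPolynomial (Fin 𝓛.r) C)
      (MvPolynomial (Fin 𝓛.r) C')).toLinearMap
    (IsScalarTower.toAlgHom C (𝓛.Q C) (𝓛.Q C')).toLinearMap
    (f := (𝓛.rel C).restrictScalars C) (g := (𝓛.qmkₗ C).restrictScalars C)
    (f' := (𝓛.rel C').restrictScalars C') (g' := (𝓛.qmkₗ C').restrictScalars C')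
    ?_ ?_ (IsBaseChange.finitePow _ hb) hb ?_ ?_ ?_ ?_
  · refine LinearMap.ext fun x => ?_
    simp only [LinearMap.comp_apply, LinearMap.restrictScalars_apply, rel,
      Fintype.linearCombination_apply, AlgHom.toLinearMap_apply, map_sum]
    refine Finset.sum_congr rfl fun i _ => ?_
    rw [smul_eq_mul, map_mul]
    change _ = (MvPolynomial.map (algebraMap C C') (x i)) • 𝓛.fC C' i
    rw [smul_eq_mul]
    congr 1
    exact 𝓛.map_fC C C' i
  · refine LinearMap.ext fun x => ?_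
    rfl
  · exact 𝓛.exact_rel_qmkₗ C
  · exact 𝓛.qmk_surjective C
  · exact 𝓛.exact_rel_qmkₗ C'
  · exact 𝓛.qmk_surjective C'

instance flat_Q [Module.Flat C C'] : Module.Flat (𝓛.Q C) (𝓛.Q C') := by
  have h : Algebra.IsPushout C (𝓛.Q C) C' (𝓛.Q C') := Algebra.IsPushout.symm inferInstance
  exact Module.Flat.isBaseChange (R := C) (M := C') (S := 𝓛.Q C) (𝓛.Q C') h.out

end

end L1

end Groth.Agent.H1.FibreCrit
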