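import Mathlib
import Groth.Agent.H1.FibreCritQPush

set_option autoImplicit false

/-!
# `Q` and quotients of the base; transport of flatness of a base change along an isomorphism
-/

namespace Groth.Agent.H1.FibreCrit

universe u

open TensorProduct

section transport

variable {R R₁ R₂ X : Type*} [CommRing R] [CommRing R₁] [CommRing R₂] [Algebra R R₁]
  [Algebra R R₂] [AddCommGroup X] [Module R X]

/-- Flatness of a base change only depends on the isomorphism class of the algebra. -/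
theorem flat_tensor_of_algEquiv (σ : R₁ ≃ₐ[R] R₂) [Module.Flat R₁ (R₁ ⊗[R] X)] :
    Module.Flat R₂ (R₂ ⊗[R] X) := by
  let _ : Algebra R₁ R₂ := σ.toRingEquiv.toRingHom.toAlgebra
  have _ : IsScalarTower R R₁ R₂ := IsScalarTower.of_algebraMap_eq fun r => (σ.commutes r).symm
  have h : Module.Flat R₂ (R₂ ⊗[R₁] (R₁ ⊗[R] X)) := inferInstance
  exact Module.Flat.of_linearEquiv (AlgebraTensorModule.cancelBaseChange R R₁ R₂ R₂ X).symm

end transport

namespace L1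

variable {Z₀ : Type u} [CommRing Z₀] (𝓛 : L1 Z₀) (B : Type u) [CommRing B] [Algebra Z₀ B]
  (𝔟 : Ideal B)

lemma Qmap_quotient_surjective : Function.Surjective (𝓛.Qmap B (B ⧸ 𝔟)) := by
  intro y
  obtain ⟨u, rfl⟩ := 𝓛.qmk_surjective (B ⧸ 𝔟) y
  obtain ⟨v, rfl⟩ := MvPolynomial.map_surjective _ (Ideal.Quotient.mk_surjective (I := 𝔟)) u
  exact ⟨𝓛.qmk B v, rfl⟩

lemma algebraMap_eq_comp : algebraMap B (𝓛.Q B) = (𝓛.qmk B).comp MvPolynomial.C := by
  ext x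
  rw [algebraMap_def, RingHom.comp_apply, Algebra.algebraMap_self_apply]

theorem ker_Qmap_quotient :
    RingHom.ker (𝓛.Qmap B (B ⧸ 𝔟)) = 𝔟.map (algebraMap B (𝓛.Q B)) := by
  apply le_antisymm
  · intro y hy
    obtain ⟨u, rfl⟩ := 𝓛.qmk_surjective B y
    rw [RingHom.mem_ker, Qmap_qmk, qmk_eq_zero_iff, ← 𝓛.I_map B (B ⧸ 𝔟)] at hy
    have hsurj : Function.Surjective (MvPolynomial.map (algebraMap B (B ⧸ 𝔟)) :
        MvPolynomial (Fin 𝓛.r) B →+* MvPolynomial (Fin 𝓛.r) (B ⧸ 𝔟)) :=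
      MvPolynomial.map_surjective _ Ideal.Quotient.mk_surjective
    obtain ⟨v, hv, hvu⟩ := (Ideal.mem_map_iff_of_surjective _ hsurj).mp hy
    have hker : u - v ∈ RingHom.ker (MvPolynomial.map (algebraMap B (B ⧸ 𝔟)) :
        MvPolynomial (Fin 𝓛.r) B →+* MvPolynomial (Fin 𝓛.r) (B ⧸ 𝔟)) := by
      rw [RingHom.mem_ker, map_sub, hvu, sub_self]
    rw [MvPolynomial.ker_map] at hker
    have hk : RingHom.ker (algebraMap B (B ⧸ 𝔟)) = 𝔟 := Ideal.mk_ker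
    rw [hk] at hker
    have : 𝓛.qmk B u = 𝓛.qmk B (u - v) := by
      rw [map_sub, (𝓛.qmk_eq_zero_iff B v).mpr hv, sub_zero]
    rw [this, algebraMap_eq_comp, ← Ideal.map_map]
    exact Ideal.mem_map_of_mem _ hker
  · rw [Ideal.map_le_iff_le_comap]
    intro x hx
    rw [Ideal.mem_comap, RingHom.mem_ker, algebraMap_def, Qmap_qmk, MvPolynomial.map_C,
      Algebra.algebraMap_self_apply]
    have : algebraMap B (B ⧸ 𝔟) x = 0 := Ideal.Quotient.eq_zero_iff_mem.mpr hx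
    rw [this, map_zero, map_zero]

/-- `Q(B)/𝔟 Q(B) ≃ Q(B/𝔟)`. -/
noncomputable def quotEquiv :
    (𝓛.Q B ⧸ 𝔟.map (algebraMap B (𝓛.Q B))) ≃ₐ[𝓛.Q B] 𝓛.Q (B ⧸ 𝔟) :=
  (Ideal.quotientEquivAlgOfEq (𝓛.Q B) (𝓛.ker_Qmap_quotient B 𝔟).symm).trans
    (Ideal.quotientKerAlgEquivOfSurjective (f := Algebra.ofId (𝓛.Q B) (𝓛.Q (B ⧸ 𝔟)))
      (𝓛.Qmap_quotient_surjective B 𝔟))

end L1

end Groth.Agent.H1.FibreCrit
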