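import Mathlib
import Groth.Agent.H1.FibreCritQQuot
import Groth.Agent.H1.FibreCritDesc

set_option autoImplicit false
set_option linter.unusedSectionVars false

/-!
# Fibre flatness for two-level models
-/

namespace Groth.Agent.H1.FibreCrit

universe u

open TensorProduct Groth.Agent.H1.FlatLocus

attribute [local instance] MvPolynomial.algebraMvPolynomial

namespace L1

variable {Z₀ : Type u} [CommRing Z₀] (𝓛 : L1 Z₀) {Z : Type u} [CommRing Z] [Algebra Z₀ Z]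
  (𝓜' : Model (𝓛.Q Z))

section fibre

variable (B : Type u) [CommRing B] [Algebra Z₀ B] [Algebra Z B] [IsScalarTower Z₀ Z B]
  (𝔟 : Ideal B)

/-- Quotient form and model form of fibre flatness. -/
theorem flat_fibre_iff (qb : Ideal (𝓜'.P (𝓛.Q (B ⧸ 𝔟)))) [qb.IsPrime]
    (q : Ideal (𝓜'.P (𝓛.Q B))) [q.IsPrime]
    (hq : q = qb.comap (algebraMap (𝓜'.P (𝓛.Q B)) (𝓜'.P (𝓛.Q (B ⧸ 𝔟))))) :
    Module.Flat (𝓛.Q B ⧸ 𝔟.map (algebraMap B (𝓛.Q B)))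
      ((𝓛.Q B ⧸ 𝔟.map (algebraMap B (𝓛.Q B))) ⊗[𝓛.Q B] LocalizedModule
        q.primeCompl (𝓜'.Mod (𝓛.Q B))) ↔
      Module.Flat (𝓛.Q (B ⧸ 𝔟)) (LocalizedModule qb.primeCompl (𝓜'.Mod (𝓛.Q (B ⧸ 𝔟)))) := by
  have hsurj : Function.Surjective (algebraMap (𝓜'.P (𝓛.Q B)) (𝓜'.P (𝓛.Q (B ⧸ 𝔟)))) :=
    MvPolynomial.map_surjective _ (𝓛.Qmap_quotient_surjective B 𝔟)
  have key := flat_localizedModule_iff_flat_tensor (C := 𝓛.Q B) (C' := 𝓛.Q (B ⧸ 𝔟))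
    (P := 𝓜'.P (𝓛.Q B)) (P' := 𝓜'.P (𝓛.Q (B ⧸ 𝔟))) (𝓜'.mapMod (𝓛.Q B) (𝓛.Q (B ⧸ 𝔟)))
    (𝓜'.isBaseChange_mapMod (𝓛.Q B) (𝓛.Q (B ⧸ 𝔟))) qb q hq hsurj
  rw [key]
  constructor
  · intro h
    exact flat_tensor_of_algEquiv (𝓛.quotEquiv B 𝔟)
  · intro h
    exact flat_tensor_of_algEquiv (𝓛.quotEquiv B 𝔟).symm

end fibre

section loc

variable (L : Type u) [CommRing L] [IsLocalRing L] [IsNoetherianRing L] [Algebra Z₀ L]
  [Algebra Z L] [IsScalarTower Z₀ Z L]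
  (K : Type u) [Field K] [Algebra Z₀ K] [Algebra Z K] [IsScalarTower Z₀ Z K] [Algebra L K]
  [IsScalarTower Z₀ L K] [IsScalarTower Z L K]

omit [IsLocalRing L] [IsNoetherianRing L] in
lemma algebraMap_P_comp (L' : Type u) [CommRing L'] [Algebra Z₀ L'] [Algebra L L'] [Algebra L' K]
    [IsScalarTower Z₀ L L'] [IsScalarTower Z₀ L' K] [IsScalarTower L L' K] :
    (algebraMap (𝓜'.P (𝓛.Q L')) (𝓜'.P (𝓛.Q K))).comp
      (algebraMap (𝓜'.P (𝓛.Q L)) (𝓜'.P (𝓛.Q L'))) =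
        algebraMap (𝓜'.P (𝓛.Q L)) (𝓜'.P (𝓛.Q K)) := by
  change (MvPolynomial.map _).comp (MvPolynomial.map _) = MvPolynomial.map _
  refine MvPolynomial.ringHom_ext (fun c => ?_) (fun i => ?_)
  · simp only [RingHom.comp_apply, MvPolynomial.map_C]
    rw [← IsScalarTower.algebraMap_apply]
  · simp

/-- **The Noetherian local step**: over a Noetherian local base `L` with a local map to a field
`K`, flatness over `L` and fibre flatness over `K` give flatness over `Q L`. -/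
theorem flat_of_flat_fibre_local (hLK : IsLocalRing.maximalIdeal L ≤ RingHom.ker (algebraMap L K))
    (qK : Ideal (𝓜'.P (𝓛.Q K))) [qK.IsPrime]
    [Module.Flat L (LocalizedModule
      (qK.comap (algebraMap (𝓜'.P (𝓛.Q L)) (𝓜'.P (𝓛.Q K)))).primeCompl (𝓜'.Mod (𝓛.Q L)))]
    [Module.Flat (𝓛.Q K) (LocalizedModule qK.primeCompl (𝓜'.Mod (𝓛.Q K)))] :
    Module.Flat (𝓛.Q L) (LocalizedModule
      (qK.comap (algebraMap (𝓜'.P (𝓛.Q L)) (𝓜'.P (𝓛.Q K)))).primeCompl (𝓜'.Mod (𝓛.Q L))) := by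
  set m := IsLocalRing.maximalIdeal L with hm
  let _ : Field (L ⧸ m) := Ideal.Quotient.field m
  let _ : Algebra (L ⧸ m) K := (Ideal.Quotient.lift m (algebraMap L K) hLK).toAlgebra
  have _ : IsScalarTower L (L ⧸ m) K := IsScalarTower.of_algebraMap_eq fun x => rfl
  have _ : IsScalarTower Z₀ (L ⧸ m) K := IsScalarTower.of_algebraMap_eq fun x => by
    rw [IsScalarTower.algebraMap_apply Z₀ L (L ⧸ m), ← IsScalarTower.algebraMap_apply L (L ⧸ m) K,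
      ← IsScalarTower.algebraMap_apply]
  have _ : IsScalarTower Z (L ⧸ m) K := IsScalarTower.of_algebraMap_eq fun x => by
    rw [IsScalarTower.algebraMap_apply Z L (L ⧸ m), ← IsScalarTower.algebraMap_apply L (L ⧸ m) K,
      ← IsScalarTower.algebraMap_apply]
  have h1 : Module.Flat (𝓛.Q (L ⧸ m)) (LocalizedModule
      (qK.comap (algebraMap (𝓜'.P (𝓛.Q (L ⧸ m))) (𝓜'.P (𝓛.Q K)))).primeCompl
        (𝓜'.Mod (𝓛.Q (L ⧸ m)))) :=
    Model.flat_comap_of_flat 𝓜' (𝓛.Q (L ⧸ m)) (𝓛.Q K) qK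
  have heq : qK.comap (algebraMap (𝓜'.P (𝓛.Q L)) (𝓜'.P (𝓛.Q K))) =
      (qK.comap (algebraMap (𝓜'.P (𝓛.Q (L ⧸ m))) (𝓜'.P (𝓛.Q K)))).comap
      (algebraMap (𝓜'.P (𝓛.Q L)) (𝓜'.P (𝓛.Q (L ⧸ m)))) := by
    rw [Ideal.comap_comap, 𝓛.algebraMap_P_comp 𝓜' L K (L ⧸ m)]
  have h2 := (𝓛.flat_fibre_iff 𝓜' L m
    (qK.comap (algebraMap (𝓜'.P (𝓛.Q (L ⧸ m))) (𝓜'.P (𝓛.Q K)))) _ heq).mpr h1
  have hI : m.map (algebraMap L (𝓛.Q L)) ≤
      (qK.comap (algebraMap (𝓜'.P (𝓛.Q L)) (𝓜'.P (𝓛.Q K)))).comap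
        (algebraMap (𝓛.Q L) (𝓜'.P (𝓛.Q L))) := by
    rw [Ideal.map_le_iff_le_comap]
    intro x hx
    rw [Ideal.mem_comap, Ideal.mem_comap, Ideal.mem_comap]
    have h0 : algebraMap L K x = 0 := hLK hx
    have : (algebraMap (𝓜'.P (𝓛.Q L)) (𝓜'.P (𝓛.Q K)))
        ((algebraMap (𝓛.Q L) (𝓜'.P (𝓛.Q L))) ((algebraMap L (𝓛.Q L)) x)) = 0 := by
      change MvPolynomial.map _ (MvPolynomial.C _) = 0
      rw [MvPolynomial.map_C, ← IsScalarTower.algebraMap_apply L (𝓛.Q L) (𝓛.Q K),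
        IsScalarTower.algebraMap_apply L K (𝓛.Q K), h0, map_zero, map_zero]
    rw [this]
    exact Ideal.zero_mem _
  exact flat_localizedModule_of_flat_base (R₀ := L) (R := 𝓛.Q L) (S := 𝓜'.P (𝓛.Q L))
    (M := 𝓜'.Mod (𝓛.Q L)) _ m hI

end loc

end L1

end Groth.Agent.H1.FibreCrit
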