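import Mathlib
import Groth.Agent.H1.FibreCritFib
import Groth.Agent.H1.FibreCritComb
import Groth.Agent.H1.FlatLocusDescentPt

set_option autoImplicit false
set_option linter.unusedSectionVars false

/-!
# The core of the non-Noetherian fibrewise criterion: assembling the descent
-/

namespace Groth.Agent.H1.FibreCrit

universe u

open TensorProduct Groth.Agent.H1.FlatLocus

attribute [local instance] MvPolynomial.algebraMvPolynomial

/-- Transport of pointwise flatness along an equality of primes. -/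
theorem flat_localizedModule_congr {R S M : Type*} [CommRing R] [CommRing S] [Algebra R S]
    [AddCommGroup M] [Module R M] [Module S M] [IsScalarTower R S M] {q₁ q₂ : Ideal S}
    [q₁.IsPrime] [q₂.IsPrime] (h : q₁ = q₂)
    (hf : Module.Flat R (LocalizedModule q₁.primeCompl M)) :
    Module.Flat R (LocalizedModule q₂.primeCompl M) := by
  subst h
  exact hf

namespace L1

variable {Z₀ : Type u} [CommRing Z₀] (𝓛 : L1 Z₀) {Z : Type u} [CommRing Z] [Algebra Z₀ Z]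
  (𝓜' : Model (𝓛.Q Z))

section generic

variable (C L A K : Type u) [CommRing C] [CommRing L] [CommRing A] [Field K]
  [Algebra Z₀ C] [Algebra Z₀ L] [Algebra Z₀ A] [Algebra Z₀ K]
  [Algebra Z C] [Algebra Z L] [Algebra Z A] [Algebra Z K]
  [IsScalarTower Z₀ Z C] [IsScalarTower Z₀ Z L] [IsScalarTower Z₀ Z A] [IsScalarTower Z₀ Z K]
  [Algebra C L] [Algebra C A] [Algebra C K] [Algebra L K] [Algebra A K]
  [IsScalarTower Z₀ C L] [IsScalarTower Z₀ C A] [IsScalarTower Z₀ C K] [IsScalarTower Z₀ L K]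
  [IsScalarTower Z₀ A K]
  [IsScalarTower Z C L] [IsScalarTower Z C A] [IsScalarTower Z C K] [IsScalarTower Z L K]
  [IsScalarTower Z A K]
  [IsScalarTower C L K] [IsScalarTower C A K]

/-- The assembly step with generic rings `C → L → K` and `C → A → K`. -/
theorem flat_of_flat_fibre_generic [IsLocalRing L] [IsNoetherianRing L] [Module.Flat C L]
    (hLK : IsLocalRing.maximalIdeal L ≤ RingHom.ker (algebraMap L K))
    (qK : Ideal (𝓜'.P (𝓛.Q K))) [qK.IsPrime]
    (hC : Module.Flat C (LocalizedModule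
      (((qK.comap (algebraMap (𝓜'.P (𝓛.Q A)) (𝓜'.P (𝓛.Q K)))).comap (𝓛.phi 𝓜'.r A)).comap
        (algebraMap ((𝓛.comb 𝓜').P C) ((𝓛.comb 𝓜').P A))).primeCompl ((𝓛.comb 𝓜').Mod C)))
    [Module.Flat (𝓛.Q K) (LocalizedModule qK.primeCompl (𝓜'.Mod (𝓛.Q K)))] :
    Module.Flat (𝓛.Q A) (LocalizedModule
      (qK.comap (algebraMap (𝓜'.P (𝓛.Q A)) (𝓜'.P (𝓛.Q K)))).primeCompl (𝓜'.Mod (𝓛.Q A))) := by
  set qA := qK.comap (algebraMap (𝓜'.P (𝓛.Q A)) (𝓜'.P (𝓛.Q K))) with hqA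
  set qL := qK.comap (algebraMap (𝓜'.P (𝓛.Q L)) (𝓜'.P (𝓛.Q K))) with hqL
  -- the two contractions to `Q C` agree
  have hE2 : qL.comap (algebraMap (𝓜'.P (𝓛.Q C)) (𝓜'.P (𝓛.Q L))) =
      qA.comap (algebraMap (𝓜'.P (𝓛.Q C)) (𝓜'.P (𝓛.Q A))) := by
    rw [hqL, hqA, Ideal.comap_comap, Ideal.comap_comap, 𝓛.algebraMap_P_comp 𝓜' C K L,
      𝓛.algebraMap_P_comp 𝓜' C K A]
  -- the contraction of the combined primes
  have hE1 : (qL.comap (𝓛.phi 𝓜'.r L)).comap
      (algebraMap ((𝓛.comb 𝓜').P C) ((𝓛.comb 𝓜').P L)) =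
      (qA.comap (𝓛.phi 𝓜'.r A)).comap (algebraMap ((𝓛.comb 𝓜').P C) ((𝓛.comb 𝓜').P A)) := by
    have e1 : (qL.comap (𝓛.phi 𝓜'.r L)).comap
        (algebraMap ((𝓛.comb 𝓜').P C) ((𝓛.comb 𝓜').P L)) =
        (qL.comap (algebraMap (𝓜'.P (𝓛.Q C)) (𝓜'.P (𝓛.Q L)))).comap (𝓛.phi 𝓜'.r C) := by
      ext x
      simp only [Ideal.mem_comap]
      rw [show algebraMap (𝓜'.P (𝓛.Q C)) (𝓜'.P (𝓛.Q L)) (𝓛.phi 𝓜'.r C x) =
        𝓛.phi 𝓜'.r L (algebraMap ((𝓛.comb 𝓜').P C) ((𝓛.comb 𝓜').P L) x) from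
        𝓛.map_phi 𝓜'.r C L x]
    have e2 : (qA.comap (𝓛.phi 𝓜'.r A)).comap
        (algebraMap ((𝓛.comb 𝓜').P C) ((𝓛.comb 𝓜').P A)) =
        (qA.comap (algebraMap (𝓜'.P (𝓛.Q C)) (𝓜'.P (𝓛.Q A)))).comap (𝓛.phi 𝓜'.r C) := by
      ext x
      simp only [Ideal.mem_comap]
      rw [show algebraMap (𝓜'.P (𝓛.Q C)) (𝓜'.P (𝓛.Q A)) (𝓛.phi 𝓜'.r C x) =
        𝓛.phi 𝓜'.r A (algebraMap ((𝓛.comb 𝓜').P C) ((𝓛.comb 𝓜').P A) x) from
        𝓛.map_phi 𝓜'.r C A x]
    rw [e1, e2, hE2]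
  -- step 4: base change of sub-base flatness from `C` to `L` for the combined model
  have h4 : Module.Flat L (LocalizedModule (qL.comap (𝓛.phi 𝓜'.r L)).primeCompl
      ((𝓛.comb 𝓜').Mod L)) := by
    have : Module.Flat C (LocalizedModule ((qL.comap (𝓛.phi 𝓜'.r L)).comap
        (algebraMap ((𝓛.comb 𝓜').P C) ((𝓛.comb 𝓜').P L))).primeCompl ((𝓛.comb 𝓜').Mod C)) :=
      flat_localizedModule_congr hE1.symm hC
    exact (𝓛.comb 𝓜').flat_localizedModule_of_comap C L (qL.comap (𝓛.phi 𝓜'.r L))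
  -- step 5: back to the two-level model
  have h5 : Module.Flat L (LocalizedModule qL.primeCompl (𝓜'.Mod (𝓛.Q L))) :=
    (𝓛.flat_comb_iff 𝓜' L qL).mp h4
  -- step 6: the Noetherian local step
  have h6 : Module.Flat (𝓛.Q L) (LocalizedModule qL.primeCompl (𝓜'.Mod (𝓛.Q L))) :=
    𝓛.flat_of_flat_fibre_local 𝓜' L K hLK qK
  -- step 7: descent to `Q C`
  have h7 : Module.Flat (𝓛.Q C) (LocalizedModule
      (qL.comap (algebraMap (𝓜'.P (𝓛.Q C)) (𝓜'.P (𝓛.Q L)))).primeCompl (𝓜'.Mod (𝓛.Q C))) :=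
    Model.flat_comap_of_flat 𝓜' (𝓛.Q C) (𝓛.Q L) qL
  -- step 9: base change to `Q A`
  have : Module.Flat (𝓛.Q C) (LocalizedModule
      (qA.comap (algebraMap (𝓜'.P (𝓛.Q C)) (𝓜'.P (𝓛.Q A)))).primeCompl (𝓜'.Mod (𝓛.Q C))) :=
    flat_localizedModule_congr hE2 h7
  exact 𝓜'.flat_localizedModule_of_comap (𝓛.Q C) (𝓛.Q A) qA

end generic

section main

variable [IsNoetherianRing Z] (A K : Type u) [CommRing A] [Field K]
  [Algebra Z₀ A] [Algebra Z₀ K] [Algebra Z A] [Algebra Z K]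
  [IsScalarTower Z₀ Z A] [IsScalarTower Z₀ Z K] [Algebra A K]
  [IsScalarTower Z₀ A K] [IsScalarTower Z A K]

/-- **Core theorem** (field form): if `(Mod (Q A))_{q}` is flat over `A` and the fibre over a
field `K` is flat, then `(Mod (Q A))_{q}` is flat over `Q A`. -/
theorem flat_of_flat_fibre_field (qK : Ideal (𝓜'.P (𝓛.Q K))) [qK.IsPrime]
    [Module.Flat A (LocalizedModule
      (qK.comap (algebraMap (𝓜'.P (𝓛.Q A)) (𝓜'.P (𝓛.Q K)))).primeCompl (𝓜'.Mod (𝓛.Q A)))]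
    [Module.Flat (𝓛.Q K) (LocalizedModule qK.primeCompl (𝓜'.Mod (𝓛.Q K)))] :
    Module.Flat (𝓛.Q A) (LocalizedModule
      (qK.comap (algebraMap (𝓜'.P (𝓛.Q A)) (𝓜'.P (𝓛.Q K)))).primeCompl (𝓜'.Mod (𝓛.Q A))) := by
  set qA := qK.comap (algebraMap (𝓜'.P (𝓛.Q A)) (𝓜'.P (𝓛.Q K))) with hqA
  have h1 : Module.Flat A (LocalizedModule (qA.comap (𝓛.phi 𝓜'.r A)).primeCompl
      ((𝓛.comb 𝓜').Mod A)) := (𝓛.flat_comb_iff 𝓜' A qA).mpr inferInstance
  obtain ⟨Sg, hSg⟩ := (𝓛.comb 𝓜').exists_finset_forall_flat A (qA.comap (𝓛.phi 𝓜'.r A))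
  set C : Subalgebra Z A := Algebra.adjoin Z (Sg : Set A) with hCdef
  have hCfg : C.FG := ⟨Sg, rfl⟩
  have hC := hSg C Algebra.subset_adjoin hCfg
  have hft : Algebra.FiniteType Z C := (Subalgebra.fg_iff_finiteType C).mp hCfg
  have hCnoeth : IsNoetherianRing C := Algebra.FiniteType.isNoetherianRing Z C
  -- the localization of `C`
  set pC : Ideal C := RingHom.ker (algebraMap C K) with hpC
  have hpCprime : pC.IsPrime := RingHom.ker_isPrime _
  have hunits : ∀ y : pC.primeCompl, IsUnit (algebraMap C K y) := fun y =>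
    IsUnit.mk0 _ (fun h => y.2 ((RingHom.mem_ker (f := algebraMap C K)).mpr h))
  let _ : Algebra (Localization.AtPrime pC) K :=
    (IsLocalization.lift (M := pC.primeCompl) (g := algebraMap C K) hunits).toAlgebra
  have tCLK : IsScalarTower C (Localization.AtPrime pC) K :=
    IsScalarTower.of_algebraMap_eq fun x => (IsLocalization.lift_eq hunits x).symm
  have tZ₀ZL : IsScalarTower Z₀ Z (Localization.AtPrime pC) := inferInstance
  have tZ₀CL : IsScalarTower Z₀ C (Localization.AtPrime pC) := inferInstance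
  have tZCL : IsScalarTower Z C (Localization.AtPrime pC) := inferInstance
  have tZ₀LK : IsScalarTower Z₀ (Localization.AtPrime pC) K :=
    IsScalarTower.of_algebraMap_eq fun x => by
      rw [IsScalarTower.algebraMap_apply Z₀ C (Localization.AtPrime pC),
        ← IsScalarTower.algebraMap_apply C (Localization.AtPrime pC) K,
        ← IsScalarTower.algebraMap_apply Z₀ C K]
  have tZLK : IsScalarTower Z (Localization.AtPrime pC) K :=
    IsScalarTower.of_algebraMap_eq fun x => by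
      rw [IsScalarTower.algebraMap_apply Z C (Localization.AtPrime pC),
        ← IsScalarTower.algebraMap_apply C (Localization.AtPrime pC) K,
        ← IsScalarTower.algebraMap_apply Z C K]
  have hLnoeth : IsNoetherianRing (Localization.AtPrime pC) :=
    IsLocalization.isNoetherianRing pC.primeCompl _ hCnoeth
  have hLK : IsLocalRing.maximalIdeal (Localization.AtPrime pC) ≤
      RingHom.ker (algebraMap (Localization.AtPrime pC) K) := by
    rw [← Localization.AtPrime.map_eq_maximalIdeal, Ideal.map_le_iff_le_comap]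
    intro x hx
    rw [Ideal.mem_comap, RingHom.mem_ker, ← IsScalarTower.algebraMap_apply C _ K]
    exact hx
  exact 𝓛.flat_of_flat_fibre_generic 𝓜' C (Localization.AtPrime pC) A K hLK qK hC

end main

end L1

end Groth.Agent.H1.FibreCrit
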