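import Mathlib
import Groth.Agent.H1.FibreCritCore

set_option autoImplicit false
set_option linter.unusedSectionVars false

/-!
# The core theorem in quotient form

For a two-level model over an arbitrary base `A`, flatness over `A` at a prime together with
flatness of the fibre (in quotient form) gives flatness over `Q A`.  The field needed by the
field form of the core theorem is the residue field of the prime itself ("diagonal" point).
-/

namespace Groth.Agent.H1.FibreCrit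

universe u

open TensorProduct Groth.Agent.H1.FlatLocus

attribute [local instance] MvPolynomial.algebraMvPolynomial

namespace L1

variable {Z₀ : Type u} [CommRing Z₀] (𝓛 : L1 Z₀) {Z : Type u} [CommRing Z] [Algebra Z₀ Z]
  (𝓜' : Model (𝓛.Q Z))

section diag

variable (A : Type u) [CommRing A] [Algebra Z₀ A] [Algebra Z A] [IsScalarTower Z₀ Z A]
  (q' : Ideal (𝓜'.P (𝓛.Q A))) [q'.IsPrime]

/-- The point of the polynomial ring over `A` with values in the residue field. -/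
noncomputable def thetaD : MvPolynomial (Fin 𝓛.r) A →+* q'.ResidueField :=
  (algebraMap (𝓜'.P (𝓛.Q A)) q'.ResidueField).comp
    ((MvPolynomial.C : 𝓛.Q A →+* 𝓜'.P (𝓛.Q A)).comp (𝓛.qmk A))

/-- The corresponding point of the polynomial ring over the residue field. -/
noncomputable def deltaT : MvPolynomial (Fin 𝓛.r) q'.ResidueField →+* q'.ResidueField :=
  MvPolynomial.eval₂Hom (RingHom.id q'.ResidueField) (fun i => 𝓛.thetaD 𝓜' A q' (MvPolynomial.X i))

lemma deltaT_map (p : MvPolynomial (Fin 𝓛.r) A) :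
    𝓛.deltaT 𝓜' A q' (MvPolynomial.map (algebraMap A q'.ResidueField) p) = 𝓛.thetaD 𝓜' A q' p := by
  have : (𝓛.deltaT 𝓜' A q').comp (MvPolynomial.map (algebraMap A q'.ResidueField)) =
      𝓛.thetaD 𝓜' A q' := by
    refine MvPolynomial.ringHom_ext (fun a => ?_) (fun i => ?_)
    · simp only [RingHom.comp_apply, MvPolynomial.map_C, deltaT, MvPolynomial.coe_eval₂Hom,
        MvPolynomial.eval₂_C, RingHom.id_apply, thetaD]
      rw [IsScalarTower.algebraMap_apply A (𝓜'.P (𝓛.Q A)) q'.ResidueField]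
      rfl
    · simp only [RingHom.comp_apply, MvPolynomial.map_X, deltaT, MvPolynomial.coe_eval₂Hom,
        MvPolynomial.eval₂_X]
  exact congrArg (fun g => g p) this

/-- The point of `Q K`. -/
noncomputable def deltaQ : 𝓛.Q q'.ResidueField →+* q'.ResidueField :=
  𝓛.lift q'.ResidueField (𝓛.deltaT 𝓜' A q') (fun i => by
    rw [← 𝓛.map_fC A q'.ResidueField, deltaT_map, thetaD, RingHom.comp_apply, RingHom.comp_apply,
      qmk_fC, map_zero, map_zero])

lemma deltaQ_comp :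
    (𝓛.deltaQ 𝓜' A q').comp (algebraMap (𝓛.Q A) (𝓛.Q q'.ResidueField)) =
      (algebraMap (𝓜'.P (𝓛.Q A)) q'.ResidueField).comp MvPolynomial.C := by
  refine 𝓛.ringHom_ext A ?_
  refine RingHom.ext fun p => ?_
  change 𝓛.deltaQ 𝓜' A q' (algebraMap (𝓛.Q A) (𝓛.Q q'.ResidueField) (𝓛.qmk A p)) =
    algebraMap (𝓜'.P (𝓛.Q A)) q'.ResidueField (MvPolynomial.C (𝓛.qmk A p))
  rw [algebraMap_Q, Qmap_qmk, deltaQ, lift_qmk, deltaT_map]
  rfl

/-- The diagonal point of the polynomial ring over `Q K`. -/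
noncomputable def deltaP : 𝓜'.P (𝓛.Q q'.ResidueField) →+* q'.ResidueField :=
  MvPolynomial.eval₂Hom (𝓛.deltaQ 𝓜' A q')
    (fun j => algebraMap (𝓜'.P (𝓛.Q A)) q'.ResidueField (MvPolynomial.X j))

lemma deltaP_comp :
    (𝓛.deltaP 𝓜' A q').comp (algebraMap (𝓜'.P (𝓛.Q A)) (𝓜'.P (𝓛.Q q'.ResidueField))) =
      algebraMap (𝓜'.P (𝓛.Q A)) q'.ResidueField := by
  change (𝓛.deltaP 𝓜' A q').comp (MvPolynomial.map _) = _
  refine MvPolynomial.ringHom_ext (fun c => ?_) (fun j => ?_)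
  · simp only [RingHom.comp_apply, MvPolynomial.map_C, deltaP, MvPolynomial.coe_eval₂Hom,
      MvPolynomial.eval₂_C]
    exact congrArg (fun g => g c) (𝓛.deltaQ_comp 𝓜' A q')
  · simp only [RingHom.comp_apply, MvPolynomial.map_X, deltaP, MvPolynomial.coe_eval₂Hom,
      MvPolynomial.eval₂_X]

/-- The diagonal prime. -/
noncomputable def diagPrime : Ideal (𝓜'.P (𝓛.Q q'.ResidueField)) :=
  RingHom.ker (𝓛.deltaP 𝓜' A q')

instance : (𝓛.diagPrime 𝓜' A q').IsPrime := RingHom.ker_isPrime _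

lemma comap_diagPrime :
    (𝓛.diagPrime 𝓜' A q').comap (algebraMap (𝓜'.P (𝓛.Q A)) (𝓜'.P (𝓛.Q q'.ResidueField))) =
      q' := by
  rw [diagPrime, RingHom.comap_ker, deltaP_comp, Ideal.ker_algebraMap_residueField]

end diag

section main

variable [IsNoetherianRing Z] (A : Type u) [CommRing A] [Algebra Z₀ A] [Algebra Z A]
  [IsScalarTower Z₀ Z A]

/-- **Core theorem, quotient form**: flatness over `A` at a prime `q'` together with flatness of
the fibre modulo an ideal `𝔯` of `A` contained in the contraction of `q'` gives flatness over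
`Q A`. -/
theorem flat_of_flat_fibre_quot (q' : Ideal (𝓜'.P (𝓛.Q A))) [q'.IsPrime] (𝔯 : Ideal A)
    (h𝔯 : 𝔯 ≤ (q'.comap (algebraMap (𝓛.Q A) (𝓜'.P (𝓛.Q A)))).comap (algebraMap A (𝓛.Q A)))
    (h1 : Module.Flat A (LocalizedModule q'.primeCompl (𝓜'.Mod (𝓛.Q A))))
    (h2 : Module.Flat (𝓛.Q A ⧸ 𝔯.map (algebraMap A (𝓛.Q A)))
      ((𝓛.Q A ⧸ 𝔯.map (algebraMap A (𝓛.Q A))) ⊗[𝓛.Q A]
        LocalizedModule q'.primeCompl (𝓜'.Mod (𝓛.Q A)))) :
    Module.Flat (𝓛.Q A) (LocalizedModule q'.primeCompl (𝓜'.Mod (𝓛.Q A))) := by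
  set K := q'.ResidueField with hK
  set qK := 𝓛.diagPrime 𝓜' A q' with hqK
  have hcomap := 𝓛.comap_diagPrime 𝓜' A q'
  have h𝔯K : ∀ a ∈ 𝔯, algebraMap A K a = 0 := by
    intro a ha
    have := h𝔯 ha
    rw [Ideal.mem_comap, Ideal.mem_comap] at this
    rw [IsScalarTower.algebraMap_apply A (𝓜'.P (𝓛.Q A)) K,
      IsScalarTower.algebraMap_apply A (𝓛.Q A) (𝓜'.P (𝓛.Q A))]
    exact (Ideal.algebraMap_residueField_eq_zero).mpr this
  let _ : Algebra (A ⧸ 𝔯) K := (Ideal.Quotient.lift 𝔯 (algebraMap A K) h𝔯K).toAlgebra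
  have _ : IsScalarTower A (A ⧸ 𝔯) K := IsScalarTower.of_algebraMap_eq fun x => rfl
  have _ : IsScalarTower Z₀ (A ⧸ 𝔯) K := IsScalarTower.of_algebraMap_eq fun x => by
    rw [IsScalarTower.algebraMap_apply Z₀ A (A ⧸ 𝔯), ← IsScalarTower.algebraMap_apply A (A ⧸ 𝔯) K,
      ← IsScalarTower.algebraMap_apply]
  have _ : IsScalarTower Z (A ⧸ 𝔯) K := IsScalarTower.of_algebraMap_eq fun x => by
    rw [IsScalarTower.algebraMap_apply Z A (A ⧸ 𝔯), ← IsScalarTower.algebraMap_apply A (A ⧸ 𝔯) K,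
      ← IsScalarTower.algebraMap_apply]
  set qb := qK.comap (algebraMap (𝓜'.P (𝓛.Q (A ⧸ 𝔯))) (𝓜'.P (𝓛.Q K))) with hqb
  have hq : q' = qb.comap (algebraMap (𝓜'.P (𝓛.Q A)) (𝓜'.P (𝓛.Q (A ⧸ 𝔯)))) := by
    rw [hqb, Ideal.comap_comap, 𝓛.algebraMap_P_comp 𝓜' A K (A ⧸ 𝔯), hcomap]
  have h3 : Module.Flat (𝓛.Q (A ⧸ 𝔯)) (LocalizedModule qb.primeCompl (𝓜'.Mod (𝓛.Q (A ⧸ 𝔯)))) :=
    (𝓛.flat_fibre_iff 𝓜' A 𝔯 qb q' hq).mp h2
  have h4 : Module.Flat (𝓛.Q K) (LocalizedModule qK.primeCompl (𝓜'.Mod (𝓛.Q K))) :=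
    𝓜'.flat_localizedModule_of_comap (𝓛.Q (A ⧸ 𝔯)) (𝓛.Q K) qK
  have h5 : Module.Flat A (LocalizedModule
      (qK.comap (algebraMap (𝓜'.P (𝓛.Q A)) (𝓜'.P (𝓛.Q K)))).primeCompl (𝓜'.Mod (𝓛.Q A))) :=
    flat_localizedModule_congr hcomap.symm h1
  exact flat_localizedModule_congr hcomap (𝓛.flat_of_flat_fibre_field 𝓜' A K qK)

end main

end L1

end Groth.Agent.H1.FibreCrit
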