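import Mathlib
import Groth.Agent.H1.FibreCritQ
import Groth.Agent.H1.FlatLocusExists

set_option autoImplicit false

/-!
# Existence of two-level models
-/

namespace Groth.Agent.H1.FibreCrit

universe u

open TensorProduct Groth.Agent.H1.FlatLocus

attribute [local instance] MvPolynomial.algebraMvPolynomial

namespace L1

variable {Z₀ : Type u} [CommRing Z₀] (𝓛 : L1 Z₀) (A : Type u) [CommRing A] [Algebra Z₀ A]

/-- Every finitely presented module over a finitely presented `Q A`-algebra comes from a model over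
`Q Z` for a finitely generated subalgebra `Z` of `A`. -/
theorem exists_model_Q (C N : Type u) [CommRing C] [Algebra (𝓛.Q A) C]
    [Algebra.FinitePresentation (𝓛.Q A) C] [AddCommGroup N] [Module C N]
    [Module.FinitePresentation C N] :
    ∃ (Z : Subalgebra Z₀ A) (_ : Z.FG) (𝓜' : Model (𝓛.Q Z)) (φ : 𝓜'.P (𝓛.Q A) →ₐ[𝓛.Q A] C)
      (e : 𝓜'.Mod (𝓛.Q A) ≃+ N), Function.Surjective φ ∧
        ∀ (p : 𝓜'.P (𝓛.Q A)) (x : 𝓜'.Mod (𝓛.Q A)), e (p • x) = φ p • e x := by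
  classical
  obtain ⟨Z', hZ'fg, 𝓜₁, φ₁, e₁, hφ₁, he₁⟩ := FlatLocus.exists_model (𝓛.Q A) C N
  obtain ⟨Sg, hSg⟩ := hZ'fg
  choose pl hpl using fun s : 𝓛.Q A => 𝓛.qmk_surjective A s
  let T : Finset A := Sg.biUnion (fun s => (pl s).coeffs)
  let Z : Subalgebra Z₀ A := Algebra.adjoin Z₀ (T : Set A)
  have hrange : ∀ c : Z', (c : 𝓛.Q A) ∈ Set.range (algebraMap (𝓛.Q Z) (𝓛.Q A)) := by
    have hle : Z' ≤ ((𝓛.Qmap Z A).toIntAlgHom).range := by
      rw [← hSg]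
      refine Algebra.adjoin_le ?_
      intro s hs
      have : pl s ∈ Set.range (MvPolynomial.map (algebraMap Z A)) := by
        refine MvPolynomial.mem_range_map_iff_coeffs_subset.mpr (fun a ha => ?_)
        exact ⟨⟨a, Algebra.subset_adjoin (Finset.mem_coe.mpr
          (Finset.mem_biUnion.mpr ⟨s, hs, ha⟩))⟩, rfl⟩
      obtain ⟨p', hp'⟩ := this
      refine ⟨𝓛.qmk Z p', ?_⟩
      change 𝓛.Qmap Z A (𝓛.qmk Z p') = s
      rw [Qmap_qmk, hp', hpl]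
    intro c
    obtain ⟨x, hx⟩ := hle c.2
    exact ⟨x, hx⟩
  have hlift : ∀ j i, ∃ g' : MvPolynomial (Fin 𝓜₁.r) (𝓛.Q Z),
      MvPolynomial.map (algebraMap (𝓛.Q Z) (𝓛.Q A)) g' =
        MvPolynomial.map (algebraMap Z' (𝓛.Q A)) (𝓜₁.g j i) := by
    intro j i
    refine MvPolynomial.mem_range_map_iff_coeffs_subset.mpr (fun a ha => ?_)
    have := MvPolynomial.coeffs_map (algebraMap Z' (𝓛.Q A)) (𝓜₁.g j i) ha
    obtain ⟨c, -, rfl⟩ := Finset.mem_image.mp this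
    exact hrange c
  choose g' hg' using hlift
  have hgen : ∀ j, (⟨𝓜₁.r, 𝓜₁.n, 𝓜₁.m, g'⟩ : Model (𝓛.Q Z)).gen (𝓛.Q A) j = 𝓜₁.gen (𝓛.Q A) j := by
    intro j
    funext i
    exact hg' j i
  have hK : (⟨𝓜₁.r, 𝓜₁.n, 𝓜₁.m, g'⟩ : Model (𝓛.Q Z)).K (𝓛.Q A) = 𝓜₁.K (𝓛.Q A) := by
    rw [Model.K, Model.K]
    congr 2
    funext j
    exact hgen j
  refine ⟨Z, ⟨T, rfl⟩, ⟨𝓜₁.r, 𝓜₁.n, 𝓜₁.m, g'⟩, φ₁,
    (Submodule.quotEquivOfEq _ _ hK).toAddEquiv.trans e₁, hφ₁, ?_⟩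
  intro p x
  rw [AddEquiv.trans_apply, AddEquiv.trans_apply]
  have : (Submodule.quotEquivOfEq _ _ hK).toAddEquiv (p • x) =
      p • (Submodule.quotEquivOfEq _ _ hK).toAddEquiv x :=
    (Submodule.quotEquivOfEq _ _ hK).map_smul p x
  rw [this]
  exact he₁ p _

end L1

end Groth.Agent.H1.FibreCrit
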