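import Mathlib
import Groth.Agent.H1.FibreCritCoreQ
import Groth.Agent.H1.FibreCritExist
import Groth.Agent.H1.FibreCritBridge

set_option autoImplicit false
set_option linter.unusedSectionVars false

/-!
# The fibrewise criterion in the finitely presented case, for abstract algebras and modules
-/

namespace Groth.Agent.H1.FibreCrit

universe u

open TensorProduct Groth.Agent.H1.FlatLocus

attribute [local instance] MvPolynomial.algebraMvPolynomial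

namespace L1

variable {Z₀ : Type u} [CommRing Z₀] [IsNoetherianRing Z₀] (𝓛 : L1 Z₀) (A : Type u) [CommRing A]
  [Algebra Z₀ A]

/-- **Fibrewise criterion, finitely presented case**: `C` a finitely presented `Q A`-algebra, `N`
a finitely presented `C`-module, `M = N_𝔮`.  If `M` is flat over `A` and `M/𝔯M` is flat over
`Q A/𝔯 Q A`, then `M` is flat over `Q A`. -/
theorem flat_of_flat_fibre_fp (C N M : Type u) [CommRing C] [Algebra (𝓛.Q A) C]
    [Algebra.FinitePresentation (𝓛.Q A) C] [Algebra A C] [IsScalarTower A (𝓛.Q A) C]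
    [AddCommGroup N] [Module C N] [Module.FinitePresentation C N]
    [AddCommGroup M] [Module C M] [Module (𝓛.Q A) M] [IsScalarTower (𝓛.Q A) C M]
    [Module A M] [IsScalarTower A C M]
    (𝔮 : Ideal C) [𝔮.IsPrime] (ι : N →ₗ[C] M) [IsLocalizedModule 𝔮.primeCompl ι]
    (𝔯 : Ideal A) (h𝔯 : 𝔯 ≤ 𝔮.comap (algebraMap A C))
    (h1 : Module.Flat A M)
    (h2 : Module.Flat (𝓛.Q A ⧸ 𝔯.map (algebraMap A (𝓛.Q A)))
      ((𝓛.Q A ⧸ 𝔯.map (algebraMap A (𝓛.Q A))) ⊗[𝓛.Q A] M)) :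
    Module.Flat (𝓛.Q A) M := by
  obtain ⟨Z, hZfg, 𝓜', φ, e, hφ, he⟩ := 𝓛.exists_model_Q A C N
  have hft : Algebra.FiniteType Z₀ Z := (Subalgebra.fg_iff_finiteType Z).mp hZfg
  have hZnoeth : IsNoetherianRing Z := Algebra.FiniteType.isNoetherianRing Z₀ Z
  -- module structures over the polynomial ring
  let _ : Algebra (𝓜'.P (𝓛.Q A)) C := φ.toRingHom.toAlgebra
  have hφalg : ∀ p, algebraMap (𝓜'.P (𝓛.Q A)) C p = φ p := fun p => rfl
  let _ : Module (𝓜'.P (𝓛.Q A)) N := Module.compHom N φ.toRingHom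
  let _ : Module (𝓜'.P (𝓛.Q A)) M := Module.compHom M φ.toRingHom
  have tPCN : IsScalarTower (𝓜'.P (𝓛.Q A)) C N := IsScalarTower.of_algebraMap_smul fun p x => rfl
  have tPCM : IsScalarTower (𝓜'.P (𝓛.Q A)) C M := IsScalarTower.of_algebraMap_smul fun p x => rfl
  have hsmulM : ∀ (p : 𝓜'.P (𝓛.Q A)) (m : M), p • m = φ p • m := fun p m => rfl
  have tQPM : IsScalarTower (𝓛.Q A) (𝓜'.P (𝓛.Q A)) M := by
    refine ⟨fun q p m => ?_⟩
    rw [hsmulM, hsmulM, map_smul, smul_assoc]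
  have tAPM : IsScalarTower A (𝓜'.P (𝓛.Q A)) M := by
    refine ⟨fun a p m => ?_⟩
    rw [hsmulM, hsmulM, ← algebraMap_smul (𝓛.Q A) a p, map_smul, algebraMap_smul, smul_assoc]
  -- the prime
  set q' : Ideal (𝓜'.P (𝓛.Q A)) := 𝔮.comap φ with hq'
  have hq'prime : q'.IsPrime := Ideal.comap_isPrime φ 𝔮
  have hT : Algebra.algebraMapSubmonoid C q'.primeCompl = 𝔮.primeCompl := by
    ext x
    constructor
    · rintro ⟨y, hy, rfl⟩
      exact hy
    · intro hx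
      obtain ⟨y, rfl⟩ := hφ x
      exact ⟨y, hx, rfl⟩
  have hloc : IsLocalizedModule (Algebra.algebraMapSubmonoid C q'.primeCompl) ι := by
    rw [hT]
    infer_instance
  have hloc' : IsLocalizedModule q'.primeCompl (ι.restrictScalars (𝓜'.P (𝓛.Q A))) :=
    IsLocalizedModule.restrictScalars q'.primeCompl ι
  let eₗ : 𝓜'.Mod (𝓛.Q A) ≃ₗ[𝓜'.P (𝓛.Q A)] N := { e with map_smul' := fun p x => he p x }
  have hloc'' : IsLocalizedModule q'.primeCompl
      ((ι.restrictScalars (𝓜'.P (𝓛.Q A))) ∘ₗ eₗ.toLinearMap) :=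
    IsLocalizedModule.of_linearEquiv_right q'.primeCompl (ι.restrictScalars (𝓜'.P (𝓛.Q A))) eₗ
  let ε : LocalizedModule q'.primeCompl (𝓜'.Mod (𝓛.Q A)) ≃ₗ[𝓜'.P (𝓛.Q A)] M :=
    IsLocalizedModule.iso q'.primeCompl
      ((ι.restrictScalars (𝓜'.P (𝓛.Q A))) ∘ₗ eₗ.toLinearMap)
  have tQPL : IsScalarTower (𝓛.Q A) (𝓜'.P (𝓛.Q A))
      (LocalizedModule q'.primeCompl (𝓜'.Mod (𝓛.Q A))) :=
    isScalarTower_localizedModule q'.primeCompl
  have tAPL : IsScalarTower A (𝓜'.P (𝓛.Q A))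
      (LocalizedModule q'.primeCompl (𝓜'.Mod (𝓛.Q A))) :=
    isScalarTower_localizedModule q'.primeCompl
  let εA : LocalizedModule q'.primeCompl (𝓜'.Mod (𝓛.Q A)) ≃ₗ[A] M := ε.restrictScalars A
  let εQ : LocalizedModule q'.primeCompl (𝓜'.Mod (𝓛.Q A)) ≃ₗ[𝓛.Q A] M :=
    ε.restrictScalars (𝓛.Q A)
  have h1' : Module.Flat A (LocalizedModule q'.primeCompl (𝓜'.Mod (𝓛.Q A))) :=
    (Module.Flat.equiv_iff εA).mpr h1
  have h2' : Module.Flat (𝓛.Q A ⧸ 𝔯.map (algebraMap A (𝓛.Q A)))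
      ((𝓛.Q A ⧸ 𝔯.map (algebraMap A (𝓛.Q A))) ⊗[𝓛.Q A]
        LocalizedModule q'.primeCompl (𝓜'.Mod (𝓛.Q A))) :=
    (Module.Flat.equiv_iff (TensorProduct.AlgebraTensorModule.congr
      (LinearEquiv.refl (𝓛.Q A ⧸ 𝔯.map (algebraMap A (𝓛.Q A)))
        (𝓛.Q A ⧸ 𝔯.map (algebraMap A (𝓛.Q A)))) εQ)).mpr h2
  have h𝔯' : 𝔯 ≤ (q'.comap (algebraMap (𝓛.Q A) (𝓜'.P (𝓛.Q A)))).comap
      (algebraMap A (𝓛.Q A)) := by
    intro a ha
    rw [Ideal.mem_comap, Ideal.mem_comap, hq', Ideal.mem_comap, AlgHom.commutes,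
      ← IsScalarTower.algebraMap_apply A (𝓛.Q A) C]
    exact h𝔯 ha
  have key := 𝓛.flat_of_flat_fibre_quot 𝓜' A q' 𝔯 h𝔯' h1' h2'
  exact (Module.Flat.equiv_iff εQ).mp key

end L1

end Groth.Agent.H1.FibreCrit
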