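import Mathlib

set_option autoImplicit false

/-!
# The fibre ring of a finite type algebra as a localization of the fibre ring of a finitely
presented approximation
-/

namespace Groth.Agent.H1.FibreCrit

universe u

open TensorProduct

section LocE

variable {A Q B S : Type*} [CommRing A] [CommRing Q] [CommRing B] [CommRing S]
  [Algebra A Q] [Algebra Q B] [Algebra B S] [Algebra Q S] [IsScalarTower Q B S]
  [Algebra A S] [IsScalarTower A Q S]

/-- Let `Q → B` be surjective, `S = B_𝔭`, and suppose that the kernel of `Q → B` is torsion modulo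
`𝔯 Q` with respect to `A ∖ 𝔯`.  Then `S/𝔯S` is a localization of `Q/𝔯Q`, hence flat over it. -/
theorem flat_quotient_of_torsion_ker (hsurj : Function.Surjective (algebraMap Q B))
    (𝔭 : Ideal B) [𝔭.IsPrime] [IsLocalization.AtPrime S 𝔭] (𝔯 : Ideal A)
    (hunit : ∀ a : A, a ∉ 𝔯 → IsUnit (algebraMap A S a))
    (htors : ∀ j : Q, algebraMap Q B j = 0 →
      ∃ a : A, a ∉ 𝔯 ∧ a • j ∈ 𝔯.map (algebraMap A Q)) :
    Module.Flat (Q ⧸ 𝔯.map (algebraMap A Q))
      (S ⧸ (𝔯.map (algebraMap A Q)).map (algebraMap Q S)) := by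
  set I := 𝔯.map (algebraMap A Q) with hI
  set φ := algebraMap (Q ⧸ I) (S ⧸ I.map (algebraMap Q S)) with hφ
  have hφmk : ∀ q : Q, φ (Ideal.Quotient.mk I q) =
      Ideal.Quotient.mk (I.map (algebraMap Q S)) (algebraMap Q S q) := fun q => rfl
  set Mon : Submonoid (Q ⧸ I) := (IsUnit.submonoid (S ⧸ I.map (algebraMap Q S))).comap φ with hMon
  have hmemMon : ∀ c : Q ⧸ I, c ∈ Mon ↔ IsUnit (φ c) := fun c => Iff.rfl
  have hQS : ∀ q : Q, algebraMap Q S q = algebraMap B S (algebraMap Q B q) := fun q =>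
    IsScalarTower.algebraMap_apply Q B S q
  have hloc : IsLocalization Mon (S ⧸ I.map (algebraMap Q S)) := by
    refine ⟨fun y => y.2, fun z => ?_, fun {x y} hxy => ?_⟩
    · obtain ⟨s₀, rfl⟩ := Ideal.Quotient.mk_surjective z
      obtain ⟨⟨b, t⟩, hbt⟩ := IsLocalization.surj 𝔭.primeCompl s₀
      obtain ⟨b', rfl⟩ := hsurj b
      obtain ⟨t', ht'⟩ := hsurj t
      have htu : IsUnit (φ (Ideal.Quotient.mk I t')) := by
        rw [hφmk, hQS, ht']
        exact (IsLocalization.map_units S t).map _
      refine ⟨⟨Ideal.Quotient.mk I b', ⟨Ideal.Quotient.mk I t', htu⟩⟩, ?_⟩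
      change Ideal.Quotient.mk _ s₀ * φ (Ideal.Quotient.mk I t') = φ (Ideal.Quotient.mk I b')
      rw [hφmk, hφmk, ← map_mul, hQS, hQS, ht', hbt]
    · -- the kernel condition
      obtain ⟨x', rfl⟩ := Ideal.Quotient.mk_surjective x
      obtain ⟨y', rfl⟩ := Ideal.Quotient.mk_surjective y
      have h0 : algebraMap Q S (x' - y') ∈ I.map (algebraMap Q S) := by
        rw [← Ideal.Quotient.eq_zero_iff_mem, ← hφmk, map_sub, map_sub, sub_eq_zero]
        exact hxy
      have hmm : I.map (algebraMap Q S) = (I.map (algebraMap Q B)).map (algebraMap B S) := by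
        have := Ideal.map_map (I := I) (algebraMap Q B) (algebraMap B S)
        rw [this, ← IsScalarTower.algebraMap_eq]
      rw [hmm, IsLocalization.mem_map_algebraMap_iff 𝔭.primeCompl S] at h0
      obtain ⟨⟨⟨i, hi⟩, t⟩, hit⟩ := h0
      rw [hQS, ← map_mul] at hit
      obtain ⟨t₂, ht₂⟩ := IsLocalization.exists_of_eq (M := 𝔭.primeCompl) (S := S) hit
      obtain ⟨i', hi'I, hi'⟩ := (Ideal.mem_map_iff_of_surjective (algebraMap Q B) hsurj).mp hi
      obtain ⟨t', ht'⟩ := hsurj t
      obtain ⟨t₂', ht₂'⟩ := hsurj t₂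
      have hker : algebraMap Q B (t₂' * ((x' - y') * t') - t₂' * i') = 0 := by
        rw [map_sub, map_mul, map_mul, map_mul, ht₂', ht', hi', sub_eq_zero]
        exact ht₂
      obtain ⟨a, ha, haj⟩ := htors _ hker
      have hmem : algebraMap A Q a * t₂' * t' * (x' - y') ∈ I := by
        have h1 : a • (t₂' * ((x' - y') * t') - t₂' * i') + algebraMap A Q a * (t₂' * i') ∈ I :=
          I.add_mem haj (I.mul_mem_left _ (I.mul_mem_left _ hi'I))
        have h2 : a • (t₂' * ((x' - y') * t') - t₂' * i') + algebraMap A Q a * (t₂' * i') =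
            algebraMap A Q a * t₂' * t' * (x' - y') := by
          rw [Algebra.smul_def]
          ring
        rwa [h2] at h1
      have hcu : IsUnit (φ (Ideal.Quotient.mk I (algebraMap A Q a * t₂' * t'))) := by
        have hcalc : algebraMap Q S (algebraMap A Q a * t₂' * t') =
            algebraMap A S a * algebraMap B S t₂ * algebraMap B S t := by
          rw [map_mul, map_mul, ← IsScalarTower.algebraMap_apply A Q S, hQS t₂', hQS t', ht₂',
            ht']
        rw [hφmk, hcalc]
        exact (((hunit a ha).mul (IsLocalization.map_units S t₂)).mul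
          (IsLocalization.map_units S t)).map _
      refine ⟨⟨Ideal.Quotient.mk I (algebraMap A Q a * t₂' * t'), hcu⟩, ?_⟩
      change Ideal.Quotient.mk I (algebraMap A Q a * t₂' * t') * Ideal.Quotient.mk I x' =
        Ideal.Quotient.mk I (algebraMap A Q a * t₂' * t') * Ideal.Quotient.mk I y'
      rw [← sub_eq_zero, ← mul_sub, ← map_sub, ← map_mul, Ideal.Quotient.eq_zero_iff_mem]
      exact hmem
  exact IsLocalization.flat _ Mon

end LocE

end Groth.Agent.H1.FibreCrit
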