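import Mathlib
import Groth.Agent.H1.FibreCritFP
import Groth.Agent.H1.FibreCritLocE

set_option autoImplicit false
set_option linter.unusedSectionVars false

/-!
# The fibrewise criterion: finite type middle ring, with a chosen finitely presented approximation
-/

namespace Groth.Agent.H1.FibreCrit

universe u

open TensorProduct Groth.Agent.H1.FlatLocus

namespace L1

variable {Z₀ : Type u} [CommRing Z₀] (𝓛 : L1 Z₀) (A : Type u) [CommRing A] [Algebra Z₀ A]

instance finiteType_Q : Algebra.FiniteType A (𝓛.Q A) :=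
  Algebra.FiniteType.of_surjective
    (IsScalarTower.toAlgHom A (MvPolynomial (Fin 𝓛.r) A) (𝓛.Q A)) (𝓛.qmk_surjective A)

variable [IsNoetherianRing Z₀]

/-- The fibrewise criterion with a surjection `Q A → B` whose kernel is torsion on the fibre. -/
theorem flat_of_flat_fibre_ft_aux (B C S : Type u) [CommRing B] [CommRing C] [CommRing S]
    [Algebra A B] [Algebra (𝓛.Q A) B] [IsScalarTower A (𝓛.Q A) B]
    [Algebra B C] [Algebra A C] [IsScalarTower A B C] [Algebra (𝓛.Q A) C]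
    [IsScalarTower (𝓛.Q A) B C] [Algebra.FinitePresentation A C]
    [Algebra B S] [Algebra (𝓛.Q A) S] [IsScalarTower (𝓛.Q A) B S] [Algebra A S]
    [IsScalarTower A (𝓛.Q A) S]
    (hsurj : Function.Surjective (algebraMap (𝓛.Q A) B))
    (N M : Type u) [AddCommGroup N] [Module C N] [Module.FinitePresentation C N]
    [AddCommGroup M] [Module A M] [Module (𝓛.Q A) M] [Module B M] [Module C M] [Module S M]
    [IsScalarTower A (𝓛.Q A) M] [IsScalarTower (𝓛.Q A) B M] [IsScalarTower B C M]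
    [IsScalarTower B S M]
    (𝔮 : Ideal C) [𝔮.IsPrime] (ι : N →ₗ[C] M) [IsLocalizedModule 𝔮.primeCompl ι]
    (𝔭 : Ideal B) [𝔭.IsPrime] [IsLocalization.AtPrime S 𝔭]
    (𝔯 : Ideal A) (h𝔯 : 𝔯 ≤ 𝔮.comap (algebraMap A C))
    (hunit : ∀ a : A, a ∉ 𝔯 → IsUnit (algebraMap A S a))
    (htors : ∀ j : 𝓛.Q A, algebraMap (𝓛.Q A) B j = 0 →
      ∃ a : A, a ∉ 𝔯 ∧ a • j ∈ 𝔯.map (algebraMap A (𝓛.Q A)))
    [Module.Flat A M]
    (hfib : Module.Flat (S ⧸ (𝔯.map (algebraMap A (𝓛.Q A))).map (algebraMap (𝓛.Q A) S))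
      ((S ⧸ (𝔯.map (algebraMap A (𝓛.Q A))).map (algebraMap (𝓛.Q A) S)) ⊗[S] M)) :
    Module.Flat S M := by
  have tAQC : IsScalarTower A (𝓛.Q A) C := IsScalarTower.of_algebraMap_eq fun a => by
    rw [IsScalarTower.algebraMap_apply A B C, IsScalarTower.algebraMap_apply A (𝓛.Q A) B,
      ← IsScalarTower.algebraMap_apply (𝓛.Q A) B C]
  have hfp : Algebra.FinitePresentation (𝓛.Q A) C :=
    Algebra.FinitePresentation.of_restrict_scalars_finitePresentation A (𝓛.Q A) C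
  have tQCM : IsScalarTower (𝓛.Q A) C M := IsScalarTower.of_algebraMap_smul fun q m => by
    rw [IsScalarTower.algebraMap_apply (𝓛.Q A) B C, algebraMap_smul, algebraMap_smul]
  have tACM : IsScalarTower A C M := IsScalarTower.of_algebraMap_smul fun a m => by
    rw [IsScalarTower.algebraMap_apply A (𝓛.Q A) C, algebraMap_smul, algebraMap_smul]
  have tQSM : IsScalarTower (𝓛.Q A) S M := IsScalarTower.of_algebraMap_smul fun q m => by
    rw [IsScalarTower.algebraMap_apply (𝓛.Q A) B S, algebraMap_smul, algebraMap_smul]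
  have hLocE : Module.Flat (𝓛.Q A ⧸ 𝔯.map (algebraMap A (𝓛.Q A)))
      (S ⧸ (𝔯.map (algebraMap A (𝓛.Q A))).map (algebraMap (𝓛.Q A) S)) :=
    flat_quotient_of_torsion_ker hsurj 𝔭 𝔯 hunit htors
  have h2 : Module.Flat (𝓛.Q A ⧸ 𝔯.map (algebraMap A (𝓛.Q A)))
      ((𝓛.Q A ⧸ 𝔯.map (algebraMap A (𝓛.Q A))) ⊗[𝓛.Q A] M) :=
    flat_quotient_tensor_of_flat (R₁ := 𝓛.Q A) (R₂ := S) (𝔯.map (algebraMap A (𝓛.Q A))) (M := M)
  have hQ : Module.Flat (𝓛.Q A) M :=
    𝓛.flat_of_flat_fibre_fp A C N M 𝔮 ι 𝔯 h𝔯 inferInstance h2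
  have hB : Module.Flat B M := flat_of_surjective_of_flat hsurj
  exact (Module.flat_iff_of_isLocalization S 𝔭.primeCompl M).mpr hB

end L1

end Groth.Agent.H1.FibreCrit
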