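import Mathlib
import Groth.Agent.H1.FibreCritFTAux
import Groth.Agent.H1.FibreCritFT
import Groth.Agent.H2.FFlatDescent

set_option autoImplicit false
set_option linter.unusedSectionVars false

/-!
# The non-Noetherian fibrewise criterion of flatness (local form)
-/

namespace Groth.Agent.H1.FibreCrit

universe u

open TensorProduct Groth.Agent.H1.FlatLocus

section main

variable {A B C : Type u} [CommRing A] [CommRing B] [CommRing C] [Algebra A B] [Algebra B C]
  [Algebra A C] [IsScalarTower A B C] [Algebra.FiniteType A B] [Algebra.FinitePresentation A C]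
  {N : Type u} [AddCommGroup N] [Module C N] [Module.FinitePresentation C N]
  (𝔮 : Ideal C) [𝔮.IsPrime] (𝔭 : Ideal B) [𝔭.IsPrime] (h𝔭 : 𝔭 = 𝔮.comap (algebraMap B C))
  (𝔯 : Ideal A) [𝔯.IsPrime] (h𝔯 : 𝔯 = 𝔭.comap (algebraMap A B))
  {R S S' M : Type u} [CommRing R] [CommRing S] [CommRing S'] [IsLocalRing R] [IsLocalRing S]
  [IsLocalRing S'] [Algebra R S] [Algebra S S'] [Algebra A R] [Algebra B S] [Algebra C S']
  [IsLocalization.AtPrime R 𝔯] [IsLocalization.AtPrime S 𝔭] [IsLocalization.AtPrime S' 𝔮]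
  (hRS : ∀ a : A, algebraMap R S (algebraMap A R a) = algebraMap B S (algebraMap A B a))
  (hSS' : ∀ b : B, algebraMap S S' (algebraMap B S b) = algebraMap C S' (algebraMap B C b))
  [AddCommGroup M] [Module S' M] [Module S M] [Module R M] [IsScalarTower S S' M]
  [IsScalarTower R S M] [Module C M] [IsScalarTower C S' M]
  (ι : N →ₗ[C] M) [IsLocalizedModule 𝔮.primeCompl ι]

include h𝔭 h𝔯 hRS hSS' ι in
/-- **Fibrewise criterion of flatness, non-Noetherian local form, first part**: `A → B → C` with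
`B` of finite type and `C` of finite presentation over `A`, `N` a finitely presented `C`-module;
`R = A_𝔯 → S = B_𝔭 → S' = C_𝔮` and `M = N_𝔮`.  If `M` is flat over `R` and `M/𝔪_R M` is flat over
`S/𝔪_R S`, then `M` is flat over `S`. -/
theorem flat_of_flat_fibre_of_isLocalization [Module.Flat R M]
    (h : Module.Flat (S ⧸ (IsLocalRing.maximalIdeal R).map (algebraMap R S))
      ((S ⧸ (IsLocalRing.maximalIdeal R).map (algebraMap R S)) ⊗[S] M)) :
    Module.Flat S M := by
  classical
  -- a presentation of `B`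
  obtain ⟨r, π, hπ⟩ := Algebra.FiniteType.iff_quotient_mvPolynomial''.mp
    (inferInstance : Algebra.FiniteType A B)
  set J : Ideal (MvPolynomial (Fin r) A) := RingHom.ker π.toRingHom with hJ
  obtain ⟨F, hFJ, hF⟩ := exists_finset_fibre_gen 𝔯 J
  -- enumerate `F`
  set a := F.card with ha
  let f : Fin a → MvPolynomial (Fin r) A := fun i => (F.equivFin.symm i : MvPolynomial (Fin r) A)
  have hfrange : Set.range f = (↑F : Set (MvPolynomial (Fin r) A)) := by
    ext x
    constructor
    · rintro ⟨i, rfl⟩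
      exact (F.equivFin.symm i).2
    · intro hx
      exact ⟨F.equivFin ⟨x, hx⟩, by simp [f]⟩
  -- the ring of coefficients
  let T : Finset A := Finset.univ.biUnion (fun i : Fin a => (f i).coeffs)
  let Z₀ : Subalgebra ℤ A := Algebra.adjoin ℤ (T : Set A)
  have hZ₀ft : Algebra.FiniteType ℤ Z₀ := (Subalgebra.fg_iff_finiteType Z₀).mp ⟨T, rfl⟩
  have hZ₀noeth : IsNoetherianRing Z₀ := Algebra.FiniteType.isNoetherianRing ℤ Z₀
  have hlift : ∀ i, ∃ f' : MvPolynomial (Fin r) Z₀,
      MvPolynomial.map (algebraMap Z₀ A) f' = f i := by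
    intro i
    refine MvPolynomial.mem_range_map_iff_coeffs_subset.mpr (fun c hc => ?_)
    exact ⟨⟨c, Algebra.subset_adjoin (Finset.mem_coe.mpr
      (Finset.mem_biUnion.mpr ⟨i, Finset.mem_univ i, hc⟩))⟩, rfl⟩
  choose f₀ hf₀ using hlift
  let 𝓛 : L1 Z₀ := ⟨r, a, f₀⟩
  have hfC : ∀ i, 𝓛.fC A i = f i := fun i => hf₀ i
  have hI : 𝓛.I A = Ideal.span (↑F : Set (MvPolynomial (Fin r) A)) := by
    rw [L1.I, ← hfrange]
    congr 2
    funext i
    exact hfC i
  -- the algebra structures
  have hπF : ∀ i, π.toRingHom (𝓛.fC A i) = 0 := by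
    intro i
    rw [hfC]
    have : f i ∈ J := hFJ (by rw [← hfrange]; exact ⟨i, rfl⟩)
    exact this
  let _ : Algebra (𝓛.Q A) B := (𝓛.lift A π.toRingHom hπF).toAlgebra
  have hQB : ∀ p, algebraMap (𝓛.Q A) B (𝓛.qmk A p) = π p := fun p => rfl
  have tAQB : IsScalarTower A (𝓛.Q A) B := IsScalarTower.of_algebraMap_eq fun x => by
    rw [L1.algebraMap_def, hQB, Algebra.algebraMap_self_apply]
    exact (π.commutes x).symm
  have hsurj : Function.Surjective (algebraMap (𝓛.Q A) B) := by
    intro b
    obtain ⟨p, rfl⟩ := hπ b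
    exact ⟨𝓛.qmk A p, rfl⟩
  let _ : Algebra (𝓛.Q A) C := ((algebraMap B C).comp (algebraMap (𝓛.Q A) B)).toAlgebra
  have tQBC : IsScalarTower (𝓛.Q A) B C := IsScalarTower.of_algebraMap_eq fun x => rfl
  let _ : Algebra (𝓛.Q A) S := ((algebraMap B S).comp (algebraMap (𝓛.Q A) B)).toAlgebra
  have tQBS : IsScalarTower (𝓛.Q A) B S := IsScalarTower.of_algebraMap_eq fun x => rfl
  let _ : Algebra A S := ((algebraMap B S).comp (algebraMap A B)).toAlgebra
  have tABS : IsScalarTower A B S := IsScalarTower.of_algebraMap_eq fun x => rfl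
  have tAQS : IsScalarTower A (𝓛.Q A) S := IsScalarTower.of_algebraMap_eq fun x => by
    rw [IsScalarTower.algebraMap_apply A B S, IsScalarTower.algebraMap_apply A (𝓛.Q A) B,
      ← IsScalarTower.algebraMap_apply (𝓛.Q A) B S]
  -- the module structures
  let _ : Module B M := Module.compHom M (algebraMap B C)
  let _ : Module (𝓛.Q A) M := Module.compHom M (algebraMap (𝓛.Q A) C)
  let _ : Module A M := Module.compHom M (algebraMap A C)
  have tBCM : IsScalarTower B C M := IsScalarTower.of_algebraMap_smul fun b m => rfl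
  have tQBM : IsScalarTower (𝓛.Q A) B M := IsScalarTower.of_algebraMap_smul fun q m => rfl
  have tAQM : IsScalarTower A (𝓛.Q A) M := IsScalarTower.of_algebraMap_smul fun x m => by
    change algebraMap (𝓛.Q A) C (algebraMap A (𝓛.Q A) x) • m = algebraMap A C x • m
    rw [IsScalarTower.algebraMap_apply (𝓛.Q A) B C, ← IsScalarTower.algebraMap_apply A (𝓛.Q A) B,
      ← IsScalarTower.algebraMap_apply A B C]
  have tBSM : IsScalarTower B S M := IsScalarTower.of_algebraMap_smul fun b m => by
    change algebraMap B S b • m = algebraMap B C b • m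
    rw [← algebraMap_smul S' (algebraMap B S b) m, hSS', algebraMap_smul]
  have tARM : IsScalarTower A R M := IsScalarTower.of_algebraMap_smul fun x m => by
    change algebraMap A R x • m = algebraMap A C x • m
    rw [← algebraMap_smul S (algebraMap A R x) m, hRS, algebraMap_smul,
      IsScalarTower.algebraMap_apply A B C]
    rfl
  -- flatness over `A`
  have hAR : Module.Flat A R := IsLocalization.flat R 𝔯.primeCompl
  have hAM : Module.Flat A M := Module.Flat.trans A R M
  -- units
  have hunit : ∀ x : A, x ∉ 𝔯 → IsUnit (algebraMap A S x) := by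
    intro x hx
    rw [IsScalarTower.algebraMap_apply A B S]
    have hx' : algebraMap A B x ∈ 𝔭.primeCompl := by
      intro hmem
      apply hx
      rw [h𝔯]
      exact hmem
    exact IsLocalization.map_units S ⟨_, hx'⟩
  -- torsion of the kernel
  have htors : ∀ j : 𝓛.Q A, algebraMap (𝓛.Q A) B j = 0 →
      ∃ x : A, x ∉ 𝔯 ∧ x • j ∈ 𝔯.map (algebraMap A (𝓛.Q A)) := by
    intro j hj
    obtain ⟨p, rfl⟩ := 𝓛.qmk_surjective A j
    have hpJ : p ∈ J := hj
    obtain ⟨x, hx, hxp⟩ := hF p hpJ
    refine ⟨x, hx, ?_⟩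
    have h1 : x • 𝓛.qmk A p = 𝓛.qmk A (MvPolynomial.C x * p) := by
      rw [Algebra.smul_def, map_mul]
      rfl
    rw [h1]
    obtain ⟨y, hy, z, hz, hyz⟩ := Submodule.mem_sup.mp hxp
    rw [← hyz, map_add]
    have hy0 : 𝓛.qmk A y = 0 := by
      rw [𝓛.qmk_eq_zero_iff, hI]
      exact hy
    rw [hy0, zero_add]
    have hmm : 𝔯.map (algebraMap A (𝓛.Q A)) =
        (𝔯.map (MvPolynomial.C : A →+* MvPolynomial (Fin r) A)).map (𝓛.qmk A) := by
      rw [Ideal.map_map]
      rfl
    rw [hmm]
    exact Ideal.mem_map_of_mem _ hz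
  -- the contraction
  have h𝔯' : 𝔯 ≤ 𝔮.comap (algebraMap A C) := by
    intro x hx
    rw [Ideal.mem_comap, IsScalarTower.algebraMap_apply A B C]
    rw [h𝔯, h𝔭] at hx
    exact hx
  -- the fibre hypothesis
  have hideal : (IsLocalRing.maximalIdeal R).map (algebraMap R S) =
      (𝔯.map (algebraMap A (𝓛.Q A))).map (algebraMap (𝓛.Q A) S) := by
    rw [← IsLocalization.AtPrime.map_eq_maximalIdeal 𝔯 R, Ideal.map_map, Ideal.map_map]
    congr 1
    ext x
    rw [RingHom.comp_apply, RingHom.comp_apply, hRS, ← IsScalarTower.algebraMap_apply A B S,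
      ← IsScalarTower.algebraMap_apply A (𝓛.Q A) S]
  have hfib : Module.Flat (S ⧸ (𝔯.map (algebraMap A (𝓛.Q A))).map (algebraMap (𝓛.Q A) S))
      ((S ⧸ (𝔯.map (algebraMap A (𝓛.Q A))).map (algebraMap (𝓛.Q A) S)) ⊗[S] M) := by
    rw [← hideal]
    exact h
  exact 𝓛.flat_of_flat_fibre_ft_aux A B C S hsurj N M 𝔮 ι 𝔭 𝔯 h𝔯' hunit htors hfib

include h𝔭 h𝔯 hRS hSS' ι in
/-- **Fibrewise criterion of flatness, non-Noetherian local form, second part**: in the situation
of `flat_of_flat_fibre_of_isLocalization`, if moreover `M ≠ 0`, then `S` is flat over `R`. -/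
theorem flat_base_of_flat_fibre_of_isLocalization [IsLocalHom (algebraMap S S')] [Nontrivial M]
    [Module.Flat R M]
    (h : Module.Flat (S ⧸ (IsLocalRing.maximalIdeal R).map (algebraMap R S))
      ((S ⧸ (IsLocalRing.maximalIdeal R).map (algebraMap R S)) ⊗[S] M)) :
    Module.Flat R S := by
  have hflatS : Module.Flat S M :=
    flat_of_flat_fibre_of_isLocalization 𝔮 𝔭 h𝔭 𝔯 h𝔯 hRS hSS' ι h
  have hfinN : Module.Finite C N := inferInstance
  have hfin : Module.Finite S' M := Module.Finite.of_isLocalizedModule 𝔮.primeCompl ι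
  have hSS'le : (IsLocalRing.maximalIdeal S).map (algebraMap S S') ≤ IsLocalRing.maximalIdeal S' :=
    ((IsLocalRing.local_hom_TFAE (algebraMap S S')).out 0 2).mp ‹_›
  have hjac : Ideal.jacobson (⊥ : Ideal S') = IsLocalRing.maximalIdeal S' :=
    IsLocalRing.jacobson_eq_maximalIdeal ⊥ bot_ne_top
  have hff : Module.FaithfullyFlat S M := by
    refine ⟨fun m hm htop => ?_⟩
    have hm' : m = IsLocalRing.maximalIdeal S := IsLocalRing.eq_maximalIdeal hm
    subst hm'
    have htop' : (⊤ : Submodule S' M) ≤ IsLocalRing.maximalIdeal S' • (⊤ : Submodule S' M) := by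
      intro x _
      have hx : x ∈ IsLocalRing.maximalIdeal S • (⊤ : Submodule S M) := by rw [htop]; trivial
      refine Submodule.smul_induction_on hx ?_ ?_
      · intro s hs y _
        rw [← algebraMap_smul S' s y]
        exact Submodule.smul_mem_smul (hSS'le (Ideal.mem_map_of_mem _ hs)) trivial
      · intro y z hy hz
        exact Submodule.add_mem _ hy hz
    have hbot : (⊤ : Submodule S' M) = ⊥ :=
      Submodule.eq_bot_of_le_smul_of_le_jacobson_bot (IsLocalRing.maximalIdeal S') ⊤
        Module.Finite.fg_top htop' (by rw [hjac])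
    exact top_ne_bot hbot
  exact Groth.Agent.H2.flat_of_faithfullyFlat_module R S M

end main

end Groth.Agent.H1.FibreCrit
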