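import Mathlib
import Groth.Agent.H24.FPDescent
import Groth.Agent.H11.FPLift
import Groth.Agent.H1.FibreCritMain

set_option autoImplicit false

namespace Groth.Agent.H1.EssFPCrit

universe u

open TensorProduct

/-- A local ring which is a localization of `B` is the localization of `B` at the contraction of
its maximal ideal. -/
theorem isLocalization_atPrime_of_isLocalRing {B S : Type*} [CommRing B] [CommRing S]
    [Algebra B S] (T : Submonoid B) [IsLocalization T S] [IsLocalRing S]
    (𝔭 : Ideal B) [𝔭.IsPrime]
    (h𝔭 : 𝔭 = (IsLocalRing.maximalIdeal S).comap (algebraMap B S)) :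
    IsLocalization.AtPrime S 𝔭 := by
  refine IsLocalization.of_le T 𝔭.primeCompl ?_ ?_
  · intro t ht
    change t ∉ 𝔭
    rw [h𝔭, Ideal.mem_comap]
    intro hmem
    exact (IsLocalRing.mem_maximalIdeal _).mp hmem (IsLocalization.map_units S ⟨t, ht⟩)
  · intro r hr
    by_contra hunit
    apply hr
    change r ∈ 𝔭
    rw [h𝔭, Ideal.mem_comap]
    exact (IsLocalRing.mem_maximalIdeal _).mpr hunit

/-- A finitely presented module over a localization `S'` of `C` is the localization of a finitely
presented `C`-module. -/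
theorem exists_fp_model_of_isLocalization {C : Type u} [CommRing C] (W : Submonoid C)
    {S' : Type u} [CommRing S'] [Algebra C S'] [IsLocalization W S']
    (M : Type u) [AddCommGroup M] [Module S' M] [Module C M] [IsScalarTower C S' M]
    [Module.FinitePresentation S' M] :
    ∃ (N : Type u) (_ : AddCommGroup N) (_ : Module C N) (_ : Module.FinitePresentation C N)
      (ι : N →ₗ[C] M), IsLocalizedModule W ι := by
  classical
  obtain ⟨n, K, e, hK⟩ := Module.FinitePresentation.exists_fin S' M
  obtain ⟨s, hs⟩ := hK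
  let T : Finset S' := s.biUnion fun v => Finset.univ.image fun a => v a
  obtain ⟨b, hb⟩ := IsLocalization.exist_integer_multiples_of_finset W T
  have hbunit : IsUnit (algebraMap C S' b) := IsLocalization.map_units S' b
  let s' : Finset (Fin n → S') := s.image fun v => (algebraMap C S' b) • v
  have hs' : Submodule.span S' (s' : Set (Fin n → S')) = K := by
    rw [← hs]
    apply le_antisymm
    · rw [Submodule.span_le]
      intro w hw
      simp only [s', Finset.coe_image, Set.mem_image] at hw
      obtain ⟨v, hv, rfl⟩ := hw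
      exact Submodule.smul_mem _ _ (Submodule.subset_span hv)
    · rw [Submodule.span_le]
      intro v hv
      obtain ⟨c, hc⟩ := hbunit.exists_left_inv
      have : v = c • ((algebraMap C S' b) • v) := by
        rw [smul_smul, hc, one_smul]
      rw [this]
      refine Submodule.smul_mem _ _ (Submodule.subset_span ?_)
      simp only [s', Finset.coe_image, Set.mem_image]
      exact ⟨v, hv, rfl⟩
  have hint : ∀ (w : s') (a : Fin n), ∃ r : C, algebraMap C S' r = w.1 a := by
    intro w a
    obtain ⟨v, hv, hvw⟩ := Finset.mem_image.mp w.2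
    have hmem : v a ∈ T := by
      simp only [T, Finset.mem_biUnion, Finset.mem_image, Finset.mem_univ, true_and]
      exact ⟨v, hv, a, rfl⟩
    obtain ⟨r, hr⟩ := hb (v a) hmem
    refine ⟨r, ?_⟩
    rw [hr, ← hvw, Pi.smul_apply, Algebra.smul_def, smul_eq_mul]
  choose ρ hρ using hint
  obtain ⟨hfp, ⟨e'⟩⟩ := Groth.Agent.H24.exists_equiv_tensor_of_lift (R := C) K e s' hs' ρ hρ
  set N := (Fin n → C) ⧸ LinearMap.range (Fintype.linearCombination C ρ) with hN
  let ι : N →ₗ[C] M := (e'.symm.restrictScalars C).toLinearMap ∘ₗ (TensorProduct.mk C S' N 1)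
  refine ⟨N, inferInstance, inferInstance, hfp, ι, ?_⟩
  rw [isLocalizedModule_iff_isBaseChange W S']
  exact IsBaseChange.of_equiv e'.symm (fun x => rfl)

open Groth.Agent.H1.FibreCrit in
/-- **Fibrewise criterion of flatness for local rings essentially of finite presentation**
(tensor form of the fibre hypothesis). -/
theorem flat_of_essFP {R S S' M : Type u} [CommRing R] [CommRing S] [CommRing S']
    [IsLocalRing R] [IsLocalRing S] [IsLocalRing S'] [Algebra R S] [Algebra S S'] [Algebra R S']
    [IsScalarTower R S S'] [IsLocalHom (algebraMap R S)] [IsLocalHom (algebraMap S S')]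
    (S₀ : Type u) [CommRing S₀] [Algebra R S₀] [Algebra S₀ S] [IsScalarTower R S₀ S]
    (T : Submonoid S₀) [Algebra.FinitePresentation R S₀] [IsLocalization T S]
    (S'₀ : Type u) [CommRing S'₀] [Algebra R S'₀] [Algebra S'₀ S'] [IsScalarTower R S'₀ S']
    (T' : Submonoid S'₀) [Algebra.FinitePresentation R S'₀] [IsLocalization T' S']
    [AddCommGroup M] [Module S' M] [Module S M] [Module R M] [IsScalarTower S S' M]
    [IsScalarTower R S M] [Module.FinitePresentation S' M] [Nontrivial M] [Module.Flat R M]
    (hfib : Module.Flat (S ⧸ (IsLocalRing.maximalIdeal R).map (algebraMap R S))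
      ((S ⧸ (IsLocalRing.maximalIdeal R).map (algebraMap R S)) ⊗[S] M)) :
    Module.Flat R S ∧ Module.Flat S M := by
  classical
  let ψ : S₀ →ₐ[R] S' := (IsScalarTower.toAlgHom R S S').comp (IsScalarTower.toAlgHom R S₀ S)
  obtain ⟨t, ht, ψ', hψ'⟩ := Groth.Agent.H11.FPLift.exists_lift (R := R) (S := S₀) (T := S'₀)
    (L := S') T' ψ
  have hfpC : Algebra.FinitePresentation S'₀ (Localization.Away t) :=
    IsLocalization.Away.finitePresentation t
  have : Algebra.FinitePresentation R (Localization.Away t) :=
    Algebra.FinitePresentation.trans R S'₀ (Localization.Away t)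
  let _ : Algebra S₀ (Localization.Away t) := ψ'.toRingHom.toAlgebra
  have : IsScalarTower R S₀ (Localization.Away t) :=
    IsScalarTower.of_algebraMap_eq (fun r => (ψ'.commutes r).symm)
  let κ : Localization.Away t →ₐ[R] S' := Groth.Agent.H11.FPLift.can (R := R) (L := S') T' t ht
  let _ : Algebra (Localization.Away t) S' := κ.toRingHom.toAlgebra
  have : IsScalarTower S'₀ (Localization.Away t) S' :=
    IsScalarTower.of_algebraMap_eq (fun x =>
      (Groth.Agent.H11.FPLift.can_algebraMap (R := R) (L := S') T' t ht x).symm)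
  have hloc : IsLocalization (T'.map (algebraMap S'₀ (Localization.Away t))) S' :=
    IsLocalization.isLocalization_of_submonoid_le (Localization.Away t) S' (Submonoid.powers t) T'
      (Submonoid.powers_le.mpr ht)
  let 𝔮 : Ideal (Localization.Away t) :=
    (IsLocalRing.maximalIdeal S').comap (algebraMap (Localization.Away t) S')
  have h𝔮prime : 𝔮.IsPrime := Ideal.comap_isPrime _ _
  have hS'loc : IsLocalization.AtPrime S' 𝔮 :=
    isLocalization_atPrime_of_isLocalRing (T'.map (algebraMap S'₀ (Localization.Away t))) 𝔮 rfl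
  let 𝔭 : Ideal S₀ := 𝔮.comap (algebraMap S₀ (Localization.Away t))
  have h𝔭prime : 𝔭.IsPrime := Ideal.comap_isPrime _ _
  have hκψ : ∀ b : S₀, algebraMap (Localization.Away t) S' (algebraMap S₀ (Localization.Away t) b)
      = algebraMap S S' (algebraMap S₀ S b) := fun b => hψ' b
  have hmS : (IsLocalRing.maximalIdeal S').comap (algebraMap S S') = IsLocalRing.maximalIdeal S :=
    ((IsLocalRing.local_hom_TFAE (algebraMap S S')).out 0 4).mp (inferInstance : IsLocalHom (algebraMap S S'))
  have h𝔭eq : 𝔭 = (IsLocalRing.maximalIdeal S).comap (algebraMap S₀ S) := by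
    ext b
    simp only [𝔭, 𝔮, Ideal.mem_comap]
    rw [hκψ b, ← hmS, Ideal.mem_comap]
  have hSloc : IsLocalization.AtPrime S 𝔭 := isLocalization_atPrime_of_isLocalRing T 𝔭 h𝔭eq
  let 𝔯 : Ideal R := 𝔭.comap (algebraMap R S₀)
  have h𝔯prime : 𝔯.IsPrime := Ideal.comap_isPrime _ _
  have hmR : (IsLocalRing.maximalIdeal S).comap (algebraMap R S) = IsLocalRing.maximalIdeal R :=
    ((IsLocalRing.local_hom_TFAE (algebraMap R S)).out 0 4).mp (inferInstance : IsLocalHom (algebraMap R S))
  have h𝔯eq : 𝔯 = IsLocalRing.maximalIdeal R := by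
    ext a
    simp only [𝔯, Ideal.mem_comap]
    rw [h𝔭eq, Ideal.mem_comap, ← IsScalarTower.algebraMap_apply, ← hmR, Ideal.mem_comap]
  have hRloc : IsLocalization.AtPrime R 𝔯 := by
    refine IsLocalization.of_le_isUnit ?_
    intro r hr
    change r ∉ 𝔯 at hr
    rw [h𝔯eq] at hr
    by_contra hunit
    exact hr ((IsLocalRing.mem_maximalIdeal _).mpr hunit)
  let _ : Module (Localization.Away t) M := Module.compHom M (algebraMap (Localization.Away t) S')
  have : IsScalarTower (Localization.Away t) S' M :=
    IsScalarTower.of_algebraMap_smul (fun r x => rfl)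
  obtain ⟨N, _, _, _, ι, hι⟩ := exists_fp_model_of_isLocalization 𝔮.primeCompl (S' := S') M
  have hRS : ∀ a : R, algebraMap R S (algebraMap R R a) = algebraMap S₀ S (algebraMap R S₀ a) :=
    fun a => by rw [Algebra.algebraMap_self_apply, ← IsScalarTower.algebraMap_apply]
  have hSS' : ∀ b : S₀, algebraMap S S' (algebraMap S₀ S b)
      = algebraMap (Localization.Away t) S' (algebraMap S₀ (Localization.Away t) b) :=
    fun b => (hκψ b).symm
  refine ⟨?_, ?_⟩
  · exact flat_base_of_flat_fibre_of_isLocalization (A := R) (B := S₀) (C := Localization.Away t)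
      (N := N) 𝔮 𝔭 rfl 𝔯 rfl hRS hSS' ι hfib
  · exact flat_of_flat_fibre_of_isLocalization (A := R) (B := S₀) (C := Localization.Away t)
      (N := N) 𝔮 𝔭 rfl 𝔯 rfl hRS hSS' ι hfib

end Groth.Agent.H1.EssFPCrit
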