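import Mathlib

set_option autoImplicit false

/-!
# Faithful flatness of sections of a flat morphism covering an affine open
-/

namespace Groth.Agent.H1.FFAppLE

universe u

open AlgebraicGeometry CategoryTheory

/-- Every prime of the sections over an affine open is `primeIdealOf` of a point. -/
theorem primeIdealOf_surjective {X : Scheme.{u}} {U : X.Opens} (hU : IsAffineOpen U) :
    Function.Surjective hU.primeIdealOf := by
  intro p
  refine ⟨hU.isoSpec.inv p, ?_⟩
  change hU.isoSpec.hom (hU.isoSpec.inv p) = p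
  rw [← Scheme.Hom.comp_apply, Iso.inv_hom_id]
  rfl

/-- If `f` is flat and the affine open `U'` of `X` maps onto the affine open `W` of `Y`, then
`Γ(X, U')` is faithfully flat over `Γ(Y, W)`. -/
theorem faithfullyFlat_appLE {X Y : Scheme.{u}} (f : X ⟶ Y) [Flat f] {W : Y.Opens}
    (hW : IsAffineOpen W) {U' : X.Opens} (hU' : IsAffineOpen U') (e : U' ≤ f ⁻¹ᵁ W)
    (hsurj : (W : Set Y) ⊆ f '' (U' : Set X)) :
    letI := (f.appLE W U' e).hom.toAlgebra
    Module.FaithfullyFlat Γ(Y, W) Γ(X, U') := by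
  let _ := (f.appLE W U' e).hom.toAlgebra
  have hflat : Module.Flat Γ(Y, W) Γ(X, U') :=
    HasRingHomProperty.appLE @Flat f inferInstance ⟨W, hW⟩ ⟨U', hU'⟩ e
  refine Module.FaithfullyFlat.of_comap_surjective fun p => ?_
  obtain ⟨⟨w, hw⟩, rfl⟩ := primeIdealOf_surjective hW p
  obtain ⟨u, hu, rfl⟩ := hsurj hw
  refine ⟨hU'.primeIdealOf ⟨u, hu⟩, ?_⟩
  exact IsAffineOpen.comap_primeIdealOf_appLE W hW U' hU' e hu

end Groth.Agent.H1.FFAppLE
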