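import Mathlib

set_option autoImplicit false

/-!
# Descent of surjectivity along a faithfully flat algebra
-/

namespace Groth.Agent.H1.FFDescent

universe u

open TensorProduct

variable {A₀ D A B₀ : Type*} [CommRing A₀] [CommRing D] [CommRing A] [CommRing B₀]
  [Algebra A₀ D] [Algebra A₀ A] [Algebra A₀ B₀]

/-- Surjectivity of a linear map can be checked after tensoring (on the right) with a faithfully
flat module. -/
theorem surjective_of_rTensor_surjective {N N' M : Type*} [AddCommGroup N] [AddCommGroup N']
    [AddCommGroup M] [Module A₀ N] [Module A₀ N'] [Module A₀ M] [Module.FaithfullyFlat A₀ M]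
    (f : N →ₗ[A₀] N') (h : Function.Surjective (f.rTensor M)) : Function.Surjective f := by
  rw [← Module.FaithfullyFlat.lTensor_surjective_iff_surjective A₀ M,
    ← LinearMap.comm_comp_rTensor_comp_comm_eq]
  exact (TensorProduct.comm A₀ N' M).surjective.comp
    (h.comp (TensorProduct.comm A₀ M N).surjective)

/-- Surjectivity of an algebra map can be checked after base change along a faithfully flat
algebra. -/
theorem surjective_of_map_surjective [Module.FaithfullyFlat A₀ B₀] (f : D →ₐ[A₀] A)
    (h : Function.Surjective (Algebra.TensorProduct.map f (AlgHom.id A₀ B₀))) :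
    Function.Surjective f := by
  apply surjective_of_rTensor_surjective (M := B₀) f.toLinearMap
  intro x
  obtain ⟨y, rfl⟩ := h x
  refine ⟨y, ?_⟩
  induction y with
  | zero => simp
  | tmul a b => simp
  | add a b ha hb => simp only [map_add, ha, hb]

end Groth.Agent.H1.FFDescent
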