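import Mathlib

set_option autoImplicit false

/-!
# Flatness of the fibre ring map from a commutative square of quotients
-/

namespace Groth.Agent.H1.FibreCrit

universe u

open TensorProduct

/-- Let `S₁ → S'` be an algebra, `a₁ : S₁ → E` and `b : S' → E'` surjective ring homomorphisms
with `ker b = (ker a₁) S'`, and `φ : E → E'` a flat ring homomorphism compatible with `S₁ → S'`.
Then `S'/I S'` is flat over `S₁/I`, in tensor form, for `I = ker a₁`. -/
theorem flat_quotient_tensor_of_square {S₁ S' E E' : Type u} [CommRing S₁] [CommRing S']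
    [CommRing E] [CommRing E'] [Algebra S₁ S'] (I : Ideal S₁)
    (a₁ : S₁ →+* E) (b : S' →+* E') (φ : E →+* E')
    (ha : Function.Surjective a₁) (hb : Function.Surjective b)
    (hka : RingHom.ker a₁ = I) (hkb : RingHom.ker b = I.map (algebraMap S₁ S'))
    (hcomm : ∀ x : S₁, φ (a₁ x) = b (algebraMap S₁ S' x)) (hφ : φ.Flat) :
    Module.Flat (S₁ ⧸ I) ((S₁ ⧸ I) ⊗[S₁] S') := by
  subst hka
  let e₁ : (S₁ ⧸ RingHom.ker a₁) ≃+* E := RingHom.quotientKerEquivOfSurjective ha
  let e₂ : (S' ⧸ (RingHom.ker a₁).map (algebraMap S₁ S')) ≃+* E' :=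
    (Ideal.quotEquivOfEq hkb.symm).trans (RingHom.quotientKerEquivOfSurjective hb)
  have he₁ : ∀ x, e₁ (Ideal.Quotient.mk _ x) = a₁ x := fun x => rfl
  have he₂ : ∀ x, e₂ (Ideal.Quotient.mk _ x) = b x := fun x => rfl
  have heq : algebraMap (S₁ ⧸ RingHom.ker a₁) (S' ⧸ (RingHom.ker a₁).map (algebraMap S₁ S')) =
      e₂.symm.toRingHom.comp (φ.comp e₁.toRingHom) := by
    refine Ideal.Quotient.ringHom_ext (RingHom.ext fun x => ?_)
    simp only [RingHom.comp_apply, RingEquiv.toRingHom_eq_coe, RingEquiv.coe_toRingHom]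
    rw [he₁, hcomm, ← he₂, RingEquiv.symm_apply_apply]
    rfl
  have h1 : (algebraMap (S₁ ⧸ RingHom.ker a₁)
      (S' ⧸ (RingHom.ker a₁).map (algebraMap S₁ S'))).Flat := by
    rw [heq]
    exact RingHom.Flat.respectsIso.1 _ e₂.symm (RingHom.Flat.respectsIso.2 _ e₁ hφ)
  have h2 : Module.Flat (S₁ ⧸ RingHom.ker a₁)
      (S' ⧸ (RingHom.ker a₁).map (algebraMap S₁ S')) := RingHom.flat_algebraMap_iff.mp h1
  exact (Module.Flat.equiv_iff
    (Algebra.TensorProduct.quotIdealMapEquivQuotTensor S' (RingHom.ker a₁)).toLinearEquiv).mp h2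

end Groth.Agent.H1.FibreCrit
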