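import Mathlib
import Groth.Prelude.Def_MoreMor
import Groth.Agent.H49.FibreStalk
import Groth.Agent.H1.FibreCritSQ

set_option autoImplicit false

/-!
# The local rings of the fibres and the stalk map of the morphism of fibres
-/

namespace Groth.Agent.H1.FibreCrit

universe u

open CategoryTheory CategoryTheory.Limits AlgebraicGeometry IsLocalRing TensorProduct
open Groth.Agent.H49.FibreStalk

section transport

variable {Y S : Scheme.{u}} (g : Y ⟶ S)

/-- Transport of the fibre ideal along an equality of points. -/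
theorem comap_stalkCongr_fibreIdeal {y₂ y₁ : Y} (e : y₂ = y₁) :
    Ideal.comap (Y.presheaf.stalkCongr (.of_eq e)).hom.hom (fibreIdeal g y₁) = fibreIdeal g y₂ := by
  subst e
  have h3 : (Y.presheaf.stalkCongr (.of_eq (rfl : y₂ = y₂))).hom = 𝟙 _ := by
    rw [TopCat.Presheaf.stalkCongr_hom]
    exact TopCat.Presheaf.stalkSpecializes_refl _ _
  rw [h3]
  rfl

end transport

section fibre

variable {X Y S : Scheme.{u}} (f : X ⟶ Y) (g : Y ⟶ S) (s : S)

lemma fiberMap_fiberι :
    MoreMor.fiberMap f g s ≫ g.fiberι s = (f ≫ g).fiberι s ≫ f :=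
  pullback.lift_fst _ _ _

lemma fiberMap_fiberToSpecResidueField :
    MoreMor.fiberMap f g s ≫ g.fiberToSpecResidueField s = (f ≫ g).fiberToSpecResidueField s :=
  pullback.lift_snd _ _ _

/-- **From the fibre to the local rings**: if the morphism of fibres `X_s → Y_s` is flat at `x'`,
then `O_{X,x}/𝔪_s O_{X,x}` is flat over `O_{Y,y}/𝔪_s O_{Y,y}` (in tensor form), where `x` is the
image of `x'` in `X` and `y = f x`. -/
theorem flat_quotient_tensor_of_flat_fiberMap (x' : ((f ≫ g).fiber s : Scheme.{u}))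
    (h : ((MoreMor.fiberMap f g s).stalkMap x').hom.Flat) :
    letI := (f.stalkMap ((f ≫ g).fiberι s x')).hom.toAlgebra
    Module.Flat
      (Y.presheaf.stalk (f ((f ≫ g).fiberι s x')) ⧸ fibreIdeal g (f ((f ≫ g).fiberι s x')))
      ((Y.presheaf.stalk (f ((f ≫ g).fiberι s x')) ⧸ fibreIdeal g (f ((f ≫ g).fiberι s x')))
        ⊗[Y.presheaf.stalk (f ((f ≫ g).fiberι s x'))]
          X.presheaf.stalk ((f ≫ g).fiberι s x')) := by
  let _ : Algebra (Y.presheaf.stalk (f ((f ≫ g).fiberι s x')))
      (X.presheaf.stalk ((f ≫ g).fiberι s x')) :=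
    (f.stalkMap ((f ≫ g).fiberι s x')).hom.toAlgebra
  -- the two descriptions of the image point in `Y`
  have hpt : f ((f ≫ g).fiberι s x') = g.fiberι s (MoreMor.fiberMap f g s x') := by
    have := congrArg (fun φ : ((f ≫ g).fiber s : Scheme.{u}) ⟶ Y => φ x') (fiberMap_fiberι f g s)
    exact this.symm
  -- the comparison of stalk maps
  have hcong := Scheme.Hom.stalkMap_congr_hom ((f ≫ g).fiberι s ≫ f)
    (MoreMor.fiberMap f g s ≫ g.fiberι s) (fiberMap_fiberι f g s).symm x'
  rw [Scheme.Hom.stalkMap_comp, Scheme.Hom.stalkMap_comp] at hcong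
  -- the maps
  let a₁ : Y.presheaf.stalk (f ((f ≫ g).fiberι s x')) →+*
      (g.fiber s).presheaf.stalk (MoreMor.fiberMap f g s x') :=
    ((g.fiberι s).stalkMap (MoreMor.fiberMap f g s x')).hom.comp
      (Y.presheaf.stalkCongr (.of_eq hpt)).hom.hom
  let b : X.presheaf.stalk ((f ≫ g).fiberι s x') →+*
      ((f ≫ g).fiber s).presheaf.stalk x' :=
    (((f ≫ g).fiberι s).stalkMap x').hom
  have ha : Function.Surjective a₁ := by
    intro z
    obtain ⟨w, hw⟩ := (g.fiberι s).stalkMap_surjective (MoreMor.fiberMap f g s x') z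
    obtain ⟨v, hv⟩ := (ConcreteCategory.bijective_of_isIso
      (Y.presheaf.stalkCongr (Inseparable.of_eq hpt)).hom).2 w
    refine ⟨v, ?_⟩
    change ((g.fiberι s).stalkMap (MoreMor.fiberMap f g s x')).hom
      ((Y.presheaf.stalkCongr (Inseparable.of_eq hpt)).hom.hom v) = z
    rw [← hw]
    exact congrArg _ hv
  have hb : Function.Surjective b := ((f ≫ g).fiberι s).stalkMap_surjective x'
  have hka : RingHom.ker a₁ = fibreIdeal g (f ((f ≫ g).fiberι s x')) := by
    rw [← comap_stalkCongr_fibreIdeal g hpt,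
      ← ker_stalkMap_fiberι g s (MoreMor.fiberMap f g s x'), ← RingHom.comap_ker]
  have hkb : RingHom.ker b = (fibreIdeal g (f ((f ≫ g).fiberι s x'))).map
      (algebraMap (Y.presheaf.stalk (f ((f ≫ g).fiberι s x')))
        (X.presheaf.stalk ((f ≫ g).fiberι s x'))) := by
    change RingHom.ker (((f ≫ g).fiberι s).stalkMap x').hom =
      Ideal.map (f.stalkMap ((f ≫ g).fiberι s x')).hom
        (Ideal.map (g.stalkMap (f ((f ≫ g).fiberι s x'))).hom (maximalIdeal _))
    rw [Ideal.map_map, ker_stalkMap_fiberι (f ≫ g) s x', fibreIdeal, Scheme.Hom.stalkMap_comp]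
    rfl
  have hcomm : ∀ z : Y.presheaf.stalk (f ((f ≫ g).fiberι s x')),
      ((MoreMor.fiberMap f g s).stalkMap x').hom (a₁ z) =
        b (algebraMap (Y.presheaf.stalk (f ((f ≫ g).fiberι s x')))
          (X.presheaf.stalk ((f ≫ g).fiberι s x')) z) := by
    intro z
    have := congrArg (fun ψ => ψ.hom z) hcong
    exact this.symm
  exact flat_quotient_tensor_of_square _ a₁ b _ ha hb hka hkb hcomm h

end fibre

end Groth.Agent.H1.FibreCrit
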