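import Mathlib
import Groth.Agent.H1.FibreCritMain
import Groth.Agent.H1.FibreCritStalk

set_option autoImplicit false

/-!
# The fibrewise criterion of flatness at a point of a scheme
-/

namespace Groth.Agent.H1.FibreCrit

universe u

open CategoryTheory CategoryTheory.Limits AlgebraicGeometry IsLocalRing TensorProduct
open Groth.Agent.H49.FibreStalk

variable {X Y S : Scheme.{u}} (f : X ⟶ Y) (g : Y ⟶ S)

/-- **Fibrewise criterion of flatness at a point**: `X` locally of finite presentation over `S`,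
`Y` locally of finite type over `S`.  If `X → S` is flat at `x` and `O_{X,x}/𝔪_s O_{X,x}` is flat
over `O_{Y,y}/𝔪_s O_{Y,y}`, then `Y → S` is flat at `y = f x` and `f` is flat at `x`. -/
theorem flat_stalkMap_of_flat_fibre [LocallyOfFinitePresentation (f ≫ g)] [LocallyOfFiniteType g]
    (x : X) (h1 : ((f ≫ g).stalkMap x).hom.Flat)
    (h2 : letI := (f.stalkMap x).hom.toAlgebra
      Module.Flat (Y.presheaf.stalk (f x) ⧸ fibreIdeal g (f x))
        ((Y.presheaf.stalk (f x) ⧸ fibreIdeal g (f x)) ⊗[Y.presheaf.stalk (f x)]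
          X.presheaf.stalk x)) :
    (g.stalkMap (f x)).hom.Flat ∧ (f.stalkMap x).hom.Flat := by
  -- affine charts
  obtain ⟨W, hW, hsW, -⟩ := TopologicalSpace.Opens.isBasis_iff_nbhd.mp S.isBasis_affineOpens
    (TopologicalSpace.Opens.mem_top (g (f x)))
  obtain ⟨V, hV, hyV, hVW⟩ := TopologicalSpace.Opens.isBasis_iff_nbhd.mp Y.isBasis_affineOpens
    (show f x ∈ g ⁻¹ᵁ W from hsW)
  obtain ⟨U, hU, hxU, hUV⟩ := TopologicalSpace.Opens.isBasis_iff_nbhd.mp X.isBasis_affineOpens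
    (show x ∈ f ⁻¹ᵁ V from hyV)
  -- the global rings
  let _ : Algebra Γ(S, W) Γ(Y, V) := (g.appLE W V hVW).hom.toAlgebra
  let _ : Algebra Γ(Y, V) Γ(X, U) := (f.appLE V U hUV).hom.toAlgebra
  let _ : Algebra Γ(S, W) Γ(X, U) :=
    ((f.appLE V U hUV).hom.comp (g.appLE W V hVW).hom).toAlgebra
  have tABC : IsScalarTower Γ(S, W) Γ(Y, V) Γ(X, U) := IsScalarTower.of_algebraMap_eq fun _ => rfl
  have hft : Algebra.FiniteType Γ(S, W) Γ(Y, V) :=
    LocallyOfFiniteType.finiteType_appLE g hW hV hVW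
  have hfp : Algebra.FinitePresentation Γ(S, W) Γ(X, U) := by
    have h2 := LocallyOfFinitePresentation.finitePresentation_appLE (f ≫ g) hW hU
      (hUV.trans ((TopologicalSpace.Opens.map f.base).map (homOfLE hVW)).le)
    rw [← Scheme.Hom.appLE_comp_appLE f g W V U hVW hUV] at h2
    exact h2
  -- the local rings
  let _ : Algebra (S.presheaf.stalk (g (f x))) (Y.presheaf.stalk (f x)) :=
    (g.stalkMap (f x)).hom.toAlgebra
  let _ : Algebra (Y.presheaf.stalk (f x)) (X.presheaf.stalk x) := (f.stalkMap x).hom.toAlgebra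
  let _ : Algebra (S.presheaf.stalk (g (f x))) (X.presheaf.stalk x) :=
    ((f.stalkMap x).hom.comp (g.stalkMap (f x)).hom).toAlgebra
  have tRSS' : IsScalarTower (S.presheaf.stalk (g (f x))) (Y.presheaf.stalk (f x))
      (X.presheaf.stalk x) := IsScalarTower.of_algebraMap_eq fun _ => rfl
  have hloc1 : IsLocalHom (algebraMap (Y.presheaf.stalk (f x)) (X.presheaf.stalk x)) :=
    inferInstanceAs (IsLocalHom (f.stalkMap x).hom)
  let _ := S.presheaf.algebra_section_stalk ⟨g (f x), hsW⟩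
  let _ := Y.presheaf.algebra_section_stalk ⟨f x, hyV⟩
  let _ := X.presheaf.algebra_section_stalk ⟨x, hxU⟩
  have locR := hW.isLocalization_stalk ⟨g (f x), hsW⟩
  have locS := hV.isLocalization_stalk ⟨f x, hyV⟩
  have locS' := hU.isLocalization_stalk ⟨x, hxU⟩
  -- the primes
  have h𝔭 : (hV.primeIdealOf ⟨f x, hyV⟩).asIdeal =
      (hU.primeIdealOf ⟨x, hxU⟩).asIdeal.comap (algebraMap Γ(Y, V) Γ(X, U)) :=
    congr($(IsAffineOpen.comap_primeIdealOf_appLE V hV U hU hUV hxU).1).symm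
  have h𝔯 : (hW.primeIdealOf ⟨g (f x), hsW⟩).asIdeal =
      (hV.primeIdealOf ⟨f x, hyV⟩).asIdeal.comap (algebraMap Γ(S, W) Γ(Y, V)) :=
    congr($(IsAffineOpen.comap_primeIdealOf_appLE W hW V hV hVW hyV).1).symm
  -- compatibilities
  have hRS : ∀ a : Γ(S, W), algebraMap (S.presheaf.stalk (g (f x))) (Y.presheaf.stalk (f x))
      (algebraMap Γ(S, W) (S.presheaf.stalk (g (f x))) a) =
      algebraMap Γ(Y, V) (Y.presheaf.stalk (f x)) (algebraMap Γ(S, W) Γ(Y, V) a) := by
    intro a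
    simp only [RingHom.algebraMap_toAlgebra, Scheme.Hom.germ_stalkMap_apply, Scheme.Hom.appLE,
      homOfLE_leOfHom, CommRingCat.hom_comp, RingHom.coe_comp, Function.comp_apply,
      Y.presheaf.germ_res_apply]
  have hSS' : ∀ b : Γ(Y, V), algebraMap (Y.presheaf.stalk (f x)) (X.presheaf.stalk x)
      (algebraMap Γ(Y, V) (Y.presheaf.stalk (f x)) b) =
      algebraMap Γ(X, U) (X.presheaf.stalk x) (algebraMap Γ(Y, V) Γ(X, U) b) := by
    intro b
    simp only [RingHom.algebraMap_toAlgebra, Scheme.Hom.germ_stalkMap_apply, Scheme.Hom.appLE,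
      homOfLE_leOfHom, CommRingCat.hom_comp, RingHom.coe_comp, Function.comp_apply,
      X.presheaf.germ_res_apply]
  -- flatness over the base
  have hRM : Module.Flat (S.presheaf.stalk (g (f x))) (X.presheaf.stalk x) := by
    rw [Scheme.Hom.stalkMap_comp] at h1
    exact h1
  have hfib : Module.Flat (Y.presheaf.stalk (f x) ⧸
      (maximalIdeal (S.presheaf.stalk (g (f x)))).map
        (algebraMap (S.presheaf.stalk (g (f x))) (Y.presheaf.stalk (f x))))
      ((Y.presheaf.stalk (f x) ⧸ (maximalIdeal (S.presheaf.stalk (g (f x)))).map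
        (algebraMap (S.presheaf.stalk (g (f x))) (Y.presheaf.stalk (f x))))
          ⊗[Y.presheaf.stalk (f x)] X.presheaf.stalk x) := h2
  have hS := flat_of_flat_fibre_of_isLocalization (A := Γ(S, W)) (B := Γ(Y, V)) (C := Γ(X, U))
    (N := Γ(X, U)) (hU.primeIdealOf ⟨x, hxU⟩).asIdeal (hV.primeIdealOf ⟨f x, hyV⟩).asIdeal h𝔭
    (hW.primeIdealOf ⟨g (f x), hsW⟩).asIdeal h𝔯 (R := S.presheaf.stalk (g (f x)))
    (S := Y.presheaf.stalk (f x)) (S' := X.presheaf.stalk x) (M := X.presheaf.stalk x) hRS hSS'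
    (Algebra.linearMap Γ(X, U) (X.presheaf.stalk x)) hfib
  have hR := flat_base_of_flat_fibre_of_isLocalization (A := Γ(S, W)) (B := Γ(Y, V))
    (C := Γ(X, U))
    (N := Γ(X, U)) (hU.primeIdealOf ⟨x, hxU⟩).asIdeal (hV.primeIdealOf ⟨f x, hyV⟩).asIdeal h𝔭
    (hW.primeIdealOf ⟨g (f x), hsW⟩).asIdeal h𝔯 (R := S.presheaf.stalk (g (f x)))
    (S := Y.presheaf.stalk (f x)) (S' := X.presheaf.stalk x) (M := X.presheaf.stalk x) hRS hSS'
    (Algebra.linearMap Γ(X, U) (X.presheaf.stalk x)) hfib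
  exact ⟨hR, hS⟩

end Groth.Agent.H1.FibreCrit
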