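import Groth.Agent.H50.FlatFibRing
import Groth.Agent.H1.FibreCritMain

set_option autoImplicit false
set_option linter.style.haveILetI false
universe u
open CategoryTheory CategoryTheory.Limits TensorProduct

/-!
# Ring form of the fibrewise criterion, finitely presented version (after helper50's Noetherian
version `Groth.Agent.H50.flat_localization_of_fibFlat`)
-/

namespace Groth.Agent.H1.FibreCrit

open Groth.Agent.H50

variable {A B C : Type u} [CommRing A] [CommRing B] [CommRing C] [Algebra A B] [Algebra B C]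
  [Algebra A C] [IsScalarTower A B C]

set_option maxHeartbeats 1600000 in
set_option synthInstance.maxHeartbeats 400000 in
theorem flat_localization_of_fibFlat_fp_aux [Algebra.FiniteType A B]
    [Algebra.FinitePresentation A C] [Module.Flat A C] (H : FibFlat A B C)
    (𝔯 : Ideal A) (𝔭 : Ideal B) (𝔮 : Ideal C) [𝔯.IsPrime] [𝔭.IsPrime] [𝔮.IsPrime]
    [𝔭.LiesOver 𝔯] [𝔮.LiesOver 𝔭] [𝔮.LiesOver 𝔯] :
    Module.Flat B (Localization.AtPrime 𝔮) ∧ Module.Flat A (Localization.AtPrime 𝔭) := by
  letI := Localization.AtPrime.algebraOfLiesOver 𝔯 𝔭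
  letI := Localization.AtPrime.algebraOfLiesOver 𝔭 𝔮
  letI := Localization.AtPrime.algebraOfLiesOver 𝔯 𝔮
  haveI : IsLocalHom (algebraMap (Localization.AtPrime 𝔯) (Localization.AtPrime 𝔭)) :=
    Localization.isLocalHom_localRingHom 𝔯 𝔭 (algebraMap A B) Ideal.LiesOver.over
  haveI : IsLocalHom (algebraMap (Localization.AtPrime 𝔭) (Localization.AtPrime 𝔮)) :=
    Localization.isLocalHom_localRingHom 𝔭 𝔮 (algebraMap B C) Ideal.LiesOver.over
  -- the crux
  have key : Module.Flat
      (Localization.AtPrime 𝔭 ⧸ (IsLocalRing.maximalIdeal (Localization.AtPrime 𝔯)).map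
        (algebraMap (Localization.AtPrime 𝔯) (Localization.AtPrime 𝔭)))
      ((Localization.AtPrime 𝔭 ⧸ (IsLocalRing.maximalIdeal (Localization.AtPrime 𝔯)).map
        (algebraMap (Localization.AtPrime 𝔯) (Localization.AtPrime 𝔭))) ⊗[Localization.AtPrime 𝔭]
          Localization.AtPrime 𝔮) := by
    have hJ : ∀ a ∈ IsLocalRing.maximalIdeal (Localization.AtPrime 𝔯),
        ((algebraMap (Localization.AtPrime 𝔭) (Localization.AtPrime 𝔭 ⧸
          (IsLocalRing.maximalIdeal (Localization.AtPrime 𝔯)).map
            (algebraMap (Localization.AtPrime 𝔯) (Localization.AtPrime 𝔭)))).comp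
          (algebraMap (Localization.AtPrime 𝔯) (Localization.AtPrime 𝔭))) a = 0 := by
      intro a ha
      exact Ideal.Quotient.eq_zero_iff_mem.2 (Ideal.mem_map_of_mem _ ha)
    let ρ : 𝔯.ResidueField →+* (Localization.AtPrime 𝔭 ⧸
        (IsLocalRing.maximalIdeal (Localization.AtPrime 𝔯)).map
          (algebraMap (Localization.AtPrime 𝔯) (Localization.AtPrime 𝔭))) :=
      Ideal.Quotient.lift (IsLocalRing.maximalIdeal (Localization.AtPrime 𝔯)) _ hJ
    haveI : Module.Flat C (Localization.AtPrime 𝔮) := IsLocalization.flat _ 𝔮.primeCompl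
    refine key_flat_abstract (A := A) (B := B) (C := C) 𝔯.ResidueField (H 𝔯)
      (Localization.AtPrime 𝔭) (Localization.AtPrime 𝔮) (Localization.epi 𝔭.primeCompl) _ ρ ?_
    intro a
    rw [IsScalarTower.algebraMap_apply A (Localization.AtPrime 𝔯) 𝔯.ResidueField a]
    change Ideal.Quotient.lift _ _ hJ
      (Ideal.Quotient.mk _ (algebraMap A (Localization.AtPrime 𝔯) a)) = _
    rw [Ideal.Quotient.lift_mk]
    rw [IsScalarTower.algebraMap_apply B (Localization.AtPrime 𝔭) _ (algebraMap A B a)]
    rw [RingHom.comp_apply]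
    congr 1
    rw [← IsScalarTower.algebraMap_apply A (Localization.AtPrime 𝔯) (Localization.AtPrime 𝔭),
      ← IsScalarTower.algebraMap_apply A B (Localization.AtPrime 𝔭)]
  have h𝔭 : 𝔭 = 𝔮.comap (algebraMap B C) := Ideal.LiesOver.over
  have h𝔯 : 𝔯 = 𝔭.comap (algebraMap A B) := Ideal.LiesOver.over
  have hRS : ∀ a : A, algebraMap (Localization.AtPrime 𝔯) (Localization.AtPrime 𝔭)
      (algebraMap A (Localization.AtPrime 𝔯) a) =
      algebraMap B (Localization.AtPrime 𝔭) (algebraMap A B a) := by
    intro a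
    rw [← IsScalarTower.algebraMap_apply A (Localization.AtPrime 𝔯) (Localization.AtPrime 𝔭),
      ← IsScalarTower.algebraMap_apply A B (Localization.AtPrime 𝔭)]
  have hSS' : ∀ b : B, algebraMap (Localization.AtPrime 𝔭) (Localization.AtPrime 𝔮)
      (algebraMap B (Localization.AtPrime 𝔭) b) =
      algebraMap C (Localization.AtPrime 𝔮) (algebraMap B C b) := by
    intro b
    rw [← IsScalarTower.algebraMap_apply B (Localization.AtPrime 𝔭) (Localization.AtPrime 𝔮),
      ← IsScalarTower.algebraMap_apply B C (Localization.AtPrime 𝔮)]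
  haveI : Module.Flat A (Localization.AtPrime 𝔮) :=
    Module.Flat.trans A C (Localization.AtPrime 𝔮)
  haveI hRM : Module.Flat (Localization.AtPrime 𝔯) (Localization.AtPrime 𝔮) := by
    rw [Module.flat_iff_of_isLocalization (S := Localization.AtPrime 𝔯) (p := 𝔯.primeCompl)]
    infer_instance
  have h1 := flat_of_flat_fibre_of_isLocalization (A := A) (B := B) (C := C) (N := C) 𝔮 𝔭 h𝔭 𝔯 h𝔯
    (R := Localization.AtPrime 𝔯) (S := Localization.AtPrime 𝔭) (S' := Localization.AtPrime 𝔮)
    (M := Localization.AtPrime 𝔮) hRS hSS'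
    (Algebra.linearMap C (Localization.AtPrime 𝔮)) key
  have h2 := flat_base_of_flat_fibre_of_isLocalization (A := A) (B := B) (C := C) (N := C) 𝔮 𝔭 h𝔭
    𝔯 h𝔯
    (R := Localization.AtPrime 𝔯) (S := Localization.AtPrime 𝔭) (S' := Localization.AtPrime 𝔮)
    (M := Localization.AtPrime 𝔮) hRS hSS'
    (Algebra.linearMap C (Localization.AtPrime 𝔮)) key
  haveI : Module.Flat B (Localization.AtPrime 𝔭) := IsLocalization.flat _ 𝔭.primeCompl
  haveI : Module.Flat A (Localization.AtPrime 𝔯) := IsLocalization.flat _ 𝔯.primeCompl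
  exact ⟨Module.Flat.trans B (Localization.AtPrime 𝔭) (Localization.AtPrime 𝔮),
    Module.Flat.trans A (Localization.AtPrime 𝔯) (Localization.AtPrime 𝔭)⟩

theorem flat_localization_of_fibFlat_fp [Algebra.FiniteType A B]
    [Algebra.FinitePresentation A C] [Module.Flat A C] (H : FibFlat A B C) (𝔮 : Ideal C)
    [𝔮.IsPrime] :
    Module.Flat B (Localization.AtPrime 𝔮) ∧
      Module.Flat A (Localization.AtPrime (𝔮.under B)) := by
  haveI : (𝔮.under B).LiesOver (𝔮.under A) := Ideal.under_liesOver_of_liesOver B 𝔮 (𝔮.under A)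
  exact flat_localization_of_fibFlat_fp_aux H (𝔮.under A) (𝔮.under B) 𝔮

/-- Ring form of the fibrewise criterion: `C` is flat over `B`. -/
theorem flat_of_fibFlat_fp [Algebra.FiniteType A B]
    [Algebra.FinitePresentation A C] [Module.Flat A C] (H : FibFlat A B C) : Module.Flat B C := by
  refine Module.flat_of_isLocalized_maximal C C (fun P _ => Localization.AtPrime P)
    (fun P _ => Algebra.linearMap C (Localization.AtPrime P)) ?_
  intro P hP
  exact (flat_localization_of_fibFlat_fp H P).1

/-- Ring form of the fibrewise criterion for the base: if every maximal ideal of `B` is hit by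
a prime of some `C` as in the criterion, then `B` is flat over `A`. -/
theorem flat_base_of_fibFlat_fp {A B : Type u} [CommRing A] [CommRing B] [Algebra A B]
    [Algebra.FiniteType A B]
    (H : ∀ (P : Ideal B) [P.IsMaximal], ∃ (C : Type u) (_ : CommRing C) (_ : Algebra B C)
      (_ : Algebra A C) (_ : IsScalarTower A B C) (_ : Algebra.FinitePresentation A C)
      (_ : Module.Flat A C)
      (_ : FibFlat A B C) (𝔮 : Ideal C) (_ : 𝔮.IsPrime), 𝔮.under B = P) :
    Module.Flat A B := by
  refine Module.flat_of_isLocalized_maximal B B (fun P _ => Localization.AtPrime P)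
    (fun P _ => Algebra.linearMap B (Localization.AtPrime P)) ?_
  intro P hP
  obtain ⟨C, _, _, _, _, _, _, hF, 𝔮, _, rfl⟩ := H P
  exact (flat_localization_of_fibFlat_fp hF 𝔮).2

end Groth.Agent.H1.FibreCrit
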