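import Groth.Agent.H50.FlatFibSch
import Groth.Agent.H1.FibreCritSpRing

set_option autoImplicit false
set_option linter.style.haveILetI false
universe u
open CategoryTheory CategoryTheory.Limits AlgebraicGeometry TensorProduct

/-!
# Affine scheme form of the fibrewise criterion, finitely presented version
-/

namespace Groth.Agent.H1.FibreCrit

open Groth.Agent.H50

/-- Affine form of the fibrewise criterion of flatness (finitely presented case): the upper
morphism is flat. -/
theorem flat_of_fibFlatSch_of_isAffine_fp {U V W : Scheme.{u}} [IsAffine U] [IsAffine V]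
    [IsAffine W] (u : U ⟶ V) (v : V ⟶ W) (hfp : LocallyOfFinitePresentation (u ≫ v))
    (hft : LocallyOfFiniteType v) (hfl : Flat (u ≫ v)) (H : FibFlatSch u v) : Flat u := by
  have hF := fibFlat_of_fibFlatSch _ _ (fibFlatSch_SpecMap_appTop u v H)
  letI := v.appTop.hom.toAlgebra
  letI := u.appTop.hom.toAlgebra
  letI := (u.appTop.hom.comp v.appTop.hom).toAlgebra
  haveI : IsScalarTower Γ(W, ⊤) Γ(V, ⊤) Γ(U, ⊤) := IsScalarTower.of_algebraMap_eq' rfl
  haveI : Algebra.FiniteType Γ(W, ⊤) Γ(V, ⊤) :=
    (HasRingHomProperty.iff_of_isAffine (P := @LocallyOfFiniteType)).1 hft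
  haveI : Algebra.FinitePresentation Γ(W, ⊤) Γ(U, ⊤) := by
    have := (HasRingHomProperty.iff_of_isAffine (P := @LocallyOfFinitePresentation)).1 hfp
    rw [Scheme.Hom.comp_appTop] at this
    exact this
  haveI : Module.Flat Γ(W, ⊤) Γ(U, ⊤) := by
    have := (HasRingHomProperty.iff_of_isAffine (P := @Flat)).1 hfl
    rw [Scheme.Hom.comp_appTop] at this
    exact this
  have := flat_of_fibFlat_fp hF
  exact (HasRingHomProperty.iff_of_isAffine (P := @Flat)).2 this

/-- Affine form of the fibrewise criterion of flatness (finitely presented case): the lower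
morphism is flat, as soon as every point of `V` is hit by a `U` as in the criterion. -/
theorem flat_base_of_fibFlatSch_of_isAffine_fp {V W : Scheme.{u}} [IsAffine V] [IsAffine W]
    (v : V ⟶ W) (hft : LocallyOfFiniteType v)
    (H : ∀ y : V, ∃ (U : Scheme.{u}) (_ : IsAffine U) (u : U ⟶ V)
      (x : U), u x = y ∧ LocallyOfFinitePresentation (u ≫ v) ∧ Flat (u ≫ v) ∧ FibFlatSch u v) :
    Flat v := by
  letI := v.appTop.hom.toAlgebra
  haveI : Algebra.FiniteType Γ(W, ⊤) Γ(V, ⊤) :=
    (HasRingHomProperty.iff_of_isAffine (P := @LocallyOfFiniteType)).1 hft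
  have key : Module.Flat Γ(W, ⊤) Γ(V, ⊤) := by
    refine flat_base_of_fibFlat_fp ?_
    intro P hP
    let p : Spec Γ(V, ⊤) := (show PrimeSpectrum Γ(V, ⊤) from ⟨P, hP.isPrime⟩)
    have hp : p.asIdeal = P := rfl
    obtain ⟨U, _, u, x, hx, hfp, hfl, hF⟩ := H (V.isoSpec.inv p)
    have hF' := fibFlat_of_fibFlatSch _ _ (fibFlatSch_SpecMap_appTop u v hF)
    have hfl' := (HasRingHomProperty.iff_of_isAffine (P := @Flat)).1 hfl
    rw [Scheme.Hom.comp_appTop] at hfl'
    have hfp' := (HasRingHomProperty.iff_of_isAffine (P := @LocallyOfFinitePresentation)).1 hfp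
    rw [Scheme.Hom.comp_appTop] at hfp'
    refine ⟨Γ(U, ⊤), inferInstance, u.appTop.hom.toAlgebra,
      (u.appTop.hom.comp v.appTop.hom).toAlgebra, ?_, ?_, ?_, ?_, (U.isoSpec.hom x).asIdeal,
      (U.isoSpec.hom x).isPrime, ?_⟩
    · exact @IsScalarTower.of_algebraMap_eq' _ _ _ _ _ _ _ u.appTop.hom.toAlgebra
        (u.appTop.hom.comp v.appTop.hom).toAlgebra rfl
    · exact hfp'
    · exact hfl'
    · exact hF'
    · have h1 : (U.isoSpec.hom ≫ Spec.map u.appTop) x = (u ≫ V.isoSpec.hom) x := by
        rw [Scheme.isoSpec_hom_naturality]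
      have h2 : Spec.map u.appTop (U.isoSpec.hom x) = p := by
        have h3 : (u ≫ V.isoSpec.hom) x = V.isoSpec.hom (u x) := rfl
        rw [h3, hx] at h1
        refine h1.trans ?_
        exact Scheme.inv_hom_apply V.isoSpec p
      rw [← hp, ← h2]
      rfl
  exact (HasRingHomProperty.iff_of_isAffine (P := @Flat)).2 key

end Groth.Agent.H1.FibreCrit
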