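import Groth.Agent.H50.FlatFibSp2
import Groth.Agent.H1.FibreCritSpSch

set_option autoImplicit false
set_option backward.isDefEq.respectTransparency false
set_option linter.style.haveILetI false
universe u
open CategoryTheory CategoryTheory.Limits AlgebraicGeometry Opposite Topology

/-!
# The fibrewise criterion for compatible charts of algebraic spaces, finitely presented version
(after helper50's `Groth.Agent.H50.flat_of_noeth_charts`)
-/

namespace Groth.Agent.H1.FibreCrit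

open AlgSp Groth.Agent.H50

variable {S : Scheme.{u}}

/-- Conclusion 1 for a compatible triple of charts, finitely presented version. -/
theorem flat_of_fp_charts {X Y Z : AlgSp.Space S} (f : X ⟶ Y) (h : Y ⟶ Z)
    (hfl : AlgSp.LocP @Flat (f ≫ h).hom) (hfib : FibHyp f h) {U V W : Over S}
    (α : (yon S).obj U ⟶ X.obj) (β : (yon S).obj V ⟶ Y.obj) (γ : (yon S).obj W ⟶ Z.obj)
    (hα : RepWith @Etale α) (hβ : RepWith @Etale β) (hγ : RepWith @Etale γ)
    (u : U ⟶ V) (v : V ⟶ W) (hu : α ≫ f.hom = (yon S).map u ≫ β)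
    (hv : β ≫ h.hom = (yon S).map v ≫ γ)
    (hfp : LocallyOfFinitePresentation (u.left ≫ v.left)) (hft : LocallyOfFiniteType v.left) :
    Flat u.left := by
  have key : ∀ x : U.left, ∃ Uc : U.left.Opens, x ∈ Uc ∧ Flat (Uc.ι ≫ u.left) := by
    intro x
    obtain ⟨Wa, hWa, hxWa, -⟩ := exists_affineOpen_le (⊤ : W.left.Opens) (v.left (u.left x)) trivial
    obtain ⟨Vb, hVb, hxVb, e₂⟩ := exists_affineOpen_le (v.left ⁻¹ᵁ Wa) (u.left x) hxWa
    obtain ⟨Uc, hUc, hxUc, e₁⟩ := exists_affineOpen_le (u.left ⁻¹ᵁ Vb) x hxVb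
    refine ⟨Uc, hxUc, ?_⟩
    obtain ⟨h1, h2⟩ := chart_key_opens f h hfl hfib α β γ hα hβ hγ u v hu hv Uc Vb Wa e₁ e₂
    haveI : IsAffine (Uc : Scheme.{u}) := hUc
    haveI : IsAffine (Vb : Scheme.{u}) := hVb
    haveI : IsAffine (Wa : Scheme.{u}) := hWa
    have hfp' : LocallyOfFinitePresentation (u.left.resLE Vb Uc e₁ ≫ v.left.resLE Wa Vb e₂) := by
      rw [Scheme.Hom.resLE_comp_resLE]
      infer_instance
    have hft' : LocallyOfFiniteType (v.left.resLE Wa Vb e₂) := inferInstance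
    have h3 : Flat (u.left.resLE Vb Uc e₁) :=
      flat_of_fibFlatSch_of_isAffine_fp _ _ hfp' hft' h1 h2
    rw [← Scheme.Hom.resLE_comp_ι u.left e₁]
    infer_instance
  choose Uc hUc1 hUc2 using key
  refine IsZariskiLocalAtSource.of_iSup_eq_top (P := @Flat) Uc ?_ hUc2
  exact top_le_iff.1 (fun x _ => TopologicalSpace.Opens.mem_iSup.2 ⟨x, hUc1 x⟩)

/-- Conclusion 2 for a compatible pair of charts, each point of the upper one being hit by a
chart of `X`, finitely presented version. -/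
theorem flat_base_of_fp_charts {X Y Z : AlgSp.Space S} (f : X ⟶ Y) (h : Y ⟶ Z)
    (hfl : AlgSp.LocP @Flat (f ≫ h).hom) (hfib : FibHyp f h) {V W : Over S}
    (β : (yon S).obj V ⟶ Y.obj) (γ : (yon S).obj W ⟶ Z.obj)
    (hβ : RepWith @Etale β) (hγ : RepWith @Etale γ)
    (v : V ⟶ W) (hv : β ≫ h.hom = (yon S).map v ≫ γ) (hft : LocallyOfFiniteType v.left)
    (Hpt : ∀ y : V.left, ∃ (U : Over S)
      (α : (yon S).obj U ⟶ X.obj) (_ : RepWith @Etale α) (u : U ⟶ V) (x : U.left),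
      α ≫ f.hom = (yon S).map u ≫ β ∧ u.left x = y ∧
        LocallyOfFinitePresentation (u.left ≫ v.left)) : Flat v.left := by
  have key : ∀ y : V.left, ∃ Vb : V.left.Opens, y ∈ Vb ∧ Flat (Vb.ι ≫ v.left) := by
    intro y
    obtain ⟨Wa, hWa, hxWa, -⟩ := exists_affineOpen_le (⊤ : W.left.Opens) (v.left y) trivial
    obtain ⟨Vb, hVb, hxVb, e₂⟩ := exists_affineOpen_le (v.left ⁻¹ᵁ Wa) y hxWa
    refine ⟨Vb, hxVb, ?_⟩
    haveI : IsAffine (Vb : Scheme.{u}) := hVb
    haveI : IsAffine (Wa : Scheme.{u}) := hWa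
    have hft' : LocallyOfFiniteType (v.left.resLE Wa Vb e₂) := inferInstance
    have h3 : Flat (v.left.resLE Wa Vb e₂) := by
      refine flat_base_of_fibFlatSch_of_isAffine_fp _ hft' ?_
      intro y'
      obtain ⟨U, α, hα, u, x, hu, hx, hfp⟩ := Hpt (Vb.ι y')
      have hxVb' : x ∈ u.left ⁻¹ᵁ Vb := by
        change u.left x ∈ Vb
        rw [hx]
        exact y'.2
      obtain ⟨Uc, hUc, hxUc, e₁⟩ := exists_affineOpen_le (u.left ⁻¹ᵁ Vb) x hxVb'
      obtain ⟨h1, h2⟩ := chart_key_opens f h hfl hfib α β γ hα hβ hγ u v hu hv Uc Vb Wa e₁ e₂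
      have hfp' : LocallyOfFinitePresentation
          (u.left.resLE Vb Uc e₁ ≫ v.left.resLE Wa Vb e₂) := by
        rw [Scheme.Hom.resLE_comp_resLE]
        infer_instance
      refine ⟨(Uc : Scheme.{u}), hUc, u.left.resLE Vb Uc e₁, ⟨x, hxUc⟩, ?_, hfp', h1, h2⟩
      apply Vb.ι.injective
      rw [← Scheme.Hom.comp_apply, Scheme.Hom.resLE_comp_ι]
      exact hx
    rw [← Scheme.Hom.resLE_comp_ι v.left e₂]
    infer_instance
  choose Vb hVb1 hVb2 using key
  refine IsZariskiLocalAtSource.of_iSup_eq_top (P := @Flat) Vb ?_ hVb2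
  exact top_le_iff.1 (fun x _ => TopologicalSpace.Opens.mem_iSup.2 ⟨x, hVb1 x⟩)

end Groth.Agent.H1.FibreCrit
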