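import Groth.Agent.H50.FlatFibSp3
import Groth.Agent.H1.FibreCritSp2

set_option autoImplicit false
set_option backward.isDefEq.respectTransparency false
set_option linter.style.haveILetI false
universe u
open CategoryTheory CategoryTheory.Limits AlgebraicGeometry Opposite Topology

/-!
# The fibrewise criterion of flatness for algebraic spaces, finitely presented version
(after helper50's `Groth.Agent.H50.locP_flat_of_fibHyp`)
-/

namespace Groth.Agent.H1.FibreCrit

open AlgSp Groth.Agent.H50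

variable {S : Scheme.{u}}

/-- Conclusion 1 of the fibrewise criterion of flatness for algebraic spaces: `X` locally of
finite presentation over `Z`, `Y` locally of finite type over `Z`. -/
theorem locP_flat_of_fibHyp_fp {X Y Z : AlgSp.Space S} (f : X ⟶ Y) (h : Y ⟶ Z)
    (hfp : AlgSp.LocP @LocallyOfFinitePresentation (f ≫ h).hom)
    (hfl : AlgSp.LocP @Flat (f ≫ h).hom)
    (hft : AlgSp.LocP @LocallyOfFiniteType h.hom) (hfib : FibHyp f h) :
    AlgSp.LocP @Flat f.hom := by
  intro U V a b g ha hb comm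
  obtain ⟨Z₀, cZ, hcZ, hcsZ⟩ := Z.property.atlas
  have hG := goodClass_flat.{u}
  have hfh : (f ≫ h).hom = f.hom ≫ h.hom := rfl
  -- `V₂ = V ×_Z Z₀`
  obtain ⟨V₂, p₂, q₂, sqV₂⟩ := Groth.Agent.H53.exists_pullback_yon (b ≫ h.hom) cZ hcZ.rep
  have hp₂e : Etale p₂.left := Groth.Agent.H53.prop_of_isPullback_yon sqV₂ hcZ
  have hp₂s : Surjective p₂.left := Groth.Agent.H53.prop_of_isPullback_yon sqV₂ hcsZ
  -- `U₁ = U ×_V V₂`
  obtain ⟨U₁, r₁, g₁, sqU₁⟩ := Groth.Agent.H53.exists_pullback_yon ((yon S).map g)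
    ((yon S).map p₂) (representable_yon_map _)
  have hr₁e : Etale r₁.left := Groth.Agent.H53.prop_of_isPullback_yon sqU₁
    ((repWith_yon_map_iff @Etale _).2 hp₂e)
  have hr₁s : Surjective r₁.left := Groth.Agent.H53.prop_of_isPullback_yon sqU₁
    ((repWith_yon_map_iff @Surjective _).2 hp₂s)
  have hrg : r₁ ≫ g = g₁ ≫ p₂ := (yon S).map_injective (by
    rw [Functor.map_comp, Functor.map_comp]
    exact sqU₁.w)
  -- the charts
  have hα : RepWith @Etale ((yon S).map r₁ ≫ a) :=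
    Groth.Agent.H53.repWith_etale_map_comp r₁ hr₁e a ha
  have hβ : RepWith @Etale ((yon S).map p₂ ≫ b) :=
    Groth.Agent.H53.repWith_etale_map_comp p₂ hp₂e b hb
  have hu : ((yon S).map r₁ ≫ a) ≫ f.hom = (yon S).map g₁ ≫ ((yon S).map p₂ ≫ b) := by
    rw [Category.assoc, comm, ← Category.assoc, ← Category.assoc, ← Functor.map_comp,
      ← Functor.map_comp, hrg]
  have hv : ((yon S).map p₂ ≫ b) ≫ h.hom = (yon S).map q₂ ≫ cZ := by
    rw [← sqV₂.w, Category.assoc]
  have huv : ((yon S).map r₁ ≫ a) ≫ (f ≫ h).hom = (yon S).map (g₁ ≫ q₂) ≫ cZ := by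
    rw [hfh, ← Category.assoc, hu, Category.assoc, hv, Functor.map_comp, Category.assoc]
  have hfp' : LocallyOfFinitePresentation (g₁.left ≫ q₂.left) :=
    hfp ((yon S).map r₁ ≫ a) cZ (g₁ ≫ q₂) hα hcZ huv
  have hft' : LocallyOfFiniteType q₂.left := hft ((yon S).map p₂ ≫ b) cZ q₂ hβ hcZ hv
  have hflat : Flat g₁.left :=
    flat_of_fp_charts f h hfl hfib _ _ cZ hα hβ hcZ g₁ q₂ hu hv hfp' hft'
  -- descend
  have h2 : Flat (r₁.left ≫ g.left) := by
    have : r₁.left ≫ g.left = g₁.left ≫ p₂.left := congrArg (fun k => k.left) hrg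
    rw [this]
    infer_instance
  exact hG.src r₁.left g.left hr₁e hr₁s h2

/-- Conclusion 2 of the fibrewise criterion of flatness for algebraic spaces, finitely presented
version. -/
theorem locP_flat_base_of_fibHyp_fp {X Y Z : AlgSp.Space S} (f : X ⟶ Y) (h : Y ⟶ Z)
    (hfp : AlgSp.LocP @LocallyOfFinitePresentation (f ≫ h).hom)
    (hfl : AlgSp.LocP @Flat (f ≫ h).hom)
    (hft : AlgSp.LocP @LocallyOfFiniteType h.hom) (hfib : FibHyp f h)
    (hsurj : AlgSp.IsSurjectiveMor f.hom) : AlgSp.LocP @Flat h.hom := by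
  intro V W b c k hb hc comm
  have hfh : (f ≫ h).hom = f.hom ≫ h.hom := rfl
  have hft' : LocallyOfFiniteType k.left := hft b c k hb hc comm
  -- every point of `V` is hit
  have Hpt : ∀ y : V.left, ∃ (U : Over S)
      (α : (yon S).obj U ⟶ X.obj) (_ : RepWith @Etale α) (u : U ⟶ V) (x : U.left),
      α ≫ f.hom = (yon S).map u ≫ b ∧ u.left x = y ∧
        LocallyOfFinitePresentation (u.left ≫ k.left) := by
    intro y
    have sqP := IsPullback.of_hasPullback f.hom b
    have hP : IsAlgSpace (pullback f.hom b) :=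
      Groth.Agent.H49.isAlgSpace_of_isPullback sqP Y.property.diag X.property
        (IsAlgSpace.yon_obj V)
    obtain ⟨ξ, hξ⟩ := hsurj (Points.ofPt b y)
    rw [Points.ofPt_eq_map_ofScheme] at hξ
    obtain ⟨π, hπ1, hπ2⟩ := points_exists_of_isPullback sqP ξ (Points.ofScheme V y) hξ
    obtain ⟨P₀, c₀, hc₀1, hc₀2⟩ := hP.atlas
    obtain ⟨p₀, hp₀⟩ := Groth.Agent.H53.exists_ofPt_eq_of_repWith_surjective c₀ hc₀2 π
    have hπ₁e : RepWith @Etale (pullback.fst f.hom b) :=
      MorphismProperty.of_isPullback sqP.flip hb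
    have hc₀π : RepWith @Etale (c₀ ≫ pullback.fst f.hom b) :=
      (RepWith @Etale).comp_mem _ _ hc₀1 hπ₁e
    obtain ⟨u, hu⟩ := (yon S).map_surjective (c₀ ≫ pullback.snd f.hom b)
    have hcomp : (c₀ ≫ pullback.fst f.hom b) ≫ f.hom = (yon S).map u ≫ b := by
      rw [hu]
      simp only [Category.assoc]
      rw [sqP.w]
    have huv : (c₀ ≫ pullback.fst f.hom b) ≫ (f ≫ h).hom = (yon S).map (u ≫ k) ≫ c := by
      rw [hfh, ← Category.assoc, hcomp, Category.assoc, comm, Functor.map_comp, Category.assoc]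
    refine ⟨P₀, c₀ ≫ pullback.fst f.hom b, hc₀π, u, p₀, hcomp, ?_,
      hfp (c₀ ≫ pullback.fst f.hom b) c (u ≫ k) hc₀π hc huv⟩
    rw [← Points.toScheme_ofPt u p₀, hu, ← Points.map_ofPt, hp₀, hπ2, Points.toScheme_ofScheme]
  exact flat_base_of_fp_charts f h hfl hfib b c hb hc k comm hft' Hpt

end Groth.Agent.H1.FibreCrit
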