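import Mathlib
import Groth.Agent.H25.FlatBCpt2
import Groth.Agent.H53.FlatSource
import Groth.Agent.H10.FlatDescent

set_option autoImplicit false

/-!
# Pointwise flatness of morphisms of schemes: composition, descent, étale cancellation
-/

namespace Groth.Agent.H1.FlatPt

universe u

open CategoryTheory CategoryTheory.Limits AlgebraicGeometry

variable {X Y Z : Scheme.{u}}

/-- Pointwise flatness is stable under composition. -/
theorem flat_stalkMap_comp (f : X ⟶ Y) (g : Y ⟶ Z) (x : X) (hf : (f.stalkMap x).hom.Flat)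
    (hg : (g.stalkMap (f x)).hom.Flat) : ((f ≫ g).stalkMap x).hom.Flat := by
  rw [Scheme.Hom.stalkMap_comp]
  exact RingHom.Flat.comp hg hf

/-- The same for a morphism equal to a composite. -/
theorem flat_stalkMap_of_eq_comp (f : X ⟶ Y) (g : Y ⟶ Z) (k : X ⟶ Z) (hk : k = f ≫ g) (x : X)
    (hf : (f.stalkMap x).hom.Flat) (hg : (g.stalkMap (f x)).hom.Flat) :
    (k.stalkMap x).hom.Flat := by
  subst hk
  exact flat_stalkMap_comp f g x hf hg

/-- Descent of pointwise flatness: if `f ≫ g` and `f` are flat at `x`, then `g` is flat at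
`f x`. -/
theorem flat_stalkMap_of_comp (f : X ⟶ Y) (g : Y ⟶ Z) (x : X)
    (hfg : ((f ≫ g).stalkMap x).hom.Flat) (hf : (f.stalkMap x).hom.Flat) :
    (g.stalkMap (f x)).hom.Flat := by
  rw [Scheme.Hom.stalkMap_comp] at hfg
  have : IsLocalHom (f.stalkMap x).hom := f.toLRSHom.prop x
  exact Groth.Agent.H10.ringHomFlat_of_comp_of_faithfullyFlat _ _
    (Groth.Agent.H53.faithfullyFlat_of_flat_of_isLocalHom _ hf) hfg

/-- The same for a morphism equal to a composite. -/
theorem flat_stalkMap_of_eq_comp' (f : X ⟶ Y) (g : Y ⟶ Z) (k : X ⟶ Z) (hk : k = f ≫ g) (x : X)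
    (hfg : (k.stalkMap x).hom.Flat) (hf : (f.stalkMap x).hom.Flat) :
    (g.stalkMap (f x)).hom.Flat := by
  subst hk
  exact flat_stalkMap_of_comp f g x hfg hf

/-- Transport of pointwise flatness along an equality of points. -/
theorem flat_stalkMap_congr_point (f : X ⟶ Y) {x x' : X} (h : x = x')
    (hf : (f.stalkMap x).hom.Flat) : (f.stalkMap x').hom.Flat := by
  subst h
  exact hf

/-- **Cancellation of an étale morphism on the right, pointwise**: if `k ≫ q` is flat at `p`
and `q` is étale, then `k` is flat at `p`. -/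
theorem flat_stalkMap_of_comp_etale (k : X ⟶ Y) (q : Y ⟶ Z) [Etale q] (p : X)
    (h : ((k ≫ q).stalkMap p).hom.Flat) : (k.stalkMap p).hom.Flat := by
  have sq : IsPullback (pullback.fst (k ≫ q) q) (pullback.snd (k ≫ q) q) (k ≫ q) q :=
    IsPullback.of_hasPullback _ _
  let Γ : X ⟶ pullback (k ≫ q) q := pullback.lift (𝟙 X) k (by simp)
  have hΓ1 : Γ ≫ pullback.fst (k ≫ q) q = 𝟙 X := pullback.lift_fst _ _ _
  have hΓ2 : Γ ≫ pullback.snd (k ≫ q) q = k := pullback.lift_snd _ _ _
  have hfst : Etale (pullback.fst (k ≫ q) q) := MorphismProperty.pullback_fst _ _ inferInstance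
  have hΓe : Etale Γ := by
    refine MorphismProperty.of_postcomp (W := @Etale) (W' := @Etale) Γ
      (pullback.fst (k ≫ q) q) hfst ?_
    rw [hΓ1]
    infer_instance
  have hpt : pullback.fst (k ≫ q) q (Γ p) = p := by
    rw [← Scheme.Hom.comp_apply, hΓ1]
    rfl
  have h1 : ((pullback.snd (k ≫ q) q).stalkMap (Γ p)).hom.Flat :=
    Groth.Agent.H25.FlatBCpt.flat_stalkMap_of_isPullback sq (Γ p)
      (flat_stalkMap_congr_point _ hpt.symm h)
  exact flat_stalkMap_of_eq_comp Γ (pullback.snd (k ≫ q) q) k hΓ2.symm p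
    (Flat.stalkMap Γ p) h1

end Groth.Agent.H1.FlatPt
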