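import Mathlib
import Groth.Agent.H1.FlatPt
import Groth.Agent.H1.FibreCritScheme
import Groth.Agent.H99.FibrewiseCons
import Groth.Agent.H25.EtaleStalk
import Groth.Agent.S0386

set_option autoImplicit false

/-!
# The flat locus of `f : X ⟶ Y` over `S` commutes with base change `S' ⟶ S`
(when `X` is flat and locally of finite presentation over `S` and `Y` is locally of finite type).
-/

namespace Groth.Agent.H1.FlatBCFib

universe u

open CategoryTheory CategoryTheory.Limits AlgebraicGeometry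
open Groth.Agent.H1.FlatPt Groth.Agent.H1.FibreCrit

variable {U V W U' V' W' : Scheme.{u}}

section
variable (f₀ : U ⟶ V) (g₀ : V ⟶ W) (f₀' : U' ⟶ V') (g₀' : V' ⟶ W')
  (rU : U' ⟶ U) (rV : V' ⟶ V) (r : W' ⟶ W)

/-- The induced map on fibres over `w : W`, for `V'` regarded over `W` via `g₀' ≫ r`. -/
noncomputable def ρV (sqV : IsPullback rV g₀' g₀ r) (w : W) : (g₀' ≫ r).fiber w ⟶ g₀.fiber w :=
  pullback.map (g₀' ≫ r) (W.fromSpecResidueField w) g₀ (W.fromSpecResidueField w) rV (𝟙 _) (𝟙 _)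
    (by rw [Category.comp_id, sqV.w]) (by simp)

lemma ρV_fiberι (sqV : IsPullback rV g₀' g₀ r) (w : W) :
    ρV g₀ g₀' rV r sqV w ≫ g₀.fiberι w = (g₀' ≫ r).fiberι w ≫ rV :=
  pullback.lift_fst _ _ _

lemma ρV_toSpec (sqV : IsPullback rV g₀' g₀ r) (w : W) :
    ρV g₀ g₀' rV r sqV w ≫ g₀.fiberToSpecResidueField w =
      (g₀' ≫ r).fiberToSpecResidueField w := by
  refine (pullback.lift_snd (f := g₀) (g := W.fromSpecResidueField w) _ _ _).trans ?_
  exact Category.comp_id _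

/-- `ρV` is the base change of the fibre `W'_w ⟶ Spec κ(w)`. -/
lemma isPullback_ρV (sqV : IsPullback rV g₀' g₀ r) (w : W) :
    IsPullback (ρV g₀ g₀' rV r sqV w) (MoreMor.fiberMap g₀' r w)
      (g₀.fiberToSpecResidueField w) (r.fiberToSpecResidueField w) := by
  have big := (Groth.Agent.H99.FibrewiseCons.isPullback_fiberMap g₀' r w).paste_horiz sqV
  have hright : IsPullback (g₀.fiberι w) (g₀.fiberToSpecResidueField w) g₀
      (W.fromSpecResidueField w) := IsPullback.of_hasPullback _ _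
  have e1 : (g₀' ≫ r).fiberι w ≫ rV = ρV g₀ g₀' rV r sqV w ≫ g₀.fiberι w :=
    (ρV_fiberι g₀ g₀' rV r sqV w).symm
  have e2 : r.fiberι w ≫ r = r.fiberToSpecResidueField w ≫ W.fromSpecResidueField w :=
    pullback.condition
  rw [e1, e2] at big
  refine IsPullback.of_right big ?_ hright
  rw [ρV_toSpec, Groth.Agent.H99.FibrewiseCons.fiberMap_fiberToSpecResidueField]

lemma flat_ρV (sqV : IsPullback rV g₀' g₀ r) (w : W) : Flat (ρV g₀ g₀' rV r sqV w) := by
  have : Flat (r.fiberToSpecResidueField w) := inferInstance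
  exact MorphismProperty.of_isPullback (isPullback_ρV g₀ g₀' rV r sqV w).flip this

/-- The induced map on fibres over `w : W`, for `U'` regarded over `W` via `f₀' ≫ g₀' ≫ r`. -/
noncomputable def ρU (sqV : IsPullback rV g₀' g₀ r) (sqU : IsPullback rU f₀' f₀ rV) (w : W) :
    (f₀' ≫ g₀' ≫ r).fiber w ⟶ (f₀ ≫ g₀).fiber w :=
  pullback.map (f₀' ≫ g₀' ≫ r) (W.fromSpecResidueField w) (f₀ ≫ g₀) (W.fromSpecResidueField w)
    rU (𝟙 _) (𝟙 _)
    (by rw [Category.comp_id, ← Category.assoc rU, sqU.w, Category.assoc, sqV.w])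
    (by simp)

lemma ρU_fiberι (sqV : IsPullback rV g₀' g₀ r) (sqU : IsPullback rU f₀' f₀ rV) (w : W) :
    ρU f₀ g₀ f₀' g₀' rU rV r sqV sqU w ≫ (f₀ ≫ g₀).fiberι w = (f₀' ≫ g₀' ≫ r).fiberι w ≫ rU :=
  pullback.lift_fst _ _ _

lemma ρU_toSpec (sqV : IsPullback rV g₀' g₀ r) (sqU : IsPullback rU f₀' f₀ rV) (w : W) :
    ρU f₀ g₀ f₀' g₀' rU rV r sqV sqU w ≫ (f₀ ≫ g₀).fiberToSpecResidueField w =
      (f₀' ≫ g₀' ≫ r).fiberToSpecResidueField w := by
  refine (pullback.lift_snd (f := f₀ ≫ g₀) (g := W.fromSpecResidueField w) _ _ _).trans ?_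
  exact Category.comp_id _

/-- The square of fibre maps is cartesian. -/
lemma isPullback_ρU (sqV : IsPullback rV g₀' g₀ r) (sqU : IsPullback rU f₀' f₀ rV) (w : W) :
    IsPullback (ρU f₀ g₀ f₀' g₀' rU rV r sqV sqU w) (MoreMor.fiberMap f₀' (g₀' ≫ r) w)
      (MoreMor.fiberMap f₀ g₀ w) (ρV g₀ g₀' rV r sqV w) := by
  have big := (Groth.Agent.H99.FibrewiseCons.isPullback_fiberMap f₀' (g₀' ≫ r) w).paste_horiz sqU
  have hright := Groth.Agent.H99.FibrewiseCons.isPullback_fiberMap f₀ g₀ w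
  have e1 : (f₀' ≫ g₀' ≫ r).fiberι w ≫ rU =
      ρU f₀ g₀ f₀' g₀' rU rV r sqV sqU w ≫ (f₀ ≫ g₀).fiberι w :=
    (ρU_fiberι f₀ g₀ f₀' g₀' rU rV r sqV sqU w).symm
  have e2 : (g₀' ≫ r).fiberι w ≫ rV = ρV g₀ g₀' rV r sqV w ≫ g₀.fiberι w :=
    (ρV_fiberι g₀ g₀' rV r sqV w).symm
  rw [e1, e2] at big
  refine IsPullback.of_right big ?_ hright
  -- the two maps into the fibre `g₀.fiber w` agree
  have hfib : IsPullback (g₀.fiberι w) (g₀.fiberToSpecResidueField w) g₀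
      (W.fromSpecResidueField w) := IsPullback.of_hasPullback _ _
  apply hfib.hom_ext
  · have h1 := ρU_fiberι f₀ g₀ f₀' g₀' rU rV r sqV sqU w
    have h2 := ρV_fiberι g₀ g₀' rV r sqV w
    have h3 := fiberMap_fiberι f₀' (g₀' ≫ r) w
    have h4 := fiberMap_fiberι f₀ g₀ w
    rw [Category.assoc, Category.assoc, h4, h2, reassoc_of% h1, sqU.w, reassoc_of% h3]
  · rw [Category.assoc, Category.assoc, fiberMap_fiberToSpecResidueField, ρU_toSpec, ρV_toSpec,
      fiberMap_fiberToSpecResidueField]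

/-- **The flat locus commutes with base change.**  Let `U ⟶ V ⟶ W` with `U` flat and locally of
finite presentation over `W` and `V` locally of finite type over `W`, and let `U' ⟶ V' ⟶ W'` be
the base change along `r : W' ⟶ W`. Then `f₀'` is flat at `u'` iff `f₀` is flat at the image of
`u'` in `U`. -/
theorem flat_stalkMap_iff_of_isPullback [LocallyOfFinitePresentation (f₀ ≫ g₀)] [Flat (f₀ ≫ g₀)]
    [LocallyOfFiniteType g₀]
    (sqV : IsPullback rV g₀' g₀ r) (sqU : IsPullback rU f₀' f₀ rV) (u' : U') :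
    (f₀'.stalkMap u').hom.Flat ↔ (f₀.stalkMap (rU u')).hom.Flat := by
  constructor
  · intro h'
    have hξ' : (f₀' ≫ g₀' ≫ r).fiberι _ ((f₀' ≫ g₀' ≫ r).asFiber u') = u' :=
      (f₀' ≫ g₀' ≫ r).fiberι_asFiber u'
    have s1 : ((MoreMor.fiberMap f₀' (g₀' ≫ r) ((f₀' ≫ g₀' ≫ r) u')).stalkMap
        ((f₀' ≫ g₀' ≫ r).asFiber u')).hom.Flat :=
      Groth.Agent.H25.FlatBCpt.flat_stalkMap_of_isPullback
        (Groth.Agent.H99.FibrewiseCons.isPullback_fiberMap f₀' (g₀' ≫ r) _) _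
        (flat_stalkMap_congr_point f₀' hξ'.symm h')
    have : Flat (ρV g₀ g₀' rV r sqV ((f₀' ≫ g₀' ≫ r) u')) := flat_ρV g₀ g₀' rV r sqV _
    have s2 := Groth.Agent.H25.FlatBCpt2.flat_stalkMap_of_isPullback_of_flat
      (isPullback_ρU f₀ g₀ f₀' g₀' rU rV r sqV sqU ((f₀' ≫ g₀' ≫ r) u')) _ s1
    have s3 := flat_quotient_tensor_of_flat_fiberMap f₀ g₀ _ _ s2
    have s4 := (flat_stalkMap_of_flat_fibre f₀ g₀ _ (Flat.stalkMap (f₀ ≫ g₀) _) s3).2
    have hpt : (f₀ ≫ g₀).fiberι ((f₀' ≫ g₀' ≫ r) u')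
        (ρU f₀ g₀ f₀' g₀' rU rV r sqV sqU ((f₀' ≫ g₀' ≫ r) u')
          ((f₀' ≫ g₀' ≫ r).asFiber u')) = rU u' := by
      rw [← Scheme.Hom.comp_apply, ρU_fiberι, Scheme.Hom.comp_apply, hξ']
    exact flat_stalkMap_congr_point f₀ hpt s4
  · intro h
    exact Groth.Agent.H25.FlatBCpt.flat_stalkMap_of_isPullback sqU u' h

/-- Openness of the flat locus of `f₀` (with `U` locally of finite presentation over `W` and `V`
locally of finite type over `W`). -/
theorem isOpen_flat_stalkMap [LocallyOfFinitePresentation (f₀ ≫ g₀)] [LocallyOfFiniteType g₀] :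
    IsOpen {u : U | (f₀.stalkMap u).hom.Flat} := by
  have : LocallyOfFinitePresentation f₀ := Groth.Agent.H25.EtaleStalk.lfp_of_comp f₀ g₀
  exact Groth.Agent.S0386.result f₀

end

end Groth.Agent.H1.FlatBCFib
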