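import Mathlib
import Groth.Agent.H1.FlatLocusOpen

set_option autoImplicit false

/-!
# Global descent of flatness to a finitely generated subalgebra (EGA IV 11.2.6)
-/

namespace Groth.Agent.H1.FlatLocus

universe u

open TensorProduct

attribute [local instance] MvPolynomial.algebraMvPolynomial

namespace Model

variable {Z : Type u} [CommRing Z] (𝓜 : Model Z) (A : Type u) [CommRing A] [Algebra Z A]

section sub

variable {A}
variable {C C' : Subalgebra Z A} (h : C ≤ C')

/-- The algebra structure of a bigger subalgebra over a smaller one. -/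
abbrev algOfLE : Algebra C C' := (Subalgebra.inclusion h).toAlgebra

lemma isScalarTower_of_le :
    letI := algOfLE h
    IsScalarTower Z C C' :=
  letI := algOfLE h
  IsScalarTower.of_algebraMap_eq fun _ => rfl

lemma algebraMap_comp_of_le :
    letI := algOfLE h
    (algebraMap (𝓜.P C') (𝓜.P A)).comp (algebraMap (𝓜.P C) (𝓜.P C')) =
      algebraMap (𝓜.P C) (𝓜.P A) := by
  let _ := algOfLE h
  simp only [MvPolynomial.algebraMap_def]
  refine RingHom.ext fun p => ?_
  rw [RingHom.comp_apply, MvPolynomial.map_map]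
  have : (algebraMap C' A).comp (algebraMap C C') = algebraMap C A := RingHom.ext fun _ => rfl
  rw [this]

include h in
/-- Pointwise flatness passes to bigger subalgebras. -/
theorem flat_comap_of_le (q : Ideal (𝓜.P A)) [q.IsPrime]
    (hq : Module.Flat C (LocalizedModule
      (q.comap (algebraMap (𝓜.P C) (𝓜.P A))).primeCompl (𝓜.Mod C))) :
    Module.Flat C' (LocalizedModule
      (q.comap (algebraMap (𝓜.P C') (𝓜.P A))).primeCompl (𝓜.Mod C')) := by
  let _ := algOfLE h
  have := isScalarTower_of_le h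
  have hcomp := 𝓜.algebraMap_comp_of_le h
  have heq : (q.comap (algebraMap (𝓜.P C') (𝓜.P A))).comap (algebraMap (𝓜.P C) (𝓜.P C')) =
      q.comap (algebraMap (𝓜.P C) (𝓜.P A)) := by
    rw [Ideal.comap_comap, hcomp]
  have key : ∀ (q₁ q₂ : Ideal (𝓜.P C)) [q₁.IsPrime] [q₂.IsPrime], q₁ = q₂ →
      Module.Flat C (LocalizedModule q₁.primeCompl (𝓜.Mod C)) →
      Module.Flat C (LocalizedModule q₂.primeCompl (𝓜.Mod C)) := by
    intro q₁ q₂ _ _ h12
    subst h12
    exact id
  have : Module.Flat C (LocalizedModule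
      ((q.comap (algebraMap (𝓜.P C') (𝓜.P A))).comap
        (algebraMap (𝓜.P C) (𝓜.P C'))).primeCompl (𝓜.Mod C)) := key _ _ heq.symm hq
  exact 𝓜.flat_localizedModule_of_comap C C' (q.comap (algebraMap (𝓜.P C') (𝓜.P A)))

include h in
/-- Global flatness passes to bigger subalgebras. -/
theorem flat_of_le (hC : Module.Flat C (𝓜.Mod C)) : Module.Flat C' (𝓜.Mod C') := by
  let _ := algOfLE h
  have := isScalarTower_of_le h
  have hbc := 𝓜.isBaseChange_mapMod C C'
  have e1 : (𝓜.P C') ⊗[𝓜.P C] (𝓜.Mod C) ≃ₗ[𝓜.P C'] 𝓜.Mod C' := hbc.equiv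
  have e2 : (𝓜.P C') ⊗[𝓜.P C] (𝓜.Mod C) ≃ₗ[C'] C' ⊗[C] (𝓜.Mod C) :=
    Algebra.IsPushout.cancelBaseChange C C' (𝓜.P C) (𝓜.P C') (𝓜.Mod C)
  have hflat : Module.Flat C' (C' ⊗[C] (𝓜.Mod C)) := inferInstance
  have hflat2 : Module.Flat C' ((𝓜.P C') ⊗[𝓜.P C] (𝓜.Mod C)) :=
    Module.Flat.of_linearEquiv e2
  exact Module.Flat.of_linearEquiv (e1.restrictScalars C').symm

end sub

/-- All localizations at primes flat implies flat. -/
theorem flat_of_forall_flatLocus (C : Type u) [CommRing C] [Algebra Z C]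
    (h : ∀ q : PrimeSpectrum (𝓜.P C), q ∈ flatLocus C (S := 𝓜.P C) (𝓜.Mod C)) :
    Module.Flat C (𝓜.Mod C) := by
  refine Module.flat_of_isLocalized_maximal (R := C) (𝓜.P C) (𝓜.Mod C)
    (fun P _ => LocalizedModule P.primeCompl (𝓜.Mod C))
    (fun P _ => LocalizedModule.mkLinearMap P.primeCompl (𝓜.Mod C)) ?_
  intro P hP
  exact h ⟨P, hP.isPrime⟩

/-- **Descent of flatness to a finitely generated subalgebra** (EGA IV 11.2.6). -/
theorem exists_fg_subalgebra_flat [IsNoetherianRing Z] [Module.Flat A (𝓜.Mod A)] :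
    ∃ C : Subalgebra Z A, C.FG ∧ Module.Flat C (𝓜.Mod C) := by
  classical
  -- Step 1: pointwise flatness over `A`
  have hpt : ∀ q : PrimeSpectrum (𝓜.P A),
      Module.Flat A (LocalizedModule q.asIdeal.primeCompl (𝓜.Mod A)) := fun q =>
    flat_of_isLocalizedModule_algebra (R := A) q.asIdeal.primeCompl
      (LocalizedModule.mkLinearMap q.asIdeal.primeCompl (𝓜.Mod A))
  have hex : ∀ q : PrimeSpectrum (𝓜.P A), ∃ Sg : Finset A,
      ∀ (C : Subalgebra Z A), (Sg : Set A) ⊆ C → C.FG →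
      Module.Flat C (LocalizedModule
        (q.asIdeal.comap (algebraMap (𝓜.P C) (𝓜.P A))).primeCompl (𝓜.Mod C)) := fun q =>
    haveI := hpt q
    𝓜.exists_finset_forall_flat A q.asIdeal
  choose Sg hSg using hex
  -- the opens `V T`
  let CT : Finset A → Subalgebra Z A := fun T => Algebra.adjoin Z (T : Set A)
  have hCTfg : ∀ T, (CT T).FG := fun T => ⟨T, rfl⟩
  have hCTnoeth : ∀ T, IsNoetherianRing (CT T) := fun T =>
    haveI : Algebra.FiniteType Z (CT T) := (Subalgebra.fg_iff_finiteType _).mp (hCTfg T)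
    Algebra.FiniteType.isNoetherianRing Z (CT T)
  let V : Finset A → Set (PrimeSpectrum (𝓜.P A)) := fun T =>
    PrimeSpectrum.comap (algebraMap (𝓜.P (CT T)) (𝓜.P A)) ⁻¹'
      (flatLocus (CT T) (S := 𝓜.P (CT T)) (𝓜.Mod (CT T)))
  have hVopen : ∀ T, IsOpen (V T) := fun T =>
    haveI := hCTnoeth T
    (isOpen_flatLocus_of_isNoetherianRing (R := CT T) (S := 𝓜.P (CT T))
      (M := 𝓜.Mod (CT T))).preimage (PrimeSpectrum.continuous_comap _)
  have hVmem : ∀ q, q ∈ V (Sg q) := fun q => hSg q (CT (Sg q)) Algebra.subset_adjoin (hCTfg _)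
  have hVmono : ∀ T T', T ⊆ T' → V T ⊆ V T' := by
    intro T T' hTT' q hq
    exact 𝓜.flat_comap_of_le (Algebra.adjoin_mono (Finset.coe_subset.mpr hTT')) q.asIdeal hq
  -- Step 2: compactness
  obtain ⟨t, ht⟩ := isCompact_univ.elim_finite_subcover (fun q => V (Sg q))
    (fun q => hVopen _) (fun q _ => Set.mem_iUnion.mpr ⟨q, hVmem q⟩)
  set Tstar : Finset A := t.biUnion Sg with hTstar
  have hall : ∀ q, q ∈ V Tstar := by
    intro q
    have := ht (Set.mem_univ q)
    simp only [Set.mem_iUnion] at this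
    obtain ⟨q₀, hq₀, hq⟩ := this
    exact hVmono (Sg q₀) Tstar (Finset.subset_biUnion_of_mem Sg hq₀) hq
  -- Step 3: the non-flat locus of `C*` and its ideal
  set Cs := CT Tstar with hCs
  have := hCTnoeth Tstar
  have hopen : IsOpen (flatLocus Cs (S := 𝓜.P Cs) (𝓜.Mod Cs)) :=
    isOpen_flatLocus_of_isNoetherianRing
  obtain ⟨J, hJ⟩ := (PrimeSpectrum.isClosed_iff_zeroLocus_ideal _).mp hopen.isClosed_compl
  have hJtop : J.map (algebraMap (𝓜.P Cs) (𝓜.P A)) = ⊤ := by
    by_contra hne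
    obtain ⟨m, hm, hle⟩ := Ideal.exists_le_maximal _ hne
    have hq := hall ⟨m, hm.isPrime⟩
    have hmem : PrimeSpectrum.comap (algebraMap (𝓜.P Cs) (𝓜.P A)) ⟨m, hm.isPrime⟩ ∈
        PrimeSpectrum.zeroLocus (J : Set (𝓜.P Cs)) := by
      intro x hx
      exact hle (Ideal.mem_map_of_mem _ hx)
    rw [← hJ] at hmem
    exact hmem hq
  -- Step 4: finite stage where `J` generates the unit ideal
  have h1 : (1 : 𝓜.P A) ∈ Submodule.span (𝓜.P A) (algebraMap (𝓜.P Cs) (𝓜.P A) '' (J : Set _)) := by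
    have : (1 : 𝓜.P A) ∈ J.map (algebraMap (𝓜.P Cs) (𝓜.P A)) := by rw [hJtop]; trivial
    exact this
  obtain ⟨n, a, j, hsum⟩ := Submodule.mem_span_set'.mp h1
  choose j' hj' using fun i => (j i).2
  set T' : Finset A := Tstar ∪ Finset.univ.biUnion (fun i => (a i).coeffs) with hT'
  set C' := CT T' with hC'
  have hle : Cs ≤ C' := Algebra.adjoin_mono (Finset.coe_subset.mpr Finset.subset_union_left)
  refine ⟨C', hCTfg T', ?_⟩
  let _ := algOfLE hle
  have htower := isScalarTower_of_le hle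
  have hcomp := 𝓜.algebraMap_comp_of_le hle
  have hlift : ∀ i, ∃ f' : 𝓜.P C', MvPolynomial.map (algebraMap C' A) f' = a i := by
    intro i
    refine MvPolynomial.mem_range_map_iff_coeffs_subset.mpr (fun x hx => ?_)
    refine ⟨⟨x, Algebra.subset_adjoin ?_⟩, rfl⟩
    simp only [hT', Finset.coe_union, Finset.coe_biUnion, Set.mem_union, Set.mem_iUnion]
    exact Or.inr ⟨i, Finset.mem_coe.mpr (Finset.mem_univ i), hx⟩
  choose a' ha' using hlift
  have hJtop' : J.map (algebraMap (𝓜.P Cs) (𝓜.P C')) = ⊤ := by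
    rw [Ideal.eq_top_iff_one]
    have hone : ∑ i, a' i * algebraMap (𝓜.P Cs) (𝓜.P C') (j' i) = 1 := by
      apply MvPolynomial.map_injective (algebraMap C' A) Subtype.val_injective
      rw [map_sum, map_one, ← hsum]
      refine Finset.sum_congr rfl fun i _ => ?_
      rw [map_mul, ha', smul_eq_mul, ← (hj' i).2]
      congr 1
      exact RingHom.congr_fun hcomp (j' i)
    rw [← hone]
    exact Ideal.sum_mem _ fun i _ => Ideal.mul_mem_left _ _ (Ideal.mem_map_of_mem _ (hj' i).1)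
  -- Step 5: every prime of `P C'` is in the flat locus
  apply 𝓜.flat_of_forall_flatLocus C'
  intro q'
  by_cases hq'' : PrimeSpectrum.comap (algebraMap (𝓜.P Cs) (𝓜.P C')) q' ∈
      flatLocus Cs (S := 𝓜.P Cs) (𝓜.Mod Cs)
  · have : Module.Flat Cs (LocalizedModule
        ((q'.asIdeal).comap (algebraMap (𝓜.P Cs) (𝓜.P C'))).primeCompl (𝓜.Mod Cs)) := hq''
    exact 𝓜.flat_localizedModule_of_comap Cs C' q'.asIdeal
  · exfalso
    have hmem : PrimeSpectrum.comap (algebraMap (𝓜.P Cs) (𝓜.P C')) q' ∈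
        (flatLocus Cs (S := 𝓜.P Cs) (𝓜.Mod Cs))ᶜ := hq''
    rw [hJ] at hmem
    have hle' : J.map (algebraMap (𝓜.P Cs) (𝓜.P C')) ≤ q'.asIdeal := by
      rw [Ideal.map_le_iff_le_comap]
      exact hmem
    rw [hJtop'] at hle'
    exact q'.isPrime.ne_top (top_le_iff.mp hle')

end Model

end Groth.Agent.H1.FlatLocus
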