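import Mathlib
import Groth.Prelude.Def_FlatCA
import Groth.Agent.H1.FlatLocusGlobal
import Groth.Agent.H1.FlatLocusExists

set_option autoImplicit false

/-!
# Flatness at a finite stage of a directed colimit (EGA IV 11.2.6)
-/

namespace Groth.Agent.H1.FlatLocus

universe u

open TensorProduct

attribute [local instance] MvPolynomial.algebraMvPolynomial

/-- Finitely presented algebras are compact: a map from a finitely presented algebra to a directed
colimit factors through a stage. -/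
theorem exists_algHom_of_isDirectedColimitRing {Z : Type u} [CommRing Z] {ι : Type u} [Preorder ι]
    (G : ι → Type u) [∀ i, CommRing (G i)] [∀ i, Algebra Z (G i)]
    (g : ∀ i j, i ≤ j → G i →+* G j)
    (hg : ∀ i j (h : i ≤ j) (z : Z), g i j h (algebraMap Z (G i) z) = algebraMap Z (G j) z)
    (A : Type u) [CommRing A] [Algebra Z A] [∀ i, Algebra (G i) A] [∀ i, IsScalarTower Z (G i) A]
    (hcolim : FlatCA.IsDirectedColimitRing G g A)
    (C : Type u) [CommRing C] [Algebra Z C] [Algebra.FinitePresentation Z C] (f : C →ₐ[Z] A) :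
    ∃ (j : ι) (ψ : C →ₐ[Z] G j), ∀ c, algebraMap (G j) A (ψ c) = f c := by
  classical
  obtain ⟨hdir, hne, hid, hcomp, hcompat, hsurj, hinj⟩ := hcolim
  obtain ⟨k, π, hπsurj, hπker⟩ := Algebra.FinitePresentation.out (R := Z) (A := C)
  -- lift the generators
  have h1 : ∀ t : Fin k, ∃ i, ∃ x : G i, algebraMap (G i) A x = f (π (MvPolynomial.X t)) :=
    fun t => hsurj _
  choose i₀ x₀ hx₀ using h1
  obtain ⟨i₁, hi₁⟩ := Finset.exists_le (Finset.univ.image i₀)
  have hle : ∀ t, i₀ t ≤ i₁ := fun t => hi₁ _ (Finset.mem_image_of_mem _ (Finset.mem_univ t))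
  let y : Fin k → G i₁ := fun t => g (i₀ t) i₁ (hle t) (x₀ t)
  let θ₁ : MvPolynomial (Fin k) Z →ₐ[Z] G i₁ := MvPolynomial.aeval y
  have hθ₁ : ∀ p, algebraMap (G i₁) A (θ₁ p) = f (π p) := by
    have : (IsScalarTower.toAlgHom Z (G i₁) A).comp θ₁ = f.comp π := by
      apply MvPolynomial.algHom_ext
      intro t
      simp only [AlgHom.comp_apply, θ₁, MvPolynomial.aeval_X, IsScalarTower.coe_toAlgHom', y]
      rw [← hx₀ t]
      exact RingHom.congr_fun (hcompat _ _ (hle t)) (x₀ t)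
    intro p
    exact AlgHom.congr_fun this p
  -- kill the relations
  obtain ⟨rels, hrels⟩ := hπker
  have h2 : ∀ r : rels, ∃ j, ∃ h : i₁ ≤ j, g i₁ j h (θ₁ r.1) = 0 := by
    intro r
    apply hinj
    rw [hθ₁]
    have : r.1 ∈ RingHom.ker π.toRingHom := by
      rw [← hrels]
      exact Ideal.subset_span r.2
    rw [show π r.1 = 0 from this, map_zero]
  choose j₀ hj₀ hzero using h2
  obtain ⟨j, hj⟩ := Finset.exists_le (insert i₁ (Finset.univ.image j₀))
  have hi₁j : i₁ ≤ j := hj _ (Finset.mem_insert_self _ _)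
  have hj₀j : ∀ r, j₀ r ≤ j := fun r =>
    hj _ (Finset.mem_insert_of_mem (Finset.mem_image_of_mem _ (Finset.mem_univ r)))
  let gA : G i₁ →ₐ[Z] G j := { g i₁ j hi₁j with commutes' := hg _ _ hi₁j }
  let θ : MvPolynomial (Fin k) Z →ₐ[Z] G j := gA.comp θ₁
  have hθ : ∀ p, θ p = g i₁ j hi₁j (θ₁ p) := fun p => rfl
  have hker : RingHom.ker π.toRingHom ≤ RingHom.ker θ.toRingHom := by
    rw [← hrels, Ideal.span_le]
    intro r hr
    change θ r = 0
    rw [hθ]
    have := hzero ⟨r, hr⟩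
    have hc := RingHom.congr_fun (hcomp i₁ (j₀ ⟨r, hr⟩) j (hj₀ ⟨r, hr⟩) (hj₀j ⟨r, hr⟩)) (θ₁ r)
    rw [RingHom.comp_apply] at hc
    rw [← hc, this, map_zero]
  refine ⟨j, AlgHom.liftOfSurjective π hπsurj θ hker, fun c => ?_⟩
  obtain ⟨p, rfl⟩ := hπsurj c
  rw [AlgHom.liftOfSurjective_apply, hθ, ← hθ₁]
  exact RingHom.congr_fun (hcompat _ _ hi₁j) (θ₁ p)

namespace Model

variable {Z : Type u} [CommRing Z] (𝓜 : Model Z)

section bc

variable (C D : Type u) [CommRing C] [CommRing D] [Algebra Z C] [Algebra Z D] [Algebra C D]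
  [IsScalarTower Z C D]

/-- The module presented by a model commutes with base change. -/
noncomputable def baseChangeEquiv : D ⊗[C] (𝓜.Mod C) ≃ₗ[D] 𝓜.Mod D :=
  (Algebra.IsPushout.cancelBaseChange C D (𝓜.P C) (𝓜.P D) (𝓜.Mod C)).symm ≪≫ₗ
    ((𝓜.isBaseChange_mapMod C D).equiv.restrictScalars D)

/-- Flatness of the module presented by a model is stable under base change. -/
theorem flat_of_algebra (hC : Module.Flat C (𝓜.Mod C)) : Module.Flat D (𝓜.Mod D) :=
  Module.Flat.of_linearEquiv (𝓜.baseChangeEquiv C D).symm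

end bc

end Model

end Groth.Agent.H1.FlatLocus
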