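import Mathlib
import Groth.Agent.S4848

set_option autoImplicit false

/-!
# Descent of (faithful) flatness to a finitely generated subalgebra
-/

namespace Groth.Agent.H1.FlatDescSub

universe u

open TensorProduct

section colim

variable (Z A : Type u) [CommRing Z] [CommRing A] [Algebra Z A]

/-- Index type: finitely generated subalgebras. -/
abbrev Idx : Type u := {C : Subalgebra Z A // C.FG}

/-- The finitely generated subalgebras of an algebra form a directed system with colimit the
algebra. -/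
theorem isDirectedColimitRing_fg :
    FlatCA.IsDirectedColimitRing (fun i : Idx Z A => (i.1 : Type u))
      (fun i j h => (Subalgebra.inclusion (show i.1 ≤ j.1 from h)).toRingHom) A := by
  refine ⟨⟨fun i j => ⟨⟨i.1 ⊔ j.1, i.2.sup j.2⟩, ?_, ?_⟩⟩, ⟨⟨⊥, Subalgebra.fg_bot⟩⟩,
    fun i => ?_, fun i j k hij hjk => ?_, fun i j h => ?_, fun a => ?_, fun i x hx => ?_⟩
  · exact (le_sup_left : i.1 ≤ i.1 ⊔ j.1)
  · exact (le_sup_right : j.1 ≤ i.1 ⊔ j.1)
  · ext x; rfl
  · ext x; rfl
  · ext x; rfl
  · refine ⟨⟨Algebra.adjoin Z {a}, ?_⟩, ⟨a, Algebra.subset_adjoin rfl⟩, rfl⟩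
    exact ⟨{a}, by simp⟩
  · refine ⟨i, le_rfl, ?_⟩
    have : x = 0 := Subtype.ext hx
    rw [this, map_zero]

/-- **Descent of flatness to a finitely generated subalgebra**, tensor product form. -/
theorem exists_fg_subalgebra_flat_tensor {B₀ : Type u} [CommRing B₀] [Algebra Z B₀]
    [Algebra.FinitePresentation Z B₀] (M₀ : Type u) [AddCommGroup M₀] [Module B₀ M₀]
    [Module Z M₀] [IsScalarTower Z B₀ M₀] [Module.FinitePresentation B₀ M₀]
    [Module.Flat A (A ⊗[Z] M₀)] :
    ∃ C : Subalgebra Z A, C.FG ∧ Module.Flat C (C ⊗[Z] M₀) := by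
  obtain ⟨i, hi⟩ := (Groth.Agent.S4848.result (A₀ := Z) (B₀ := B₀)
    (fun i : Idx Z A => (i.1 : Type u))
    (fun i j h => Subalgebra.inclusion (show i.1 ≤ j.1 from h)) A
    (isDirectedColimitRing_fg Z A) M₀).mp inferInstance
  exact ⟨i.1, i.2, hi⟩

end colim


section spec

open AlgebraicGeometry CategoryTheory Limits

/-- The spectrum of a tensor product surjects onto the fibre product of the spectra. -/
theorem exists_prime_tensorProduct (R S T : Type u) [CommRing R] [CommRing S] [CommRing T]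
    [Algebra R S] [Algebra R T] (y : PrimeSpectrum S) (z : PrimeSpectrum T)
    (h : PrimeSpectrum.comap (algebraMap R S) y = PrimeSpectrum.comap (algebraMap R T) z) :
    ∃ Q : PrimeSpectrum (S ⊗[R] T),
      PrimeSpectrum.comap (algebraMap S (S ⊗[R] T)) Q = y ∧
      PrimeSpectrum.comap (Algebra.TensorProduct.includeRight (R := R) (A := S) (B := T)).toRingHom
        Q = z := by
  have sq := isPullback_SpecMap_of_isPushout _ _ _ _ (CommRingCat.isPushout_tensorProduct R S T)
  obtain ⟨w, hw1, hw2⟩ := Scheme.Pullback.exists_preimage_pullback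
    (f := Spec.map (CommRingCat.ofHom (algebraMap R S)))
    (g := Spec.map (CommRingCat.ofHom (algebraMap R T))) y z h
  refine ⟨sq.isoPullback.inv w, ?_, ?_⟩
  · refine Eq.trans ?_ hw1
    rw [← sq.isoPullback_inv_fst]
    rfl
  · refine Eq.trans ?_ hw2
    rw [← sq.isoPullback_inv_snd]
    rfl

end spec

section ff

variable (Z D B₀ : Type u) [CommRing Z] [CommRing D] [CommRing B₀] [Algebra Z D] [Algebra Z B₀]

/-- If the image of `Spec D` in `Spec Z` is contained in the image of `Spec B₀`, and `B₀` is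
flat over `Z`, then `D ⊗ B₀` is faithfully flat over `D`. -/
theorem faithfullyFlat_tensor_of_range_subset [Module.Flat Z B₀]
    (h : Set.range (PrimeSpectrum.comap (algebraMap Z D)) ⊆
      Set.range (PrimeSpectrum.comap (algebraMap Z B₀))) :
    Module.FaithfullyFlat D (D ⊗[Z] B₀) := by
  refine Module.FaithfullyFlat.of_comap_surjective fun y => ?_
  obtain ⟨z, hz⟩ := h ⟨y, rfl⟩
  obtain ⟨Q, hQ, -⟩ := exists_prime_tensorProduct Z D B₀ y z hz.symm
  exact ⟨Q, hQ⟩

/-- If `D ⊗ B₀` is faithfully flat over `D`, then the image of `Spec D` in `Spec Z` is contained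
in the image of `Spec B₀`. -/
theorem range_subset_of_faithfullyFlat_tensor [Module.FaithfullyFlat D (D ⊗[Z] B₀)] :
    Set.range (PrimeSpectrum.comap (algebraMap Z D)) ⊆
      Set.range (PrimeSpectrum.comap (algebraMap Z B₀)) := by
  rintro _ ⟨y, rfl⟩
  obtain ⟨Q, rfl⟩ := PrimeSpectrum.comap_surjective_of_faithfullyFlat (B := D ⊗[Z] B₀) y
  refine ⟨PrimeSpectrum.comap
    (Algebra.TensorProduct.includeRight (R := Z) (A := D) (B := B₀)).toRingHom Q, ?_⟩
  rw [← PrimeSpectrum.comap_comp_apply, ← PrimeSpectrum.comap_comp_apply]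
  congr 1
  exact (Algebra.TensorProduct.includeLeftRingHom_comp_algebraMap (R := Z) (A := D)
    (B := B₀)).symm

end ff

section sub

variable {Z A : Type u} [CommRing Z] [CommRing A] [Algebra Z A]

/-- If the image of `Spec A` in `Spec C₁` lies in an open set `U`, the same holds for all
sufficiently large subalgebras of `A`. -/
theorem exists_finset_range_comap_subset (C₁ : Subalgebra Z A) (U : Set (PrimeSpectrum C₁))
    (hU : IsOpen U) (hA : Set.range (PrimeSpectrum.comap (algebraMap C₁ A)) ⊆ U) :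
    ∃ T : Finset A, ∀ (C' : Subalgebra Z A) (h : C₁ ≤ C'), (T : Set A) ⊆ C' →
      Set.range (PrimeSpectrum.comap (Subalgebra.inclusion h).toRingHom) ⊆ U := by
  classical
  obtain ⟨J, hJ⟩ := (PrimeSpectrum.isClosed_iff_zeroLocus_ideal _).mp hU.isClosed_compl
  have hJtop : J.map (algebraMap C₁ A) = ⊤ := by
    by_contra hne
    obtain ⟨m, hm, hle⟩ := Ideal.exists_le_maximal _ hne
    have hmem : PrimeSpectrum.comap (algebraMap C₁ A) ⟨m, hm.isPrime⟩ ∈
        PrimeSpectrum.zeroLocus (J : Set C₁) := by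
      intro x hx
      exact hle (Ideal.mem_map_of_mem _ hx)
    rw [← hJ] at hmem
    exact hmem (hA ⟨_, rfl⟩)
  have h1 : (1 : A) ∈ Submodule.span A (algebraMap C₁ A '' (J : Set C₁)) := by
    have : (1 : A) ∈ J.map (algebraMap C₁ A) := by rw [hJtop]; trivial
    exact this
  obtain ⟨n, a, j, hsum⟩ := Submodule.mem_span_set'.mp h1
  choose j' hj' using fun i => (j i).2
  refine ⟨Finset.univ.image a, fun C' h hT => ?_⟩
  rintro _ ⟨p', rfl⟩
  by_contra hp
  have hmem : PrimeSpectrum.comap (Subalgebra.inclusion h).toRingHom p' ∈ Uᶜ := hp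
  rw [hJ] at hmem
  have haC : ∀ i, a i ∈ C' := fun i =>
    hT (Finset.mem_coe.mpr (Finset.mem_image_of_mem _ (Finset.mem_univ i)))
  have hone : (1 : C') = ∑ i, (⟨a i, haC i⟩ : C') * Subalgebra.inclusion h (j' i) := by
    apply Subtype.val_injective
    rw [Subalgebra.coe_one, ← hsum, AddSubmonoidClass.coe_finsetSum]
    refine Finset.sum_congr rfl fun i _ => ?_
    rw [smul_eq_mul, ← (hj' i).2]
    rfl
  apply p'.isPrime.ne_top
  rw [Ideal.eq_top_iff_one, hone]
  exact Ideal.sum_mem _ fun i _ => Ideal.mul_mem_left _ _ (hmem (hj' i).1)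

end sub


section main

variable (Z A : Type u) [CommRing Z] [CommRing A] [Algebra Z A]

/-- **Descent of faithful flatness to a finitely generated subalgebra.** -/
theorem exists_fg_subalgebra_faithfullyFlat_tensor
    (B₀ : Type u) [CommRing B₀] [Algebra Z B₀] [Algebra.FinitePresentation Z B₀]
    [Module.FaithfullyFlat A (A ⊗[Z] B₀)] :
    ∃ C : Subalgebra Z A, C.FG ∧ Module.FaithfullyFlat C (C ⊗[Z] B₀) := by
  classical
  have : Module.Flat A (A ⊗[Z] B₀) := inferInstance
  obtain ⟨C₁, hC₁fg, hC₁⟩ := exists_fg_subalgebra_flat_tensor Z A (B₀ := B₀) B₀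
  have hfp₁ : Algebra.FinitePresentation C₁ (C₁ ⊗[Z] B₀) := inferInstance
  have hU : IsOpen (Set.range (PrimeSpectrum.comap (algebraMap C₁ (C₁ ⊗[Z] B₀)))) := by
    rw [← Set.image_univ]
    exact PrimeSpectrum.isOpenMap_comap_of_hasGoingDown_of_finitePresentation _ isOpen_univ
  have hff : Module.FaithfullyFlat A (A ⊗[C₁] (C₁ ⊗[Z] B₀)) :=
    Module.FaithfullyFlat.of_linearEquiv _ _ (AlgebraTensorModule.cancelBaseChange Z C₁ A A B₀)
  have hA := range_subset_of_faithfullyFlat_tensor C₁ A (C₁ ⊗[Z] B₀)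
  obtain ⟨T, hT⟩ := exists_finset_range_comap_subset C₁ _ hU hA
  obtain ⟨S₁, hS₁⟩ := hC₁fg
  let C : Subalgebra Z A := Algebra.adjoin Z ((S₁ ∪ T : Finset A) : Set A)
  have hle : C₁ ≤ C := by
    rw [← hS₁]
    exact Algebra.adjoin_mono (by simp)
  have hTC : (T : Set A) ⊆ C := fun x hx => Algebra.subset_adjoin (by simp [hx])
  refine ⟨C, ⟨S₁ ∪ T, rfl⟩, ?_⟩
  let _ : Algebra C₁ C := (Subalgebra.inclusion hle).toAlgebra
  have : IsScalarTower Z C₁ C := IsScalarTower.of_algebraMap_eq fun _ => rfl
  have h2 := faithfullyFlat_tensor_of_range_subset C₁ C (C₁ ⊗[Z] B₀) (hT C hle hTC)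
  exact Module.FaithfullyFlat.of_linearEquiv _ _
    (AlgebraTensorModule.cancelBaseChange Z C₁ C C B₀).symm

/-- Type-level version of `exists_fg_subalgebra_faithfullyFlat_tensor` (hides the subalgebra, to
avoid instance diamonds downstream). -/
theorem exists_finiteType_faithfullyFlat_tensor
    (B₀ : Type u) [CommRing B₀] [Algebra Z B₀] [Algebra.FinitePresentation Z B₀]
    [Module.FaithfullyFlat A (A ⊗[Z] B₀)] :
    ∃ (C : Type u) (_ : CommRing C) (_ : Algebra Z C) (_ : Algebra C A) (_ : IsScalarTower Z C A),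
      Algebra.FiniteType Z C ∧ Function.Injective (algebraMap C A) ∧
        Module.FaithfullyFlat C (C ⊗[Z] B₀) := by
  obtain ⟨C, hCfg, hC⟩ := exists_fg_subalgebra_faithfullyFlat_tensor Z A B₀
  exact ⟨C, inferInstance, inferInstance, inferInstance, inferInstance,
    (Subalgebra.fg_iff_finiteType C).mp hCfg, Subtype.val_injective, hC⟩

end main

section model

variable (A B : Type u) [CommRing A] [CommRing B] [Algebra A B] [Algebra.FinitePresentation A B]

/-- A finitely presented algebra is the base change of a finitely presented algebra over a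
`ℤ`-algebra of finite type (opaque packaging of Mathlib's `Algebra.Presentation.Core`). -/
theorem exists_model_int :
    ∃ (Z : Type u) (_ : CommRing Z) (_ : Algebra Z A) (BZ : Type u) (_ : CommRing BZ)
      (_ : Algebra Z BZ), Algebra.FiniteType ℤ Z ∧ Algebra.FinitePresentation Z BZ ∧
        Nonempty (A ⊗[Z] BZ ≃ₐ[A] B) :=
  ⟨(Algebra.Presentation.ofFinitePresentation A B).Core, inferInstance, inferInstance,
    (Algebra.Presentation.ofFinitePresentation A B).ModelOfHasCoeffs
      (Algebra.Presentation.ofFinitePresentation A B).Core, inferInstance, inferInstance,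
    inferInstance, inferInstance,
    ⟨(Algebra.Presentation.ofFinitePresentation A B).tensorModelOfHasCoeffsEquiv
      (Algebra.Presentation.ofFinitePresentation A B).Core⟩⟩

/-- **Noetherian approximation of a faithfully flat finitely presented algebra**: `B` is the base
change of a faithfully flat finitely presented algebra `BC` over a subring `C` of `A` of finite
type over `ℤ`. -/
theorem exists_model_faithfullyFlat [Module.FaithfullyFlat A B] :
    ∃ (C : Type u) (_ : CommRing C) (_ : Algebra C A) (BC : Type u) (_ : CommRing BC)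
      (_ : Algebra C BC), Algebra.FiniteType ℤ C ∧ Function.Injective (algebraMap C A) ∧
        Algebra.FinitePresentation C BC ∧ Module.FaithfullyFlat C BC ∧
        Nonempty (B ≃ₐ[A] A ⊗[C] BC) := by
  obtain ⟨Z, _, _, BZ, _, _, hZ, hBZ, ⟨e₀⟩⟩ := exists_model_int A B
  have hff₀ : Module.FaithfullyFlat A (A ⊗[Z] BZ) :=
    Module.FaithfullyFlat.of_linearEquiv _ _ e₀.toLinearEquiv
  obtain ⟨C, _, _, _, _, hft₁, hinj, hC⟩ := exists_finiteType_faithfullyFlat_tensor Z A BZ
  have hft : Algebra.FiniteType ℤ C := Algebra.FiniteType.trans (S := Z) hZ hft₁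
  exact ⟨C, inferInstance, inferInstance, C ⊗[Z] BZ, inferInstance, inferInstance, hft, hinj,
    inferInstance, hC,
    ⟨e₀.symm.trans (Algebra.TensorProduct.cancelBaseChange Z C A A BZ).symm⟩⟩

end model

end Groth.Agent.H1.FlatDescSub
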