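import Mathlib
import Groth.Agent.H1.FlatPt
import Groth.Agent.H51.SpDim

set_option autoImplicit false

/-!
# Chart independence of pointwise flatness for morphisms of algebraic spaces
-/

namespace Groth.Agent.H1.FlatPtSp

universe u

open CategoryTheory CategoryTheory.Limits AlgebraicGeometry Opposite AlgSp
open Groth.Agent.H1.FlatPt

variable {S : Scheme.{u}}

/-- **Chart independence** of flatness at a point. -/
theorem flatAt_chart_indep {X Y : Sp S} (f : X ⟶ Y) {U₁ V₁ U₂ V₂ : Over S}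
    (a₁ : (yon S).obj U₁ ⟶ X) (b₁ : (yon S).obj V₁ ⟶ Y) (h₁ : U₁ ⟶ V₁)
    (ha₁ : RepWith @Etale a₁) (hb₁ : RepWith @Etale b₁) (e₁ : a₁ ≫ f = (yon S).map h₁ ≫ b₁)
    (a₂ : (yon S).obj U₂ ⟶ X) (b₂ : (yon S).obj V₂ ⟶ Y) (h₂ : U₂ ⟶ V₂)
    (ha₂ : RepWith @Etale a₂) (hb₂ : RepWith @Etale b₂) (e₂ : a₂ ≫ f = (yon S).map h₂ ≫ b₂)
    (u₁ : ↥U₁.left) (u₂ : ↥U₂.left) (hu : Points.ofPt a₁ u₁ = Points.ofPt a₂ u₂)
    (hq : (h₂.left.stalkMap u₂).hom.Flat) :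
    (h₁.left.stalkMap u₁).hom.Flat := by
  obtain ⟨P, p₁, p₂, p, hp₁, hp₂, hpu₁, hpu₂, hcomm⟩ :=
    H51.exists_common_etale_refinement a₁ ha₁ a₂ ha₂ u₁ u₂ hu
  have sqV := hb₁.rep.isPullback b₂
  obtain ⟨q₁, hq₁⟩ := (yon S).map_surjective (hb₁.rep.fst b₂)
  rw [← hq₁] at sqV
  have hq₂e : Etale (hb₁.rep.snd b₂).left := hb₁.property_snd b₂
  have hq₁e : Etale q₁.left := hb₂.2 b₁ ((yon S).map (hb₁.rep.snd b₂)) q₁ sqV.flip
  have hw : (yon S).map (p₁ ≫ h₁) ≫ b₁ = (yon S).map (p₂ ≫ h₂) ≫ b₂ := by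
    rw [Functor.map_comp, Functor.map_comp, Category.assoc, Category.assoc, ← e₁, ← e₂,
      ← Category.assoc, ← Category.assoc, hcomm]
  obtain ⟨k, hk⟩ := (yon S).map_surjective (sqV.lift _ _ hw)
  have hk1 : k ≫ q₁ = p₁ ≫ h₁ := (yon S).map_injective (by
    rw [Functor.map_comp, hk]; exact sqV.lift_fst _ _ hw)
  have hk2 : k ≫ hb₁.rep.snd b₂ = p₂ ≫ h₂ := (yon S).map_injective (by
    rw [Functor.map_comp, hk]; exact sqV.lift_snd _ _ hw)
  have hk1l : k.left ≫ q₁.left = p₁.left ≫ h₁.left := congrArg (fun m => m.left) hk1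
  have hk2l : k.left ≫ (hb₁.rep.snd b₂).left = p₂.left ≫ h₂.left :=
    congrArg (fun m => m.left) hk2
  subst hpu₁ hpu₂
  -- transport along the chain
  have s1 : ((p₂.left ≫ h₂.left).stalkMap p).hom.Flat :=
    flat_stalkMap_comp p₂.left h₂.left p (Flat.stalkMap p₂.left p) hq
  rw [← hk2l] at s1
  have s2 : (k.left.stalkMap p).hom.Flat := flat_stalkMap_of_comp_etale _ _ p s1
  have s3 : ((k.left ≫ q₁.left).stalkMap p).hom.Flat :=
    flat_stalkMap_comp _ _ p s2 (Flat.stalkMap q₁.left _)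
  rw [hk1l] at s3
  exact flat_stalkMap_of_comp p₁.left h₁.left p s3 (Flat.stalkMap p₁.left p)

end Groth.Agent.H1.FlatPtSp
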