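import Mathlib
import Groth.Agent.H1.FlatPtSp
import Groth.Agent.H1.FlatBCFib
import Groth.Agent.H1.BCChartsOver
import Groth.Agent.H51.SpBasic

set_option autoImplicit false

/-!
# The flat locus of a morphism of algebraic spaces: openness and base change
-/

namespace Groth.Agent.H1.FlatLocusSp

universe u

open CategoryTheory CategoryTheory.Limits AlgebraicGeometry Opposite AlgSp

variable {S : Scheme.{u}}

/-- Flatness at a point of a morphism of sheaves can be tested on one chart diagram through the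
point. -/
theorem isFlatAtMor_iff_chart {X Y : Sp S} (f : X ⟶ Y) {U V : Over S}
    (a : (yon S).obj U ⟶ X) (b : (yon S).obj V ⟶ Y) (h₀ : U ⟶ V)
    (ha : RepWith @Etale a) (hb : RepWith @Etale b) (e : a ≫ f = (yon S).map h₀ ≫ b)
    (u : ↥U.left) :
    IsFlatAtMor f (Points.ofPt a u) ↔ (h₀.left.stalkMap u).hom.Flat := by
  constructor
  · intro hx
    exact hx a b h₀ u ha hb e rfl
  · intro hq U₂ V₂ a₂ b₂ h₂ u₂ ha₂ hb₂ e₂ hu₂
    exact Groth.Agent.H1.FlatPtSp.flatAt_chart_indep f a₂ b₂ h₂ ha₂ hb₂ e₂ a b h₀ ha hb e u₂ u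
      hu₂ hq

/-- Openness of the flat locus. -/
theorem isOpen_isFlatAtMor {X Y Z : AlgSp.Space S} (f : X ⟶ Y) (h : Y ⟶ Z)
    (hfp : AlgSp.LocP @LocallyOfFinitePresentation (f ≫ h).hom)
    (hft : AlgSp.LocP @LocallyOfFiniteType h.hom) :
    IsOpen {x : AlgSp.Points X.obj | AlgSp.IsFlatAtMor f.hom x} := by
  have hfh : (f ≫ h).hom = f.hom ≫ h.hom := rfl
  obtain ⟨W, c, hcE, hcS⟩ := Z.property.atlas
  obtain ⟨V, b, k, hbE, hbS, ebk⟩ :=
    Groth.Agent.H1.BCChartsOver.exists_chart_over Y.property Z.property h.hom c hcE hcS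
  obtain ⟨U, a, h₀, haE, haS, eah⟩ :=
    Groth.Agent.H1.BCChartsOver.exists_chart_over X.property Y.property f.hom b hbE hbS
  have huv : a ≫ (f ≫ h).hom = (yon S).map (h₀ ≫ k) ≫ c := by
    rw [hfh, ← Category.assoc, eah, Category.assoc, ebk, Functor.map_comp, Category.assoc]
  have hfp' : LocallyOfFinitePresentation (h₀.left ≫ k.left) := hfp a c (h₀ ≫ k) haE hcE huv
  have hft' : LocallyOfFiniteType k.left := hft b c k hbE hcE ebk
  have hopen := Groth.Agent.H1.FlatBCFib.isOpen_flat_stalkMap h₀.left k.left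
  have hset : {x : AlgSp.Points X.obj | AlgSp.IsFlatAtMor f.hom x} =
      Points.ofPt a '' {u | (h₀.left.stalkMap u).hom.Flat} := by
    ext x
    constructor
    · intro hx
      obtain ⟨u, rfl⟩ := Groth.Agent.H53.exists_ofPt_eq_of_repWith_surjective a haS x
      exact ⟨u, (isFlatAtMor_iff_chart f.hom a b h₀ haE hbE eah u).mp hx, rfl⟩
    · rintro ⟨u, hu, rfl⟩
      exact (isFlatAtMor_iff_chart f.hom a b h₀ haE hbE eah u).mpr hu
  rw [hset]
  exact Groth.Agent.H51.isOpenMap_ofPt_of_etale a haE _ hopen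

/-- The flat locus commutes with base change. -/
theorem isFlatAtMor_baseChange {X Y Z : AlgSp.Space S} (f : X ⟶ Y) (h : Y ⟶ Z)
    (hfp : AlgSp.LocP @LocallyOfFinitePresentation (f ≫ h).hom)
    (hfl : AlgSp.LocP @Flat (f ≫ h).hom)
    (hft : AlgSp.LocP @LocallyOfFiniteType h.hom)
    (X' Y' Z' : AlgSp.Space S) (g : Z' ⟶ Z) (f' : X' ⟶ Y') (h' : Y' ⟶ Z') (pX : X' ⟶ X)
    (pY : Y' ⟶ Y) (sqY : IsPullback pY.hom h'.hom h.hom g.hom)
    (sqX : IsPullback pX.hom f'.hom f.hom pY.hom) :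
    {x' : AlgSp.Points X'.obj | AlgSp.IsFlatAtMor f'.hom x'} =
      AlgSp.Points.map pX.hom ⁻¹' {x : AlgSp.Points X.obj | AlgSp.IsFlatAtMor f.hom x} := by
  have hfh : (f ≫ h).hom = f.hom ≫ h.hom := rfl
  obtain ⟨V, W, V', W', b, c, b', c', k, k', rV, rW, hbE, hbS, hcE, hcS, hb'E, hb'S, hc'E, hc'S,
    ebk, eb'k', eb'rV, ec'rW, sqVW⟩ :=
    Groth.Agent.H53.exists_baseChange_charts Y.property Z.property Z'.property h.hom g.hom pY.hom
      h'.hom sqY
  obtain ⟨U, U', a, a', h₀, h₀', rU, haE, haS, ha'E, ha'S, eah, ea'h', ea'rU, sqUV⟩ :=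
    Groth.Agent.H1.BCChartsOver.exists_baseChange_charts_over X.property Y.property f.hom pY.hom
      pX.hom f'.hom sqX b b' rV hbE hbS hb'E hb'S eb'rV
  have huv : a ≫ (f ≫ h).hom = (yon S).map (h₀ ≫ k) ≫ c := by
    rw [hfh, ← Category.assoc, eah, Category.assoc, ebk, Functor.map_comp, Category.assoc]
  have hfp' : LocallyOfFinitePresentation (h₀.left ≫ k.left) := hfp a c (h₀ ≫ k) haE hcE huv
  have hfl' : Flat (h₀.left ≫ k.left) := hfl a c (h₀ ≫ k) haE hcE huv
  have hft' : LocallyOfFiniteType k.left := hft b c k hbE hcE ebk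
  ext x'
  obtain ⟨u', rfl⟩ := Groth.Agent.H53.exists_ofPt_eq_of_repWith_surjective a' ha'S x'
  simp only [Set.mem_ofPred_eq, Set.mem_preimage]
  rw [Points.map_ofPt, ea'rU, Groth.Agent.H53.ofPt_yon_map_comp,
    isFlatAtMor_iff_chart f'.hom a' b' h₀' ha'E hb'E ea'h' u',
    isFlatAtMor_iff_chart f.hom a b h₀ haE hbE eah (rU.left u')]
  exact Groth.Agent.H1.FlatBCFib.flat_stalkMap_iff_of_isPullback h₀.left k.left h₀'.left k'.left
    rU.left rV.left rW.left sqVW sqUV u'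

end Groth.Agent.H1.FlatLocusSp
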