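import Mathlib
import Groth.Agent.H1.FlatLocusSp
import Groth.Agent.H51.SpOpen
import Groth.Agent.H53.Points

set_option autoImplicit false

/-!
# The open subspace of the base over which a morphism of algebraic spaces is flat
-/

namespace Groth.Agent.H1.FlatWhere

universe u

open CategoryTheory CategoryTheory.Limits AlgebraicGeometry Opposite AlgSp

variable {S : Scheme.{u}}

/-- `LocP @Flat` is the same as being flat at every point. -/
theorem locP_flat_iff_forall_isFlatAtMor {X Y : Sp S} (f : X ⟶ Y) :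
    LocP @Flat f ↔ ∀ x : Points X, IsFlatAtMor f x := by
  constructor
  · intro hP x U V a b h u ha hb e _
    have : Flat h.left := hP a b h ha hb e
    exact Flat.stalkMap h.left u
  · intro H U V a b h ha hb e
    rw [Flat.iff_flat_stalkMap]
    intro u
    exact H (Points.ofPt a u) a b h u ha hb e rfl

/-- The open subspace `W` of `Z` over which `f : X ⟶ Y` (over `Z`) is flat, when `X ⟶ Z` is
closed, flat and locally of finite presentation and `Y ⟶ Z` is locally of finite type. -/
theorem exists_open_where_flat {X Y Z : AlgSp.Space S} (f : X ⟶ Y) (q : Y ⟶ Z)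
    (hfp : AlgSp.LocP @LocallyOfFinitePresentation (f ≫ q).hom)
    (hfl : AlgSp.LocP @Flat (f ≫ q).hom)
    (hft : AlgSp.LocP @LocallyOfFiniteType q.hom)
    (hcl : IsClosedMap (Points.map (f ≫ q).hom)) :
    ∃ (W : AlgSp.Space S) (w : W ⟶ Z), RepWith @IsOpenImmersion w.hom ∧
      Set.range (Points.map w.hom) =
        (Points.map (f ≫ q).hom '' {x : Points X.obj | IsFlatAtMor f.hom x}ᶜ)ᶜ ∧
      ∀ (Z' : AlgSp.Space S) (g : Z' ⟶ Z),
        (∃ k : Z' ⟶ W, k ≫ w = g) ↔
          ∀ (Y' : AlgSp.Space S) (gY : Y' ⟶ Y) (q' : Y' ⟶ Z'),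
            IsPullback gY.hom q'.hom q.hom g.hom →
            ∀ (X' : AlgSp.Space S) (gX : X' ⟶ X) (f' : X' ⟶ Y'),
              IsPullback gX.hom f'.hom f.hom gY.hom →
                AlgSp.LocP @Flat f'.hom := by
  have hfq : (f ≫ q).hom = f.hom ≫ q.hom := rfl
  have hO : IsOpen (Points.map (f ≫ q).hom '' {x : Points X.obj | IsFlatAtMor f.hom x}ᶜ)ᶜ :=
    (hcl _ (Groth.Agent.H1.FlatLocusSp.isOpen_isFlatAtMor f q hfp hft).isClosed_compl).isOpen_compl
  obtain ⟨W, w, hW, hw, hr⟩ := Groth.Agent.H51.exists_open_subspace Z.property _ hO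
  refine ⟨⟨W, hW⟩, ObjectProperty.homMk w, hw, hr, fun Z' g => ?_⟩
  constructor
  · rintro ⟨k, rfl⟩ Y' gY q' sqY X' gX f' sqX
    rw [locP_flat_iff_forall_isFlatAtMor]
    intro x'
    have hbc := Groth.Agent.H1.FlatLocusSp.isFlatAtMor_baseChange f q hfp hfl hft X' Y' Z'
      (k ≫ ObjectProperty.homMk w) f' q' gX gY sqY sqX
    have hx' : x' ∈ {x' : Points X'.obj | IsFlatAtMor f'.hom x'} := by
      rw [hbc]
      change IsFlatAtMor f.hom (Points.map gX.hom x')
      by_contra hcon
      have hmem : Points.map (f ≫ q).hom (Points.map gX.hom x') ∈ Set.range (Points.map w) := by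
        have e : gX.hom ≫ (f ≫ q).hom = (f'.hom ≫ q'.hom ≫ k.hom) ≫ w := by
          rw [hfq, ← Category.assoc, sqX.w, Category.assoc, sqY.w, Category.assoc, Category.assoc]
          rfl
        rw [← Points.map_comp, e, Points.map_comp]
        exact ⟨_, rfl⟩
      rw [hr] at hmem
      exact hmem ⟨_, hcon, rfl⟩
    exact hx'
  · intro H
    obtain ⟨k₀, hk₀⟩ := (Groth.Agent.H51.exists_factor_iff_of_isOpenImmersion' w hw g.hom).2 (by
      rw [hr]
      rintro _ ⟨z', rfl⟩
      rintro ⟨t, ht, hpt⟩
      -- the pullbacks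
      have sqY := IsPullback.of_hasPullback q.hom g.hom
      have hY' : IsAlgSpace (pullback q.hom g.hom) :=
        Groth.Agent.H49.isAlgSpace_of_isPullback sqY Z.property.diag Y.property Z'.property
      have sqX := IsPullback.of_hasPullback f.hom (pullback.fst q.hom g.hom)
      have hX' : IsAlgSpace (pullback f.hom (pullback.fst q.hom g.hom)) :=
        Groth.Agent.H49.isAlgSpace_of_isPullback sqX Y.property.diag X.property hY'
      have hP := H ⟨_, hY'⟩ (ObjectProperty.homMk (pullback.fst q.hom g.hom))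
        (ObjectProperty.homMk (pullback.snd q.hom g.hom)) sqY ⟨_, hX'⟩
        (ObjectProperty.homMk (pullback.fst f.hom (pullback.fst q.hom g.hom)))
        (ObjectProperty.homMk (pullback.snd f.hom (pullback.fst q.hom g.hom))) sqX
      rw [locP_flat_iff_forall_isFlatAtMor] at hP
      have hbc := Groth.Agent.H1.FlatLocusSp.isFlatAtMor_baseChange f q hfp hfl hft ⟨_, hX'⟩
        ⟨_, hY'⟩ Z' g (ObjectProperty.homMk (pullback.snd f.hom (pullback.fst q.hom g.hom)))
        (ObjectProperty.homMk (pullback.snd q.hom g.hom))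
        (ObjectProperty.homMk (pullback.fst f.hom (pullback.fst q.hom g.hom)))
        (ObjectProperty.homMk (pullback.fst q.hom g.hom)) sqY sqX
      have big := sqX.paste_vert sqY
      obtain ⟨x', hx't, -⟩ := Groth.Agent.H53.exists_point_of_isPullback big t z' hpt
      have h1 := (Set.ext_iff.mp hbc x').mp (hP x')
      change IsFlatAtMor f.hom (Points.map (pullback.fst f.hom (pullback.fst q.hom g.hom)) x')
        at h1
      rw [hx't] at h1
      exact ht h1)
    exact ⟨ObjectProperty.homMk k₀, ObjectProperty.hom_ext _ hk₀⟩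

end Groth.Agent.H1.FlatWhere
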