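import Mathlib
import Groth.Agent.H1.FlatWhere

set_option autoImplicit false

/-!
# The open subspace of the base over which a morphism of algebraic spaces is flat and surjective
-/

namespace Groth.Agent.H1.FlatWhere

universe u

open CategoryTheory CategoryTheory.Limits AlgebraicGeometry Opposite AlgSp

variable {S : Scheme.{u}}

/-- The restriction of a morphism of schemes to an open subscheme contained in its flat locus is
flat. -/
theorem flat_ι_comp_of_le {U V : Scheme.{u}} (h₀ : U ⟶ V) (F : U.Opens)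
    (hF : ∀ u ∈ F, (h₀.stalkMap u).hom.Flat) : Flat (F.ι ≫ h₀) := by
  rw [Flat.iff_flat_stalkMap]
  intro x
  exact Groth.Agent.H1.FlatPt.flat_stalkMap_comp F.ι h₀ x (Flat.stalkMap F.ι x) (hF _ x.2)

/-- The image of the flat locus is open. -/
theorem isOpen_image_isFlatAtMor {X Y Z : AlgSp.Space S} (f : X ⟶ Y) (q : Y ⟶ Z)
    (hfp : AlgSp.LocP @LocallyOfFinitePresentation (f ≫ q).hom)
    (hft : AlgSp.LocP @LocallyOfFiniteType q.hom) :
    IsOpen (Points.map f.hom '' {x : Points X.obj | IsFlatAtMor f.hom x}) := by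
  have hfh : (f ≫ q).hom = f.hom ≫ q.hom := rfl
  obtain ⟨W, c, hcE, hcS⟩ := Z.property.atlas
  obtain ⟨V, b, k, hbE, hbS, ebk⟩ :=
    Groth.Agent.H1.BCChartsOver.exists_chart_over Y.property Z.property q.hom c hcE hcS
  obtain ⟨U, a, h₀, haE, haS, eah⟩ :=
    Groth.Agent.H1.BCChartsOver.exists_chart_over X.property Y.property f.hom b hbE hbS
  have huv : a ≫ (f ≫ q).hom = (yon S).map (h₀ ≫ k) ≫ c := by
    rw [hfh, ← Category.assoc, eah, Category.assoc, ebk, Functor.map_comp, Category.assoc]
  have hfp' : LocallyOfFinitePresentation (h₀.left ≫ k.left) := hfp a c (h₀ ≫ k) haE hcE huv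
  have hft' : LocallyOfFiniteType k.left := hft b c k hbE hcE ebk
  have hlfp : LocallyOfFinitePresentation h₀.left :=
    Groth.Agent.H25.EtaleStalk.lfp_of_comp h₀.left k.left
  have hopen := Groth.Agent.H1.FlatBCFib.isOpen_flat_stalkMap h₀.left k.left
  let F : U.left.Opens := ⟨{u | (h₀.left.stalkMap u).hom.Flat}, hopen⟩
  have hFflat : Flat (F.ι ≫ h₀.left) := flat_ι_comp_of_le h₀.left F (fun u hu => hu)
  have hFopen : IsOpenMap (F.ι ≫ h₀.left) := (F.ι ≫ h₀.left).isOpenMap
  have himg : IsOpen (h₀.left '' {u | (h₀.left.stalkMap u).hom.Flat}) := by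
    have h1 := hFopen.isOpen_range
    have h2 : Set.range (F.ι ≫ h₀.left) = h₀.left '' {u | (h₀.left.stalkMap u).hom.Flat} := by
      ext v
      constructor
      · rintro ⟨x, rfl⟩
        exact ⟨F.ι x, x.2, rfl⟩
      · rintro ⟨u, hu, rfl⟩
        exact ⟨⟨u, hu⟩, rfl⟩
    rwa [h2] at h1
  have hset : Points.map f.hom '' {x : Points X.obj | IsFlatAtMor f.hom x} =
      Points.ofPt b '' (h₀.left '' {u | (h₀.left.stalkMap u).hom.Flat}) := by
    ext y
    constructor
    · rintro ⟨x, hx, rfl⟩
      obtain ⟨u, rfl⟩ := Groth.Agent.H53.exists_ofPt_eq_of_repWith_surjective a haS x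
      refine ⟨h₀.left u, ⟨u, (Groth.Agent.H1.FlatLocusSp.isFlatAtMor_iff_chart f.hom a b h₀ haE
        hbE eah u).mp hx, rfl⟩, ?_⟩
      rw [Points.map_ofPt, eah, Groth.Agent.H53.ofPt_yon_map_comp]
    · rintro ⟨_, ⟨u, hu, rfl⟩, rfl⟩
      refine ⟨Points.ofPt a u, (Groth.Agent.H1.FlatLocusSp.isFlatAtMor_iff_chart f.hom a b h₀ haE
        hbE eah u).mpr hu, ?_⟩
      rw [Points.map_ofPt, eah, Groth.Agent.H53.ofPt_yon_map_comp]
  rw [hset]
  exact Groth.Agent.H51.isOpenMap_ofPt_of_etale b hbE _ himg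

/-- The open subspace `W` of `Z` over which `f : X ⟶ Y` (over `Z`) is flat and surjective, when
`X ⟶ Z` is closed, flat and locally of finite presentation and `Y ⟶ Z` is closed and locally of
finite type. -/
theorem exists_open_where_surjective_flat {X Y Z : AlgSp.Space S} (f : X ⟶ Y) (q : Y ⟶ Z)
    (hfp : AlgSp.LocP @LocallyOfFinitePresentation (f ≫ q).hom)
    (hfl : AlgSp.LocP @Flat (f ≫ q).hom)
    (hft : AlgSp.LocP @LocallyOfFiniteType q.hom)
    (hcl : IsClosedMap (Points.map (f ≫ q).hom)) (hclq : IsClosedMap (Points.map q.hom)) :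
    ∃ (W : AlgSp.Space S) (w : W ⟶ Z), RepWith @IsOpenImmersion w.hom ∧
      ∀ (Z' : AlgSp.Space S) (g : Z' ⟶ Z),
        (∃ k : Z' ⟶ W, k ≫ w = g) ↔
          ∀ (Y' : AlgSp.Space S) (gY : Y' ⟶ Y) (q' : Y' ⟶ Z'),
            IsPullback gY.hom q'.hom q.hom g.hom →
            ∀ (X' : AlgSp.Space S) (gX : X' ⟶ X) (f' : X' ⟶ Y'),
              IsPullback gX.hom f'.hom f.hom gY.hom →
                (AlgSp.IsSurjectiveMor f'.hom ∧ AlgSp.LocP @Flat f'.hom) := by
  have hfq : (f ≫ q).hom = f.hom ≫ q.hom := rfl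
  have hO1 : IsOpen (Points.map (f ≫ q).hom '' {x : Points X.obj | IsFlatAtMor f.hom x}ᶜ)ᶜ :=
    (hcl _ (Groth.Agent.H1.FlatLocusSp.isOpen_isFlatAtMor f q hfp hft).isClosed_compl).isOpen_compl
  have hO2 : IsOpen (Points.map q.hom ''
      (Points.map f.hom '' {x : Points X.obj | IsFlatAtMor f.hom x})ᶜ)ᶜ :=
    (hclq _ (isOpen_image_isFlatAtMor f q hfp hft).isClosed_compl).isOpen_compl
  obtain ⟨W, w, hW, hw, hr⟩ := Groth.Agent.H51.exists_open_subspace Z.property _ (hO1.inter hO2)
  refine ⟨⟨W, hW⟩, ObjectProperty.homMk w, hw, fun Z' g => ?_⟩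
  constructor
  · rintro ⟨k, rfl⟩ Y' gY q' sqY X' gX f' sqX
    have hbc := Groth.Agent.H1.FlatLocusSp.isFlatAtMor_baseChange f q hfp hfl hft X' Y' Z'
      (k ≫ ObjectProperty.homMk w) f' q' gX gY sqY sqX
    constructor
    · -- surjectivity
      intro y'
      have hmem : Points.map q.hom (Points.map gY.hom y') ∈ Set.range (Points.map w) := by
        have e : gY.hom ≫ q.hom = (q'.hom ≫ k.hom) ≫ w := by
          rw [sqY.w, Category.assoc]
          rfl
        rw [← Points.map_comp, e, Points.map_comp]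
        exact ⟨_, rfl⟩
      rw [hr] at hmem
      have hy : Points.map gY.hom y' ∈
          Points.map f.hom '' {x : Points X.obj | IsFlatAtMor f.hom x} := by
        by_contra hcon
        exact hmem.2 ⟨_, hcon, rfl⟩
      obtain ⟨x, -, hx⟩ := hy
      obtain ⟨x', -, hx'⟩ := Groth.Agent.H53.exists_point_of_isPullback sqX x y' hx
      exact ⟨x', hx'⟩
    · rw [locP_flat_iff_forall_isFlatAtMor]
      intro x'
      have hx' : x' ∈ {x' : Points X'.obj | IsFlatAtMor f'.hom x'} := by
        rw [hbc]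
        change IsFlatAtMor f.hom (Points.map gX.hom x')
        by_contra hcon
        have hmem : Points.map (f ≫ q).hom (Points.map gX.hom x') ∈
            Set.range (Points.map w) := by
          have e : gX.hom ≫ (f ≫ q).hom = (f'.hom ≫ q'.hom ≫ k.hom) ≫ w := by
            rw [hfq, ← Category.assoc, sqX.w, Category.assoc, sqY.w, Category.assoc,
              Category.assoc]
            rfl
          rw [← Points.map_comp, e, Points.map_comp]
          exact ⟨_, rfl⟩
        rw [hr] at hmem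
        exact hmem.1 ⟨_, hcon, rfl⟩
      exact hx'
  · intro H
    obtain ⟨k₀, hk₀⟩ := (Groth.Agent.H51.exists_factor_iff_of_isOpenImmersion' w hw g.hom).2 (by
      rw [hr]
      rintro _ ⟨z', rfl⟩
      -- the pullbacks
      have sqY := IsPullback.of_hasPullback q.hom g.hom
      have hY' : IsAlgSpace (pullback q.hom g.hom) :=
        Groth.Agent.H49.isAlgSpace_of_isPullback sqY Z.property.diag Y.property Z'.property
      have sqX := IsPullback.of_hasPullback f.hom (pullback.fst q.hom g.hom)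
      have hX' : IsAlgSpace (pullback f.hom (pullback.fst q.hom g.hom)) :=
        Groth.Agent.H49.isAlgSpace_of_isPullback sqX Y.property.diag X.property hY'
      obtain ⟨hsurj, hP⟩ := H ⟨_, hY'⟩ (ObjectProperty.homMk (pullback.fst q.hom g.hom))
        (ObjectProperty.homMk (pullback.snd q.hom g.hom)) sqY ⟨_, hX'⟩
        (ObjectProperty.homMk (pullback.fst f.hom (pullback.fst q.hom g.hom)))
        (ObjectProperty.homMk (pullback.snd f.hom (pullback.fst q.hom g.hom))) sqX
      rw [locP_flat_iff_forall_isFlatAtMor] at hP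
      have hbc := Groth.Agent.H1.FlatLocusSp.isFlatAtMor_baseChange f q hfp hfl hft ⟨_, hX'⟩
        ⟨_, hY'⟩ Z' g (ObjectProperty.homMk (pullback.snd f.hom (pullback.fst q.hom g.hom)))
        (ObjectProperty.homMk (pullback.snd q.hom g.hom))
        (ObjectProperty.homMk (pullback.fst f.hom (pullback.fst q.hom g.hom)))
        (ObjectProperty.homMk (pullback.fst q.hom g.hom)) sqY sqX
      have key : ∀ x' : Points (pullback f.hom (pullback.fst q.hom g.hom)),
          IsFlatAtMor f.hom (Points.map (pullback.fst f.hom (pullback.fst q.hom g.hom)) x') :=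
        fun x' => (Set.ext_iff.mp hbc x').mp (hP x')
      constructor
      · rintro ⟨t, ht, hpt⟩
        have big := sqX.paste_vert sqY
        obtain ⟨x', hx't, -⟩ := Groth.Agent.H53.exists_point_of_isPullback big t z' hpt
        have h1 := key x'
        rw [hx't] at h1
        exact ht h1
      · rintro ⟨y, hy, hpt⟩
        obtain ⟨y', hy'y, -⟩ := Groth.Agent.H53.exists_point_of_isPullback sqY y z' hpt
        obtain ⟨x', hx'⟩ := hsurj y'
        apply hy
        refine ⟨Points.map (pullback.fst f.hom (pullback.fst q.hom g.hom)) x', key x', ?_⟩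
        rw [← Points.map_comp, sqX.w, Points.map_comp]
        have hx'' : Points.map (pullback.snd f.hom (pullback.fst q.hom g.hom)) x' = y' := hx'
        rw [hx'', hy'y])
    exact ⟨ObjectProperty.homMk k₀, ObjectProperty.hom_ext _ hk₀⟩

end Groth.Agent.H1.FlatWhere
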