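import Mathlib.FieldTheory.Galois.Basic
import Mathlib.RingTheory.Trace.Basic
import Mathlib.RingTheory.TensorProduct.Free
import Mathlib.LinearAlgebra.BilinearForm.Properties
import Mathlib.RingTheory.Flat.Basic
import Mathlib.LinearAlgebra.TensorProduct.Tower
import Mathlib.LinearAlgebra.Dimension.Constructions
import Mathlib.RingTheory.TensorProduct.Finite

/-!
Galois descent for subspaces of `K ⊗ W` stable under the Galois group.
-/

set_option autoImplicit false

open scoped TensorProduct

namespace Groth.Agent.H1

universe u v w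

section descent

variable (k : Type u) (K : Type v) [Field k] [Field K] [Algebra k K]
  (W : Type w) [AddCommGroup W] [Module k W]

/-- the action of an automorphism of `K` on `K ⊗ W` through the first factor. -/
noncomputable def galAct (σ : K ≃ₐ[k] K) : K ⊗[k] W →ₗ[k] K ⊗[k] W :=
  TensorProduct.map σ.toLinearMap LinearMap.id

variable {k K W}

@[simp]
theorem galAct_tmul (σ : K ≃ₐ[k] K) (c : K) (w : W) :
    galAct k K W σ (c ⊗ₜ[k] w) = σ c ⊗ₜ[k] w := by
  simp [galAct]

theorem galAct_smul (σ : K ≃ₐ[k] K) (c : K) (x : K ⊗[k] W) :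
    galAct k K W σ (c • x) = σ c • galAct k K W σ x := by
  induction x using TensorProduct.induction_on with
  | zero => simp
  | tmul a w => simp [TensorProduct.smul_tmul']
  | add x y hx hy => rw [smul_add, map_add, hx, hy, map_add, smul_add]

theorem galAct_mul (σ τ : K ≃ₐ[k] K) (x : K ⊗[k] W) :
    galAct k K W σ (galAct k K W τ x) = galAct k K W (σ * τ) x := by
  induction x using TensorProduct.induction_on with
  | zero => simp
  | tmul a w => simp
  | add x y hx hy => rw [map_add, map_add, hx, hy, map_add]

theorem galAct_one (x : K ⊗[k] W) : galAct k K W 1 x = x := by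
  induction x using TensorProduct.induction_on with
  | zero => simp
  | tmul a w => simp
  | add x y hx hy => rw [map_add, hx, hy]

variable [FiniteDimensional k K] [IsGalois k K]

variable (k K) in
open Classical in
/-- a pair of dual families for the trace form, seen through the Galois group. -/
theorem exists_dual_family : ∃ (m : ℕ) (b b' : Fin m → K), ∀ σ : K ≃ₐ[k] K,
    ∑ j, b' j * σ (b j) = if σ = 1 then 1 else 0 := by
  classical
  let m := Module.finrank k K
  let bs : Module.Basis (Fin m) k K := Module.finBasis k K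
  let bd : Module.Basis (Fin m) k K :=
    (Algebra.traceForm k K).dualBasis (traceForm_nondegenerate k K) bs
  let M : Matrix (K ≃ₐ[k] K) (Fin m) K := fun σ j => σ (bs j)
  let N : Matrix (Fin m) (K ≃ₐ[k] K) K := fun j σ => σ (bd j)
  have hNM : N * M = 1 := by
    ext i j
    rw [Matrix.mul_apply]
    simp only [M, N]
    have h1 : ∑ σ : K ≃ₐ[k] K, σ (bd i) * σ (bs j) = ∑ σ : K ≃ₐ[k] K, σ (bd i * bs j) := by
      refine Finset.sum_congr rfl fun σ _ => ?_
      rw [map_mul]
    rw [h1, ← trace_eq_sum_automorphisms]
    have h2 : Algebra.trace k K (bd i * bs j) = Algebra.traceForm k K (bd i) (bs j) := rfl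
    rw [h2, LinearMap.BilinForm.apply_dualBasis_left, Matrix.one_apply]
    by_cases hij : i = j
    · simp [hij]
    · have : ¬ j = i := fun h => hij h.symm
      simp [hij, this]
  have hcard : Fintype.card (Fin m) = Fintype.card (K ≃ₐ[k] K) := by
    rw [Fintype.card_fin, ← Nat.card_eq_fintype_card, IsGalois.card_aut_eq_finrank]
  have hMN : M * N = 1 := (Matrix.mul_eq_one_comm_of_card_eq (Fin m) (K ≃ₐ[k] K) K hcard).mp hNM
  refine ⟨m, fun j => bs j, fun j => bd j, fun σ => ?_⟩
  have h3 := congrFun (congrFun hMN σ) 1
  rw [Matrix.mul_apply, Matrix.one_apply] at h3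
  simp only [M, N, AlgEquiv.one_apply] at h3
  rw [← h3]
  refine Finset.sum_congr rfl fun j _ => ?_
  rw [mul_comm]

/-- Galois-invariant elements of `K ⊗ W` come from `W`. -/
theorem exists_eq_one_tmul_of_fixed (x : K ⊗[k] W) (hx : ∀ σ : K ≃ₐ[k] K, galAct k K W σ x = x) :
    ∃ w : W, (1 : K) ⊗ₜ[k] w = x := by
  classical
  let b := Module.Basis.ofVectorSpace k W
  let B := Algebra.TensorProduct.basis K b
  have hrepr : ∀ (σ : K ≃ₐ[k] K) (y : K ⊗[k] W) i, B.repr (galAct k K W σ y) i = σ (B.repr y i) := by
    intro σ y i
    induction y using TensorProduct.induction_on with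
    | zero => simp
    | tmul a w =>
      simp only [galAct_tmul, B, Algebra.TensorProduct.basis_repr_tmul, Finsupp.smul_apply,
        Finsupp.mapRange_apply, smul_eq_mul, map_mul, AlgEquiv.commutes]
    | add y z hy hz => simp only [map_add, Finsupp.add_apply, hy, hz]
  have hfix : ∀ i, B.repr x i ∈ Set.range (algebraMap k K) := by
    intro i
    rw [IsGalois.mem_range_algebraMap_iff_fixed]
    intro σ
    rw [← hrepr, hx]
  let g : K → k := fun c => if h : c ∈ Set.range (algebraMap k K) then h.choose else 0
  have hg : ∀ c ∈ Set.range (algebraMap k K), algebraMap k K (g c) = c := by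
    intro c hc
    simp only [g, dif_pos hc]
    exact hc.choose_spec
  have hg0 : g 0 = 0 := by
    have h0 : (0 : K) ∈ Set.range (algebraMap k K) := ⟨0, map_zero _⟩
    have := hg 0 h0
    exact (map_eq_zero_iff _ (algebraMap k K).injective).mp this
  let f : _ →₀ k := (B.repr x).mapRange g hg0
  refine ⟨b.repr.symm f, ?_⟩
  apply B.repr.injective
  ext i
  simp only [B, Algebra.TensorProduct.basis_repr_tmul, one_smul, Finsupp.mapRange_apply,
    LinearEquiv.apply_symm_apply, f]
  exact hg _ (hfix i)

/-- **Galois descent** for subspaces: a Galois-stable `K`-subspace of `K ⊗ W` has the same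
dimension as its `k`-subspace of rational points. -/
theorem finrank_comap_of_galois_stable (J : Submodule K (K ⊗[k] W))
    (hJ : ∀ (σ : K ≃ₐ[k] K) (x : K ⊗[k] W), x ∈ J → galAct k K W σ x ∈ J) :
    Module.finrank k ((J.restrictScalars k).comap (TensorProduct.mk k K W 1)) =
      Module.finrank K J := by
  classical
  set J₀ : Submodule k W := (J.restrictScalars k).comap (TensorProduct.mk k K W 1) with hJ₀
  have hmem : ∀ w : W, w ∈ J₀ ↔ (1 : K) ⊗ₜ[k] w ∈ J := fun w => Iff.rfl
  obtain ⟨m, bs, bd, hdual⟩ := exists_dual_family k K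
  let f : K ⊗[k] J₀ →ₗ[K] K ⊗[k] W := LinearMap.baseChange K J₀.subtype
  have hf_inj : Function.Injective f := by
    have : Function.Injective (J₀.subtype.lTensor K) :=
      Module.Flat.lTensor_preserves_injective_linearMap _ J₀.subtype_injective
    exact this
  have hrange : LinearMap.range f = J := by
    apply le_antisymm
    · rintro _ ⟨y, rfl⟩
      induction y using TensorProduct.induction_on with
      | zero => simp
      | tmul c w =>
        have : f (c ⊗ₜ[k] w) = c • ((1 : K) ⊗ₜ[k] (w : W)) := by
          simp [f, TensorProduct.smul_tmul']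
        rw [this]
        exact J.smul_mem c ((hmem _).mp w.2)
      | add y z hy hz => rw [map_add]; exact J.add_mem hy hz
    · intro x hx
      -- the traces
      have hT : ∀ j : Fin m, ∃ w : W, (1 : K) ⊗ₜ[k] w = ∑ σ : K ≃ₐ[k] K, galAct k K W σ (bs j • x) := by
        intro j
        apply exists_eq_one_tmul_of_fixed
        intro τ
        rw [map_sum]
        simp only [galAct_mul]
        exact Fintype.sum_equiv (Equiv.mulLeft τ) _ _ (fun σ => rfl)
      choose w hw using hT
      have hwJ : ∀ j, w j ∈ J₀ := by
        intro j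
        rw [hmem, hw j]
        exact J.sum_mem fun σ _ => hJ σ _ (J.smul_mem _ hx)
      have hx_eq : x = ∑ j, bd j • ((1 : K) ⊗ₜ[k] w j) := by
        simp only [hw, galAct_smul, Finset.smul_sum, smul_smul]
        rw [Finset.sum_comm]
        simp only [← Finset.sum_smul, hdual]
        simp [galAct_one]
      refine ⟨∑ j, bd j ⊗ₜ[k] (⟨w j, hwJ j⟩ : J₀), ?_⟩
      rw [map_sum, hx_eq]
      refine Finset.sum_congr rfl fun j _ => ?_
      simp [f, TensorProduct.smul_tmul']
  have h1 : Module.finrank K J = Module.finrank K (K ⊗[k] J₀) := by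
    rw [← hrange]
    exact LinearMap.finrank_range_of_inj hf_inj
  rw [h1, Module.finrank_baseChange]

end descent

end Groth.Agent.H1
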