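import Mathlib
import Groth.Agent.H14.HensProp.EtNbhdMain
import Groth.Agent.H25.FlatBCpt
import Groth.Agent.H53.FlatSource

set_option autoImplicit false
set_option linter.style.haveILetI false

/-!
# Geometric unibranchness descends along morphisms flat at a point
-/

namespace Groth.Agent.H1.GeomUnibranchFlat

universe u

open CategoryTheory CategoryTheory.Limits AlgebraicGeometry
open Groth.Agent.H14.HensProp

/-- Along an injective ring map, primality of the nilradical descends. -/
theorem isPrime_nilradical_of_injective {A B : Type u} [CommRing A] [CommRing B] (φ : A →+* B)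
    (hφ : Function.Injective φ) (hB : (nilradical B).IsPrime) : (nilradical A).IsPrime := by
  have h : nilradical A = (nilradical B).comap φ := by
    ext x
    rw [Ideal.mem_comap, mem_nilradical, mem_nilradical]
    constructor
    · intro hx
      exact hx.map φ
    · rintro ⟨n, hn⟩
      refine ⟨n, hφ ?_⟩
      rw [map_pow, hn, map_zero]
  rw [h]
  exact Ideal.comap_isPrime φ _

/-- The local ring of an étale scheme over `X` at a point over a geometrically unibranch point
has a unique minimal prime. -/
theorem isPrime_nilradical_stalk_of_etale {X U : Scheme.{u}} (g : U ⟶ X) [Etale g] (u : U)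
    (hA : CAlg2.IsGeomUnibranch (X.presheaf.stalk (g u))) :
    (nilradical (U.presheaf.stalk u)).IsPrime := by
  obtain ⟨u', rfl⟩ : ∃ u' : (⊤ : U.Opens), (⊤ : U.Opens).ι u' = u := ⟨⟨u, trivial⟩, rfl⟩
  letI := (g.stalkMap ((⊤ : U.Opens).ι u')).hom.toAlgebra
  obtain ⟨hloc, hfl, hU⟩ := EtStalk.stalk_package g ⊤ inferInstance u'
  haveI := hloc
  haveI : Module.Flat (X.presheaf.stalk (g ((⊤ : U.Opens).ι u')))
    (U.presheaf.stalk ((⊤ : U.Opens).ι u')) := hfl
  exact EtUniNR.isPrime_nilradical _ _ hA hU

/-- If `h` is flat at `u` and the local ring at `u` has a unique minimal prime, so has the local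
ring at `h u`. -/
theorem isPrime_nilradical_of_flat_stalkMap {U V : Scheme.{u}} (h : U ⟶ V) (u : U)
    (hfl : (h.stalkMap u).hom.Flat) (hu : (nilradical (U.presheaf.stalk u)).IsPrime) :
    (nilradical (V.presheaf.stalk (h u))).IsPrime := by
  have : IsLocalHom (h.stalkMap u).hom := h.toLRSHom.prop u
  have hff := Groth.Agent.H53.faithfullyFlat_of_flat_of_isLocalHom _ hfl
  letI := (h.stalkMap u).hom.toAlgebra
  have hff' : Module.FaithfullyFlat (V.presheaf.stalk (h u)) (U.presheaf.stalk u) := hff
  exact isPrime_nilradical_of_injective (h.stalkMap u).hom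
    (FaithfulSMul.algebraMap_injective (V.presheaf.stalk (h u)) (U.presheaf.stalk u)) hu

/-- **Descent of geometric unibranchness along a morphism flat at a point.** -/
theorem isGeomUnibranch_of_flat_stalkMap {U V : Scheme.{u}} (h : U ⟶ V) (u : U)
    (hfl : (h.stalkMap u).hom.Flat) (hu : CAlg2.IsGeomUnibranch (U.presheaf.stalk u)) :
    CAlg2.IsGeomUnibranch (V.presheaf.stalk (h u)) := by
  apply EtNbhdMain.isGeomUnibranch_of_forall_etale
  intro V' g v' hg hv'
  apply EtNbhdMain.encard_eq_one_of_isPrime_nilradical
  have sq : IsPullback (pullback.fst h g) (pullback.snd h g) h g := IsPullback.of_hasPullback h g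
  obtain ⟨u', hu'1, hu'2⟩ := Scheme.Pullback.exists_preimage_pullback (f := h) (g := g) u v'
    hv'.symm
  have hE : Etale (pullback.fst h g) := MorphismProperty.pullback_fst _ _ hg
  have h1 : (nilradical ((pullback h g).presheaf.stalk u')).IsPrime := by
    apply isPrime_nilradical_stalk_of_etale (pullback.fst h g) u'
    rw [hu'1]
    exact hu
  have h2 : ((pullback.snd h g).stalkMap u').hom.Flat := by
    apply Groth.Agent.H25.FlatBCpt.flat_stalkMap_of_isPullback sq u'
    rw [hu'1]
    exact hfl
  have h3 := isPrime_nilradical_of_flat_stalkMap (pullback.snd h g) u' h2 h1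
  rw [hu'2] at h3
  exact h3

end Groth.Agent.H1.GeomUnibranchFlat
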