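/-
helper1: residue fields of invariant rings — the residue field of the inertia ring is the separable
closure (general finite group acting on a commutative ring, maximal ideal).
-/
import Mathlib

set_option autoImplicit false

open scoped Pointwise
open Polynomial

namespace Groth.Agent.H1.InSep

universe u v

section basic

variable {B : Type u} [CommRing B] {H : Type v} [Group H] [MulSemiringAction H B]

instance smulCommClass_fixed : SMulCommClass H (FixedPoints.subring B H) B :=
  ⟨fun h r b => by
    change h • (r.1 * b) = r.1 * (h • b)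
    rw [smul_mul', r.2 h]⟩

instance isInvariant_fixed : Algebra.IsInvariant (FixedPoints.subring B H) B H :=
  ⟨fun b hb => ⟨⟨b, hb⟩, rfl⟩⟩

end basic

section cosets

variable {B : Type u} [CommRing B] {Γ : Type v} [Group Γ] [MulSemiringAction Γ B]

/-- the sum over left coset representatives of `H` of translates of an `H`-invariant element is
`Γ`-invariant. -/
theorem smul_sum_out_smul (H : Subgroup Γ) [Fintype (Γ ⧸ H)] (w : B) (hw : ∀ h ∈ H, h • w = w)
    (g : Γ) :
    g • ∑ q : Γ ⧸ H, (Quotient.out q : Γ) • w = ∑ q : Γ ⧸ H, (Quotient.out q : Γ) • w := by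
  rw [Finset.smul_sum]
  refine Fintype.sum_equiv (MulAction.toPerm g) _ _ (fun q => ?_)
  have e : (QuotientGroup.mk (Quotient.out (g • q)) : Γ ⧸ H) =
      QuotientGroup.mk (g * Quotient.out q) := by
    rw [QuotientGroup.out_eq']
    conv_lhs => rw [← QuotientGroup.out_eq' q]
    rfl
  have hmem := QuotientGroup.eq.mp e
  have h1 := hw _ hmem
  rw [MulAction.toPerm_apply]
  calc g • (Quotient.out q : Γ) • w = (g * Quotient.out q) • w := (mul_smul _ _ _).symm
    _ = (Quotient.out (g • q) * ((Quotient.out (g • q))⁻¹ * (g * Quotient.out q))) • w := by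
        rw [mul_inv_cancel_left]
    _ = (Quotient.out (g • q) : Γ) • w := by rw [mul_smul, h1]

end cosets

section inertiaOnly

variable {B : Type u} [CommRing B] {H : Type v} [Group H] [Finite H] [MulSemiringAction H B]
  (P : Ideal B) [P.IsMaximal]

instance isMaximal_under_fixed : (P.under (FixedPoints.subring B H)).IsMaximal := by
  have : Algebra.IsIntegral (FixedPoints.subring B H) B :=
    Algebra.IsInvariant.isIntegral (FixedPoints.subring B H) B H
  exact Ideal.isMaximal_comap_of_isIntegral_of_isMaximal P

attribute [local instance] Ideal.Quotient.field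

variable (hH : ∀ (h : H) (b : B), h • b - b ∈ P)

include hH in
/-- if the whole group is inertia, the residue field extension has no nontrivial automorphism. -/
theorem algEquiv_eq_one
    (σ : (B ⧸ P) ≃ₐ[FixedPoints.subring B H ⧸ P.under (FixedPoints.subring B H)] (B ⧸ P)) :
    σ = 1 := by
  obtain ⟨⟨h, hh⟩, rfl⟩ := Ideal.Quotient.stabilizerHom_surjective H
    (P.under (FixedPoints.subring B H)) P σ
  ext x
  obtain ⟨b, rfl⟩ := Ideal.Quotient.mk_surjective x
  rw [Ideal.Quotient.stabilizerHom_apply]
  change Ideal.Quotient.mk P (h • b) = Ideal.Quotient.mk P b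
  rw [Ideal.Quotient.eq]
  exact hH h b

include hH in
/-- a separable element of the residue field of `P` is the class of an invariant element. -/
theorem mem_range_of_isSeparable (x : B ⧸ P)
    (hx : IsSeparable (FixedPoints.subring B H ⧸ P.under (FixedPoints.subring B H)) x) :
    ∃ y : B, (∀ h : H, h • y = y) ∧ Ideal.Quotient.mk P y = x := by
  have hnorm : Normal (FixedPoints.subring B H ⧸ P.under (FixedPoints.subring B H)) (B ⧸ P) :=
    Ideal.Quotient.normal H (P.under (FixedPoints.subring B H)) P
  have hsplit := hnorm.splits x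
  by_contra hcon
  have hnot : x ∉ (⊥ : Subalgebra (FixedPoints.subring B H ⧸ P.under (FixedPoints.subring B H))
      (B ⧸ P)) := by
    intro hmem
    obtain ⟨k, hk⟩ := Algebra.mem_bot.mp hmem
    obtain ⟨r, rfl⟩ := Ideal.Quotient.mk_surjective k
    exact hcon ⟨r.1, r.2, hk⟩
  obtain ⟨y, hxy, hconj⟩ := (notMem_iff_exists_ne_and_isConjRoot hx hsplit).mp hnot
  obtain ⟨σ, hσ⟩ := isConjRoot_iff_exists_algEquiv.mp hconj
  rw [algEquiv_eq_one P hH σ] at hσ
  exact hxy hσ.symm

include hH in
/-- (⇐) a root modulo `P` of a polynomial with invariant coefficients and separable reduction is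
congruent to an invariant element. -/
theorem exists_invariant_of_root (x : B) (g : B[X])
    (hg : ∀ (i : ℕ) (h : H), h • g.coeff i = g.coeff i)
    (hsep : (g.map (Ideal.Quotient.mk P)).Separable) (hx : aeval x g ∈ P) :
    ∃ y : B, (∀ h : H, h • y = y) ∧ x - y ∈ P := by
  have hcoeffs : (↑g.coeffs : Set B) ⊆ (FixedPoints.subring B H : Set B) := by
    intro c hc
    obtain ⟨n, _, rfl⟩ := Polynomial.mem_coeffs_iff.mp hc
    exact hg n
  set g' := g.toSubring (FixedPoints.subring B H) hcoeffs with hg'
  have hg'map : g'.map (FixedPoints.subring B H).subtype = g := Polynomial.map_toSubring _ _ _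
  set gbar := g'.map (Ideal.Quotient.mk (P.under (FixedPoints.subring B H))) with hgbar
  have hcomp : (algebraMap (FixedPoints.subring B H ⧸ P.under (FixedPoints.subring B H))
      (B ⧸ P)).comp (Ideal.Quotient.mk (P.under (FixedPoints.subring B H))) =
      (Ideal.Quotient.mk P).comp (FixedPoints.subring B H).subtype := by
    ext r; rfl
  have hmap : gbar.map (algebraMap (FixedPoints.subring B H ⧸ P.under (FixedPoints.subring B H))
      (B ⧸ P)) = g.map (Ideal.Quotient.mk P) := by
    rw [hgbar, Polynomial.map_map, hcomp, ← Polynomial.map_map, hg'map]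
  have hsep' : gbar.Separable := by
    rw [← Polynomial.separable_map (algebraMap (FixedPoints.subring B H ⧸
      P.under (FixedPoints.subring B H)) (B ⧸ P)), hmap]
    exact hsep
  have hroot : aeval (Ideal.Quotient.mk P x) gbar = 0 := by
    rw [← Polynomial.eval_map_algebraMap, hmap, Polynomial.eval_map, Polynomial.eval₂_hom]
    rw [Polynomial.coe_aeval_eq_eval] at hx
    exact Ideal.Quotient.eq_zero_iff_mem.mpr hx
  have hxsep : IsSeparable (FixedPoints.subring B H ⧸ P.under (FixedPoints.subring B H))
      (Ideal.Quotient.mk P x) := hsep'.of_dvd (minpoly.dvd _ _ hroot)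
  obtain ⟨y, hy, hyx⟩ := mem_range_of_isSeparable P hH _ hxsep
  refine ⟨y, hy, ?_⟩
  rw [← Ideal.Quotient.eq]
  exact hyx.symm

include hH in
/-- a ring automorphism of the residue field fixing the classes of invariant elements is trivial. -/
theorem ringEquiv_apply_eq (f : (B ⧸ P) ≃+* (B ⧸ P))
    (hf : ∀ r : B, (∀ h : H, h • r = r) → f (Ideal.Quotient.mk P r) = Ideal.Quotient.mk P r)
    (x : B ⧸ P) : f x = x := by
  let σ : (B ⧸ P) ≃ₐ[FixedPoints.subring B H ⧸ P.under (FixedPoints.subring B H)] (B ⧸ P) :=
    AlgEquiv.ofRingEquiv (f := f) (fun k => by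
      obtain ⟨r, rfl⟩ := Ideal.Quotient.mk_surjective k
      exact hf r.1 r.2)
  have := algEquiv_eq_one P hH σ
  have h2 : σ x = x := by rw [this]; rfl
  exact h2

end inertiaOnly

section separating

variable {B : Type u} [CommRing B] {Γ : Type v} [Group Γ] [Finite Γ] [MulSemiringAction Γ B]
  (P : Ideal B) [P.IsMaximal]

omit [Finite Γ] in
theorem exists_smul_mem_notMem {σ : Γ} (hσ : σ ∉ MulAction.stabilizer Γ P) :
    ∃ v : B, σ • v ∈ P ∧ v ∉ P := by
  by_contra hcon
  push Not at hcon
  apply hσ
  have hsurj : Function.Surjective (MulSemiringAction.toRingHom Γ B σ) := by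
    intro b
    exact ⟨σ⁻¹ • b, by simp⟩
  have hmax : (P.comap (MulSemiringAction.toRingHom Γ B σ)).IsMaximal :=
    Ideal.comap_isMaximal_of_surjective _ hsurj
  have hle : P.comap (MulSemiringAction.toRingHom Γ B σ) ≤ P := fun v hv => hcon v hv
  have heq : P.comap (MulSemiringAction.toRingHom Γ B σ) = P :=
    hmax.eq_of_le (Ideal.IsMaximal.ne_top inferInstance) hle
  rw [MulAction.mem_stabilizer_iff]
  ext y
  rw [Ideal.mem_pointwise_smul_iff_inv_smul_mem]
  constructor
  · intro hy
    have : σ⁻¹ • y ∈ P.comap (MulSemiringAction.toRingHom Γ B σ) := by rw [heq]; exact hy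
    simpa using this
  · intro hy
    rw [← heq]
    simpa using hy

/-- an element invariant under the decomposition group, not in `P`, all of whose translates by
elements outside the decomposition group lie in `P`. -/
theorem exists_separating_elt :
    ∃ u : B, (∀ d ∈ MulAction.stabilizer Γ P, d • u = u) ∧ u ∉ P ∧
      ∀ σ : Γ, σ ∉ MulAction.stabilizer Γ P → σ • u ∈ P := by
  classical
  cases nonempty_fintype Γ
  have hprime : P.IsPrime := Ideal.IsMaximal.isPrime inferInstance
  choose! v hv1 hv2 using fun (σ : Γ) (hσ : σ ∉ MulAction.stabilizer Γ P) =>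
    exists_smul_mem_notMem P hσ
  let w : Γ → B := fun σ => if σ ∈ MulAction.stabilizer Γ P then 1 else v σ
  have hw : ∀ σ, w σ ∉ P := by
    intro σ
    simp only [w]
    split_ifs with h
    · exact (Ideal.ne_top_iff_one P).mp hprime.ne_top
    · exact hv2 σ h
  let V : B := ∏ σ : Γ, w σ
  have hV : V ∉ P := by
    intro h
    obtain ⟨σ, _, hσ⟩ := (hprime.prod_mem_iff).mp h
    exact hw σ hσ
  refine ⟨∏ d : MulAction.stabilizer Γ P, d • V, ?_, ?_, ?_⟩
  · intro d hd
    exact Finset.smul_prod_perm V (⟨d, hd⟩ : MulAction.stabilizer Γ P)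
  · intro h
    obtain ⟨d, _, hd⟩ := (hprime.prod_mem_iff).mp h
    apply hV
    have h1 : (d : Γ) • V ∈ (d : Γ) • P := by
      rw [MulAction.mem_stabilizer_iff.mp d.2]; exact hd
    exact (Ideal.smul_mem_pointwise_smul_iff).mp h1
  · intro σ hσ
    rw [Finset.smul_prod']
    refine Ideal.prod_mem P (Finset.mem_univ (1 : MulAction.stabilizer Γ P)) ?_
    rw [one_smul]
    simp only [V]
    rw [Finset.smul_prod']
    refine Ideal.prod_mem P (Finset.mem_univ σ) ?_
    simp only [w, if_neg hσ]
    exact hv1 σ hσ

end separating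

end Groth.Agent.H1.InSep
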