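/-
helper1: residue fields of invariant rings, part 2 — congruence of decomposition-invariant
classes to global invariants, and the separable polynomial of an inertia-invariant element.
-/
import Groth.Agent.H1.InertiaSep

set_option autoImplicit false

open scoped Pointwise
open Polynomial

namespace Groth.Agent.H1.InSep

universe u v

section K2

variable {B : Type u} [CommRing B] {Γ : Type v} [Group Γ] [MulSemiringAction Γ B]
  (P : Ideal B)

/-- `r ↦ class of σ • r` on the inertia ring. -/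
noncomputable def phi (σ : Γ) : FixedPoints.subring B ↥(P.inertia Γ) →* B ⧸ P :=
  (((Ideal.Quotient.mk P).comp ((MulSemiringAction.toRingHom Γ B σ).comp
    (FixedPoints.subring B ↥(P.inertia Γ)).subtype) :
      FixedPoints.subring B ↥(P.inertia Γ) →+* B ⧸ P) : FixedPoints.subring B ↥(P.inertia Γ) →* B ⧸ P)

theorem phi_apply (σ : Γ) (r : FixedPoints.subring B ↥(P.inertia Γ)) :
    phi P σ r = Ideal.Quotient.mk P (σ • (r : B)) := rfl

theorem inertia_smul_sub_mem (t : ↥(P.inertia Γ)) (b : B) : t • b - b ∈ P := t.2 b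

theorem smul_mem_of_mem_stabilizer {d : Γ} (hd : d ∈ MulAction.stabilizer Γ P) {b : B}
    (hb : b ∈ P) : d • b ∈ P := by
  have h1 : d • b ∈ d • P := Ideal.smul_mem_pointwise_smul_iff.mpr hb
  rwa [MulAction.mem_stabilizer_iff.mp hd] at h1

variable [Finite Γ] [P.IsMaximal]

theorem inv_mul_mem_inertia_of_phi_eq {σ τ : Γ} (hσ : σ ∈ MulAction.stabilizer Γ P)
    (hτ : τ ∈ MulAction.stabilizer Γ P) (h : phi P σ = phi P τ) : σ⁻¹ * τ ∈ P.inertia Γ := by
  have hρ : σ⁻¹ * τ ∈ MulAction.stabilizer Γ P := mul_mem (inv_mem hσ) hτ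
  set f : (B ⧸ P) ≃+* (B ⧸ P) :=
    (Ideal.Quotient.stabilizerHom P (P.under ℤ) Γ ⟨σ⁻¹ * τ, hρ⟩).toRingEquiv with hf
  have hfa : ∀ b : B, f (Ideal.Quotient.mk P b) = Ideal.Quotient.mk P ((σ⁻¹ * τ) • b) := by
    intro b
    rfl
  have key : ∀ x : B ⧸ P, f x = x := by
    refine ringEquiv_apply_eq (H := ↥(P.inertia Γ)) P (inertia_smul_sub_mem P) f ?_
    intro r hr
    rw [hfa, Ideal.Quotient.eq]
    have h1 : phi P σ ⟨r, hr⟩ = phi P τ ⟨r, hr⟩ := by rw [h]
    rw [phi_apply, phi_apply, Ideal.Quotient.eq] at h1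
    have h2 := smul_mem_of_mem_stabilizer P (inv_mem hσ) h1
    rw [smul_sub, inv_smul_smul, ← mul_smul] at h2
    have h3 := P.neg_mem h2
    rwa [neg_sub] at h3
  intro b
  have := key (Ideal.Quotient.mk P b)
  rw [hfa, Ideal.Quotient.eq] at this
  exact this

end K2

section K3

variable {B : Type u} [CommRing B] {Γ : Type v} [Group Γ] [Finite Γ] [MulSemiringAction Γ B]
  (P : Ideal B) [P.IsMaximal]

omit [Finite Γ] [P.IsMaximal] in
/-- the class modulo `P` of a sum over coset representatives of the inertia group of translates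
of `r * u`, `u` separating. -/
theorem mk_sum_out_smul [Fintype (Γ ⧸ P.inertia Γ)]
    [DecidablePred fun q : Γ ⧸ P.inertia Γ => (Quotient.out q : Γ) ∈ MulAction.stabilizer Γ P]
    (u : B) (huD : ∀ d ∈ MulAction.stabilizer Γ P, d • u = u)
    (huσ : ∀ σ : Γ, σ ∉ MulAction.stabilizer Γ P → σ • u ∈ P) (r : B) :
    Ideal.Quotient.mk P (∑ q : Γ ⧸ P.inertia Γ, (Quotient.out q : Γ) • (r * u)) =
      Ideal.Quotient.mk P u *
        ∑ q : {q : Γ ⧸ P.inertia Γ // (Quotient.out q : Γ) ∈ MulAction.stabilizer Γ P},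
          Ideal.Quotient.mk P ((Quotient.out q.1 : Γ) • r) := by
  rw [map_sum, Finset.mul_sum]
  rw [← Finset.sum_subtype (Finset.univ.filter
    (fun q : Γ ⧸ P.inertia Γ => (Quotient.out q : Γ) ∈ MulAction.stabilizer Γ P))
    (by intro q; simp)
    (fun q => Ideal.Quotient.mk P u * Ideal.Quotient.mk P ((Quotient.out q : Γ) • r))]
  rw [Finset.sum_filter]
  refine Finset.sum_congr rfl (fun q _ => ?_)
  split_ifs with hq
  · rw [smul_mul', huD _ hq, map_mul, mul_comm]
  · rw [smul_mul', Ideal.Quotient.eq_zero_iff_mem]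
    exact P.mul_mem_left _ (huσ _ hq)

/-- an inertia-invariant element whose class is fixed by the decomposition group is congruent
modulo `P` to a `Γ`-invariant element. -/
theorem exists_invariant_congr (c : B) (hcT : ∀ t ∈ P.inertia Γ, t • c = c)
    (hcD : ∀ d ∈ MulAction.stabilizer Γ P, d • c - c ∈ P) :
    ∃ a : B, (∀ γ : Γ, γ • a = a) ∧ a - c ∈ P := by
  classical
  cases nonempty_fintype Γ
  obtain ⟨u, huD, huP, huσ⟩ := exists_separating_elt (Γ := Γ) P
  have hTD : P.inertia Γ ≤ MulAction.stabilizer Γ P := Ideal.inertia_le_stabilizer P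
  have huT : ∀ t ∈ P.inertia Γ, t • u = u := fun t ht => huD t (hTD ht)
  -- the family of characters
  let I := {q : Γ ⧸ P.inertia Γ // (Quotient.out q : Γ) ∈ MulAction.stabilizer Γ P}
  let ψ : I → (FixedPoints.subring B ↥(P.inertia Γ) →* B ⧸ P) :=
    fun q => phi P (Quotient.out q.1 : Γ)
  have hinj : Function.Injective ψ := by
    intro q q' h
    have h1 := inv_mul_mem_inertia_of_phi_eq P q.2 q'.2 h
    apply Subtype.ext
    rw [← QuotientGroup.out_eq' q.1, ← QuotientGroup.out_eq' q'.1]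
    exact QuotientGroup.eq.mpr h1
  have hli := (linearIndependent_monoidHom (FixedPoints.subring B ↥(P.inertia Γ)) (B ⧸ P)).comp
    ψ hinj
  have hne : ∃ r : FixedPoints.subring B ↥(P.inertia Γ), ∑ q : I, ψ q r ≠ 0 := by
    by_contra hcon
    push Not at hcon
    have h0 := Fintype.linearIndependent_iff.mp hli (fun _ => 1) (by
      ext r
      simpa using hcon r)
    have hq0 : (Quotient.out (QuotientGroup.mk 1 : Γ ⧸ P.inertia Γ) : Γ) ∈
        MulAction.stabilizer Γ P := by
      obtain ⟨h, hh⟩ := QuotientGroup.mk_out_eq_mul (P.inertia Γ) (1 : Γ)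
      rw [hh, one_mul]
      exact hTD h.2
    exact one_ne_zero (h0 ⟨_, hq0⟩)
  obtain ⟨r, hr⟩ := hne
  have hrT : ∀ t ∈ P.inertia Γ, t • (r : B) = r := fun t ht => r.2 ⟨t, ht⟩
  -- the two invariant sums
  have hw2 : ∀ t ∈ P.inertia Γ, t • ((r : B) * u) = (r : B) * u := by
    intro t ht
    rw [smul_mul', hrT t ht, huT t ht]
  have hw1 : ∀ t ∈ P.inertia Γ, t • (c * (r : B) * u) = c * (r : B) * u := by
    intro t ht
    rw [smul_mul', smul_mul', hcT t ht, hrT t ht, huT t ht]
  set a₂ : B := ∑ q : Γ ⧸ P.inertia Γ, (Quotient.out q : Γ) • ((r : B) * u) with ha₂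
  set a₁ : B := ∑ q : Γ ⧸ P.inertia Γ, (Quotient.out q : Γ) • (c * (r : B) * u) with ha₁
  have ha₂inv : ∀ γ : Γ, γ • a₂ = a₂ := smul_sum_out_smul (P.inertia Γ) _ hw2
  have ha₁inv : ∀ γ : Γ, γ • a₁ = a₁ := smul_sum_out_smul (P.inertia Γ) _ hw1
  have hmk2 : Ideal.Quotient.mk P a₂ = Ideal.Quotient.mk P u * ∑ q : I, ψ q r :=
    mk_sum_out_smul P u huD huσ (r : B)
  have hmk1 : Ideal.Quotient.mk P a₁ =
      Ideal.Quotient.mk P c * (Ideal.Quotient.mk P u * ∑ q : I, ψ q r) := by
    rw [ha₁, mk_sum_out_smul P u huD huσ (c * (r : B)), mul_left_comm]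
    congr 1
    rw [Finset.mul_sum]
    refine Finset.sum_congr rfl (fun q _ => ?_)
    rw [smul_mul', map_mul]
    congr 1
    rw [Ideal.Quotient.eq]
    exact hcD _ q.2
  have hmku : Ideal.Quotient.mk P u ≠ 0 := fun h => huP (Ideal.Quotient.eq_zero_iff_mem.mp h)
  have ha₂P : a₂ ∉ P := by
    intro h
    have := Ideal.Quotient.eq_zero_iff_mem.mpr h
    rw [hmk2] at this
    exact (mul_ne_zero hmku hr) this
  -- invert `a₂` inside the ring of invariants
  have hmax : (P.under (FixedPoints.subring B Γ)).IsMaximal := isMaximal_under_fixed (H := Γ) P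
  have hx : (⟨a₂, ha₂inv⟩ : FixedPoints.subring B Γ) ∉ P.under (FixedPoints.subring B Γ) := by
    intro h
    exact ha₂P (Ideal.mem_comap.mp h)
  obtain ⟨y, i, hi, hyi⟩ := hmax.exists_inv hx
  have hyi' : (y : B) * a₂ + (i : B) = 1 := by
    have := congrArg (FixedPoints.subring B Γ).subtype hyi
    simpa using this
  have hiP : (i : B) ∈ P := Ideal.mem_comap.mp hi
  have hmky : Ideal.Quotient.mk P (y : B) * Ideal.Quotient.mk P a₂ = 1 := by
    rw [← map_mul, ← map_one (Ideal.Quotient.mk P), Ideal.Quotient.eq, ← hyi']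
    simpa using P.neg_mem hiP
  refine ⟨a₁ * y, ?_, ?_⟩
  · intro γ
    rw [smul_mul', ha₁inv γ, y.2 γ]
  · rw [← Ideal.Quotient.eq, map_mul, hmk1, ← hmk2, mul_assoc, mul_comm (Ideal.Quotient.mk P a₂),
      hmky, mul_one]

end K3

section forward

variable {B : Type u} [CommRing B] {Γ : Type v} [Group Γ] [Finite Γ] [MulSemiringAction Γ B]
  (P : Ideal B) [P.IsMaximal]

omit [Finite Γ] [P.IsMaximal] in
theorem conj_mem_inertia {d t : Γ} (hd : d ∈ MulAction.stabilizer Γ P) (ht : t ∈ P.inertia Γ) :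
    d⁻¹ * t * d ∈ P.inertia Γ := by
  intro b
  have h1 : t • (d • b) - d • b ∈ P := ht (d • b)
  have h2 := smul_mem_of_mem_stabilizer P (inv_mem hd) h1
  rw [smul_sub, inv_smul_smul, ← mul_smul, ← mul_smul] at h2
  exact h2

omit [Finite Γ] [P.IsMaximal] in
theorem smul_invariant_of_mem_stabilizer {d : Γ} (hd : d ∈ MulAction.stabilizer Γ P) {y : B}
    (hy : ∀ t ∈ P.inertia Γ, t • y = y) : ∀ t ∈ P.inertia Γ, t • (d • y) = d • y := by
  intro t ht
  have h1 := hy _ (conj_mem_inertia P hd ht)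
  rw [mul_smul, mul_smul] at h1
  have h2 := congrArg (fun z => d • z) h1
  simpa using h2

/-- (⇒) an inertia-invariant element is, modulo `P`, a root of a polynomial with `Γ`-invariant
coefficients and separable reduction. -/
theorem exists_poly_of_invariant (y : B) (hy : ∀ t ∈ P.inertia Γ, t • y = y) :
    ∃ g : B[X], (∀ (i : ℕ) (γ : Γ), γ • g.coeff i = g.coeff i) ∧
      (g.map (Ideal.Quotient.mk P)).Separable ∧ aeval y g ∈ P := by
  classical
  cases nonempty_fintype Γ
  let _ : Field (B ⧸ P) := Ideal.Quotient.field P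
  let act : MulSemiringAction ↥(MulAction.stabilizer Γ P) (B ⧸ P) :=
    MulSemiringAction.compHom (B ⧸ P) (Ideal.Quotient.stabilizerHom P (P.under ℤ) Γ)
  have hact : ∀ (d : ↥(MulAction.stabilizer Γ P)) (b : B),
      d • Ideal.Quotient.mk P b = Ideal.Quotient.mk P ((d : Γ) • b) := fun d b => rfl
  set fbar := prodXSubSMul ↥(MulAction.stabilizer Γ P) (B ⧸ P) (Ideal.Quotient.mk P y) with hfbar
  have hsep : fbar.Separable := by
    rw [hfbar]
    unfold prodXSubSMul
    exact separable_prod_X_sub_C_iff.2 (MulAction.injective_ofQuotientStabilizer _ _)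
  -- the coefficients of `fbar` are classes of inertia-invariant elements
  set f : FixedPoints.subring B ↥(P.inertia Γ) →+* B ⧸ P :=
    (Ideal.Quotient.mk P).comp (FixedPoints.subring B ↥(P.inertia Γ)).subtype with hf
  have hlift : fbar ∈ Polynomial.lifts f := by
    rw [lifts_iff_liftsRing, hfbar]
    unfold prodXSubSMul
    refine Subring.prod_mem _ (fun q _ => ?_)
    refine Subring.sub_mem _ ((lifts_iff_liftsRing _ _).mp (X_mem_lifts f)) ?_
    refine (lifts_iff_liftsRing _ _).mp (C'_mem_lifts ?_)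
    obtain ⟨d, rfl⟩ := QuotientGroup.mk_surjective q
    rw [MulAction.ofQuotientStabilizer_mk, hact]
    exact ⟨⟨(d : Γ) • y, fun t => smul_invariant_of_mem_stabilizer P d.2 hy t.1 t.2⟩, rfl⟩
  have hcoeff := (lifts_iff_coeff_lifts _).mp hlift
  choose c hc using hcoeff
  have hcD : ∀ (n : ℕ) (d : Γ), d ∈ MulAction.stabilizer Γ P → d • (c n : B) - (c n : B) ∈ P := by
    intro n d hd
    rw [← Ideal.Quotient.eq, ← hact ⟨d, hd⟩]
    have h1 : Ideal.Quotient.mk P (c n : B) = fbar.coeff n := hc n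
    rw [h1]
    exact prodXSubSMul.coeff _ _ _ _ n
  have hex : ∀ n : ℕ, ∃ a : B, (∀ γ : Γ, γ • a = a) ∧ a - (c n : B) ∈ P := fun n =>
    exists_invariant_congr P (c n : B) (fun t ht => (c n).2 ⟨t, ht⟩) (hcD n)
  choose a ha1 ha2 using hex
  have hmka : ∀ n, Ideal.Quotient.mk P (a n) = fbar.coeff n := by
    intro n
    rw [← hc n]
    exact Ideal.Quotient.eq.mpr (ha2 n)
  set g : B[X] := ∑ n ∈ Finset.range (fbar.natDegree + 1), monomial n (a n) with hg
  have hgcoeff : ∀ i, g.coeff i = if i < fbar.natDegree + 1 then a i else 0 := by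
    intro i
    rw [hg, finsetSum_coeff]
    simp only [coeff_monomial]
    rw [Finset.sum_ite_eq' (Finset.range (fbar.natDegree + 1)) i]
    simp only [Finset.mem_range]
  have hgmap : g.map (Ideal.Quotient.mk P) = fbar := by
    ext i
    rw [coeff_map, hgcoeff]
    split_ifs with h
    · exact hmka i
    · rw [map_zero]
      exact (coeff_eq_zero_of_natDegree_lt (by omega)).symm
  refine ⟨g, ?_, ?_, ?_⟩
  · intro i γ
    rw [hgcoeff]
    split_ifs
    · exact ha1 i γ
    · exact smul_zero γ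
  · rw [hgmap]
    exact hsep
  · rw [← Ideal.Quotient.eq_zero_iff_mem, coe_aeval_eq_eval, ← eval₂_hom, ← eval_map, hgmap]
    exact prodXSubSMul.eval _ _ _

end forward

end Groth.Agent.H1.InSep
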