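/-
helper1: invariants of a subgroup are standard étale over the full invariants, after inverting the
derivative of the characteristic polynomial of an invariant element (Lagrange interpolation).
-/
import Groth.Agent.H1.InertiaSep

set_option autoImplicit false
set_option linter.unusedSectionVars false

open scoped Pointwise
open Polynomial

namespace Groth.Agent.H1.InvEt

universe u v

section cosetprod

variable {M : Type u} [CommRing M] {G : Type v} [Group G] [MulSemiringAction G M]

/-- the product over left coset representatives of `H` of translates of an `H`-invariant element is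
`G`-invariant. -/
theorem smul_prod_out_smul (H : Subgroup G) [Fintype (G ⧸ H)] (w : M) (hw : ∀ h ∈ H, h • w = w)
    (g : G) :
    g • ∏ q : G ⧸ H, (Quotient.out q : G) • w = ∏ q : G ⧸ H, (Quotient.out q : G) • w := by
  rw [Finset.smul_prod']
  refine Fintype.prod_equiv (MulAction.toPerm g) _ _ (fun q => ?_)
  have e : (QuotientGroup.mk (Quotient.out (g • q)) : G ⧸ H) =
      QuotientGroup.mk (g * Quotient.out q) := by
    rw [QuotientGroup.out_eq']
    conv_lhs => rw [← QuotientGroup.out_eq' q]
    rfl
  have hmem := QuotientGroup.eq.mp e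
  have h1 := hw _ hmem
  rw [MulAction.toPerm_apply]
  calc g • (Quotient.out q : G) • w = (g * Quotient.out q) • w := (mul_smul _ _ _).symm
    _ = (Quotient.out (g • q) * ((Quotient.out (g • q))⁻¹ * (g * Quotient.out q))) • w := by
        rw [mul_inv_cancel_left]
    _ = (Quotient.out (g • q) : G) • w := by rw [mul_smul, h1]

theorem out_one_mem (H : Subgroup G) : (Quotient.out (QuotientGroup.mk 1 : G ⧸ H) : G) ∈ H := by
  obtain ⟨h, hh⟩ := QuotientGroup.mk_out_eq_mul H (1 : G)
  rw [hh, one_mul]
  exact h.2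

theorem out_notMem (H : Subgroup G) {q : G ⧸ H} (hq : q ≠ QuotientGroup.mk 1) :
    (Quotient.out q : G) ∉ H := by
  intro h
  apply hq
  rw [← QuotientGroup.out_eq' q]
  exact QuotientGroup.eq.mpr (by simpa using h)

end cosetprod

section poly

variable {R : Type u} [CommRing R] {G : Type v} [Group G] [MulSemiringAction G R]
  (H : Subgroup G) [Fintype (G ⧸ H)] [DecidableEq (G ⧸ H)] (θ : R)

/-- the characteristic polynomial `∏ (X - σ θ)` over the cosets `σ H`. -/
noncomputable def FR : R[X] := ∏ q : G ⧸ H, (Quotient.out q : G) • (X - C θ)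

/-- the cofactor `∏_{σ ≠ 1} (X - σ θ)`. -/
noncomputable def F1 : R[X] :=
  ∏ q ∈ Finset.univ.erase (QuotientGroup.mk 1 : G ⧸ H), (Quotient.out q : G) • (X - C θ)

theorem smul_X_sub_C (g : G) : g • (X - C θ : R[X]) = X - C (g • θ) := by
  rw [smul_sub, smul_X, smul_C]

omit [DecidableEq (G ⧸ H)] in
theorem FR_eq_prod : FR H θ = ∏ q : G ⧸ H, (X - C ((Quotient.out q : G) • θ)) := by
  unfold FR
  simp only [smul_X_sub_C]

theorem FR_monic : (FR H θ).Monic := by
  rw [FR_eq_prod]
  exact monic_prod_of_monic _ _ fun _ _ => monic_X_sub_C _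

variable {θ} (hθ : ∀ h ∈ H, h • θ = θ)

omit [Fintype (G ⧸ H)] [DecidableEq (G ⧸ H)] in
include hθ in
theorem smul_X_sub_C_of_mem {h : G} (hh : h ∈ H) : h • (X - C θ : R[X]) = X - C θ := by
  rw [smul_X_sub_C, hθ h hh]

include hθ in
theorem smul_FR (g : G) : g • FR H θ = FR H θ :=
  smul_prod_out_smul H _ (fun _ hh => smul_X_sub_C_of_mem H hθ hh) g

include hθ in
theorem FR_eq_mul : FR H θ = (X - C θ) * F1 H θ := by
  unfold FR F1
  rw [← Finset.mul_prod_erase Finset.univ _ (Finset.mem_univ (QuotientGroup.mk 1 : G ⧸ H)),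
    smul_X_sub_C_of_mem H hθ (out_one_mem H)]

include hθ in
theorem eval_FR : eval θ (FR H θ) = 0 := by
  rw [FR_eq_mul H hθ, eval_mul, eval_sub, eval_X, eval_C, sub_self, zero_mul]

include hθ in
theorem eval_derivative_FR : eval θ (derivative (FR H θ)) = eval θ (F1 H θ) := by
  rw [FR_eq_mul H hθ, derivative_mul, derivative_sub, derivative_X, derivative_C, sub_zero, one_mul,
    eval_add, eval_mul, eval_sub, eval_X, eval_C, sub_self, zero_mul, add_zero]

include hθ in
theorem smul_F1_of_mem {h : G} (hh : h ∈ H) : h • F1 H θ = F1 H θ := by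
  have h1 : h • FR H θ = FR H θ := smul_FR H hθ h
  rw [FR_eq_mul H hθ, smul_mul', smul_X_sub_C_of_mem H hθ hh] at h1
  exact (monic_X_sub_C θ).isRegular.left h1

include hθ in
theorem eval_smul_F1_of_notMem {g : G} (hg : g ∉ H) : eval θ (g • F1 H θ) = 0 := by
  unfold F1
  rw [Finset.smul_prod', eval_prod]
  have hq : (QuotientGroup.mk g⁻¹ : G ⧸ H) ∈
      Finset.univ.erase (QuotientGroup.mk 1 : G ⧸ H) := by
    rw [Finset.mem_erase]
    refine ⟨?_, Finset.mem_univ _⟩
    intro h
    apply hg
    have := QuotientGroup.eq.mp h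
    simpa using this
  refine Finset.prod_eq_zero hq ?_
  obtain ⟨h, hh⟩ := QuotientGroup.mk_out_eq_mul H (g⁻¹ : G)
  rw [hh, ← mul_smul, mul_inv_cancel_left, smul_X_sub_C_of_mem H hθ h.2, eval_sub, eval_X, eval_C,
    sub_self]

/-- the Lagrange interpolation polynomial of an `H`-invariant element `b`. -/
noncomputable def Lag (b : R) : R[X] := ∑ q : G ⧸ H, (Quotient.out q : G) • (C b * F1 H θ)

include hθ in
theorem smul_Lag {b : R} (hb : ∀ h ∈ H, h • b = b) (g : G) :
    g • Lag H (θ := θ) b = Lag H (θ := θ) b := by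
  refine InSep.smul_sum_out_smul H _ (fun h hh => ?_) g
  rw [smul_mul', smul_C, hb h hh, smul_F1_of_mem H hθ hh]

include hθ in
theorem eval_Lag {b : R} (hb : ∀ h ∈ H, h • b = b) :
    eval θ (Lag H (θ := θ) b) = b * eval θ (derivative (FR H θ)) := by
  unfold Lag
  rw [eval_finsetSum, Finset.sum_eq_single (QuotientGroup.mk 1 : G ⧸ H)]
  · have h1 := out_one_mem H
    rw [smul_mul', smul_C, hb _ h1, smul_F1_of_mem H hθ h1, eval_mul, eval_C,
      eval_derivative_FR H hθ]
  · intro q _ hq
    rw [smul_mul', eval_mul, eval_smul_F1_of_notMem H hθ (out_notMem H hq), mul_zero]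
  · intro h
    exact absurd (Finset.mem_univ _) h

/-- (L3) a polynomial vanishing at all the conjugate roots is, after multiplication by the
derivative, a multiple of the characteristic polynomial. -/
theorem FR_dvd_derivative_mul (Hp : R[X])
    (hHp : ∀ q : G ⧸ H, eval ((Quotient.out q : G) • θ) Hp = 0) :
    FR H θ ∣ derivative (FR H θ) * Hp := by
  rw [FR_eq_prod, derivative_prod_finset, Finset.sum_mul]
  refine Finset.dvd_sum (fun q _ => ?_)
  rw [derivative_sub, derivative_X, derivative_C, sub_zero, mul_one]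
  obtain ⟨Hq, hHq⟩ := (dvd_iff_isRoot (p := Hp)).mpr (hHp q)
  rw [hHq, ← mul_assoc, mul_comm _ (X - C _),
    Finset.mul_prod_erase Finset.univ (fun b : G ⧸ H => X - C ((Quotient.out b : G) • θ))
      (Finset.mem_univ q)]
  exact dvd_mul_right _ _

/-- a `G`-invariant polynomial vanishing at `θ` vanishes at all conjugates. -/
theorem eval_out_smul_eq_zero (Hp : R[X]) (hinv : ∀ g : G, g • Hp = Hp) (h0 : eval θ Hp = 0)
    (q : G ⧸ H) : eval ((Quotient.out q : G) • θ) Hp = 0 := by
  have := smul_eval_smul R (Quotient.out q : G) Hp θ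
  rw [hinv, h0, smul_zero] at this
  exact this

end poly

section etale

variable {A : Type*} {B' : Type*} {R : Type*} [CommRing A] [CommRing B'] [CommRing R]
  [Algebra A B'] [Algebra B' R] [Algebra A R] [IsScalarTower A B' R]
  {G : Type*} [Group G] [Finite G] [MulSemiringAction G R]
  (hAinj : Function.Injective (algebraMap A R))
  (hA : ∀ r : R, (∀ g : G, g • r = r) → r ∈ Set.range (algebraMap A R))
  (hA' : ∀ (a : A) (g : G), g • algebraMap A R a = algebraMap A R a)
  (H : Subgroup G)
  (hBinj : Function.Injective (algebraMap B' R))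
  (hB : ∀ r : R, (∀ h ∈ H, h • r = r) → r ∈ Set.range (algebraMap B' R))
  (hB' : ∀ (b : B') (h : G), h ∈ H → h • algebraMap B' R b = algebraMap B' R b)

include hA' in
omit [Finite G] in
theorem smul_map_algebraMap (p : A[X]) (g : G) :
    g • p.map (algebraMap A R) = p.map (algebraMap A R) := by
  ext n
  rw [coeff_smul, coeff_map, hA']

include hAinj hA hA' hBinj hB' in
/-- **Main lemma.** The `H`-invariants are standard étale over the `G`-invariants after inverting
`∏_{σ ∉ H} (θ - σ θ)`, for any `H`-invariant element `θ`. -/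
theorem exists_away_isStandardEtale [Fintype (G ⧸ H)] [DecidableEq (G ⧸ H)] (θ : B') :
    ∃ g₀ : B', algebraMap B' R g₀ = eval (algebraMap B' R θ) (F1 H (algebraMap B' R θ)) ∧
      Algebra.IsStandardEtale A (Localization.Away g₀) := by
  set t := algebraMap B' R θ with ht_def
  have ht : ∀ h ∈ H, h • t = t := fun h hh => hB' θ h hh
  have hlift : FR H t ∈ Polynomial.lifts (algebraMap A R) := by
    rw [lifts_iff_coeff_lifts]
    intro n
    apply hA
    intro g
    rw [← coeff_smul, smul_FR H ht g]
  obtain ⟨F, hFmap, -, hFmonic⟩ := lifts_and_natDegree_eq_and_monic hlift (FR_monic H t)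
  have hmapaeval : ∀ p : A[X], algebraMap B' R (aeval θ p) = eval t (p.map (algebraMap A R)) := by
    intro p
    rw [← aeval_algebraMap_apply, aeval_def, eval_map]
  have hg₀ : algebraMap B' R (aeval θ (derivative F)) = eval t (F1 H t) := by
    rw [hmapaeval, ← derivative_map, hFmap, eval_derivative_FR H ht]
  refine ⟨aeval θ (derivative F), hg₀, ?_⟩
  have hF0 : aeval θ F = 0 := by
    apply hBinj
    rw [map_zero, hmapaeval, hFmap]
    exact eval_FR H ht
  let P : StandardEtalePair A := ⟨F, hFmonic, derivative F, 1, 0, 1, by simp⟩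
  set Λ := Localization.Away (aeval θ (derivative F)) with hΛ
  set x : Λ := algebraMap B' Λ θ with hx
  have hmap : P.HasMap x := by
    constructor
    · change aeval (algebraMap B' Λ θ) F = 0
      rw [aeval_algebraMap_apply, hF0, map_zero]
    · change IsUnit (aeval (algebraMap B' Λ θ) (derivative F))
      rw [aeval_algebraMap_apply]
      exact IsLocalization.Away.algebraMap_isUnit _
  have hliftaeval : ∀ p : A[X], P.lift x hmap (aeval P.X p) = algebraMap B' Λ (aeval θ p) := by
    intro p
    rw [← aeval_algHom_apply, P.lift_X, hx, aeval_algebraMap_apply]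
  have hunit : IsUnit (aeval P.X (derivative F)) := P.hasMap_X.2
  have hPF : aeval P.X F = 0 := P.hasMap_X.1
  refine ⟨⟨P, x, hmap, ?_, ?_⟩⟩
  · -- injectivity
    rw [injective_iff_map_eq_zero]
    intro w hw
    let P₀ : StandardEtalePresentation A P.Ring :=
      ⟨P, P.X, P.hasMap_X, by simpa [StandardEtalePair.lift_X_left] using Function.bijective_id⟩
    obtain ⟨p, n, hpn⟩ := P₀.exists_mul_aeval_x_g_pow_eq_aeval_x w
    change w * aeval P.X (derivative F) ^ n = aeval P.X p at hpn
    have h1 : algebraMap B' Λ (aeval θ p) = 0 := by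
      rw [← hliftaeval, ← hpn, map_mul, hw, zero_mul]
    obtain ⟨⟨m, k, rfl⟩, hm⟩ :=
      (IsLocalization.map_eq_zero_iff (Submonoid.powers (aeval θ (derivative F))) Λ _).mp h1
    change aeval θ (derivative F) ^ k * aeval θ p = 0 at hm
    -- pass to `R[X]`
    set Hq : A[X] := derivative F ^ k * p with hHq
    have hHq0 : eval t (Hq.map (algebraMap A R)) = 0 := by
      rw [← hmapaeval, hHq, map_mul, map_pow, hm, map_zero]
    have hdvdR : FR H t ∣ derivative (FR H t) * Hq.map (algebraMap A R) :=
      FR_dvd_derivative_mul H _ (eval_out_smul_eq_zero H _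
        (smul_map_algebraMap hA' Hq) hHq0)
    rw [← hFmap, derivative_map, ← Polynomial.map_mul,
      Polynomial.map_dvd_map (algebraMap A R) hAinj hFmonic] at hdvdR
    have h2 : aeval P.X (derivative F * Hq) = 0 :=
      aeval_eq_zero_of_dvd_aeval_eq_zero hdvdR hPF
    rw [hHq, ← mul_assoc, ← pow_succ', map_mul, map_pow] at h2
    have h3 : aeval P.X p = 0 := (hunit.pow (k + 1)).mul_right_eq_zero.mp h2
    rw [h3] at hpn
    exact (hunit.pow n).mul_left_eq_zero.mp hpn
  · -- surjectivity
    intro z
    obtain ⟨n, b, hz⟩ := IsLocalization.Away.surj (aeval θ (derivative F)) z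
    have hbinv : ∀ h ∈ H, h • algebraMap B' R b = algebraMap B' R b := fun h hh => hB' b h hh
    have hLlift : Lag H (θ := t) (algebraMap B' R b) ∈ Polynomial.lifts (algebraMap A R) := by
      rw [lifts_iff_coeff_lifts]
      intro n
      apply hA
      intro g
      rw [← coeff_smul, smul_Lag H ht hbinv g]
    obtain ⟨Lb, hLb⟩ := (mem_lifts _).mp hLlift
    have hLb' : aeval θ Lb = b * aeval θ (derivative F) := by
      apply hBinj
      rw [hmapaeval, hLb, eval_Lag H ht hbinv, map_mul, hg₀, eval_derivative_FR H ht]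
    refine ⟨aeval P.X Lb * (↑(hunit.unit⁻¹) : P.Ring) ^ (n + 1), ?_⟩
    have hγ : P.lift x hmap (aeval P.X (derivative F)) =
        algebraMap B' Λ (aeval θ (derivative F)) := hliftaeval _
    have hinv : P.lift x hmap (↑(hunit.unit⁻¹) : P.Ring) *
        algebraMap B' Λ (aeval θ (derivative F)) = 1 := by
      rw [← hγ, ← map_mul, IsUnit.val_inv_mul, map_one]
    rw [map_mul, map_pow, hliftaeval, hLb', map_mul, ← hz, pow_succ]
    calc z * algebraMap B' Λ (aeval θ (derivative F)) ^ n *
          algebraMap B' Λ (aeval θ (derivative F)) *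
          (P.lift x hmap (↑(hunit.unit⁻¹) : P.Ring) ^ n * P.lift x hmap (↑(hunit.unit⁻¹) : P.Ring))
        = z * (P.lift x hmap (↑(hunit.unit⁻¹) : P.Ring) *
            algebraMap B' Λ (aeval θ (derivative F))) ^ n *
          (P.lift x hmap (↑(hunit.unit⁻¹) : P.Ring) *
            algebraMap B' Λ (aeval θ (derivative F))) := by ring
      _ = z := by rw [hinv, one_pow, mul_one, mul_one]

include hAinj hA hA' hBinj hB' in
/-- the main lemma at a prime: if `σ θ - θ ∉ Q` for all `σ ∉ H`, the localisation element can be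
taken outside `Q`. -/
theorem exists_away_isStandardEtale_of_notMem (θ : B') (Q : Ideal R) [Q.IsPrime]
    (hθ : ∀ σ : G, σ ∉ H → σ • algebraMap B' R θ - algebraMap B' R θ ∉ Q) :
    ∃ g₀ : B', algebraMap B' R g₀ ∉ Q ∧ Algebra.IsStandardEtale A (Localization.Away g₀) := by
  classical
  let _ : Fintype (G ⧸ H) := Fintype.ofFinite _
  obtain ⟨g₀, hg₀, het⟩ := exists_away_isStandardEtale hAinj hA hA' H hBinj hB' θ
  refine ⟨g₀, ?_, het⟩
  rw [hg₀]
  unfold F1
  rw [eval_prod]
  intro hmem
  obtain ⟨q, hq, hqmem⟩ := (Ideal.IsPrime.prod_mem_iff).mp hmem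
  rw [smul_X_sub_C, eval_sub, eval_X, eval_C] at hqmem
  have hq' : q ≠ QuotientGroup.mk 1 := (Finset.mem_erase.mp hq).1
  apply hθ _ (out_notMem H hq')
  have := Q.neg_mem hqmem
  rwa [neg_sub] at this

end etale

end Groth.Agent.H1.InvEt
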