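/-
helper1: existence of an inertia-invariant element separating the cosets of the inertia group
modulo a prime ideal (primitive element argument), for a finite group acting on a commutative ring.
-/
import Groth.Agent.H1.InertiaSep2

set_option autoImplicit false
set_option linter.unusedSectionVars false

open scoped Pointwise
open Polynomial

namespace Groth.Agent.H1.InvEt

universe u v

section separating

variable {B : Type u} [CommRing B] {Γ : Type v} [Group Γ] [Finite Γ] [MulSemiringAction Γ B]
  (P : Ideal B) [P.IsPrime]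

theorem exists_smul_mem_notMem_of_isPrime {σ : Γ} (hσ : σ ∉ MulAction.stabilizer Γ P) :
    ∃ v : B, σ • v ∈ P ∧ v ∉ P := by
  by_contra hcon
  push Not at hcon
  apply hσ
  have hle : σ⁻¹ • P ≤ P := by
    intro v hv
    apply hcon
    rwa [Ideal.mem_inv_pointwise_smul_iff] at hv
  have heq : σ⁻¹ • P = P := smul_eq_of_smul_le hle
  have : σ⁻¹ ∈ MulAction.stabilizer Γ P := MulAction.mem_stabilizer_iff.mpr heq
  simpa using inv_mem this

/-- an element invariant under the decomposition group of the prime `P`, not in `P`, all of whose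
translates by elements outside the decomposition group lie in `P`. -/
theorem exists_separating_elt_of_isPrime :
    ∃ u : B, (∀ d ∈ MulAction.stabilizer Γ P, d • u = u) ∧ u ∉ P ∧
      ∀ σ : Γ, σ ∉ MulAction.stabilizer Γ P → σ • u ∈ P := by
  classical
  cases nonempty_fintype Γ
  have hprime : P.IsPrime := inferInstance
  choose! v hv1 hv2 using fun (σ : Γ) (hσ : σ ∉ MulAction.stabilizer Γ P) =>
    exists_smul_mem_notMem_of_isPrime P hσ
  let w : Γ → B := fun σ => if σ ∈ MulAction.stabilizer Γ P then 1 else v σ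
  have hw : ∀ σ, w σ ∉ P := by
    intro σ
    simp only [w]
    split_ifs with h
    · exact (Ideal.ne_top_iff_one P).mp hprime.ne_top
    · exact hv2 σ h
  let V : B := ∏ σ : Γ, w σ
  have hV : V ∉ P := by
    intro h
    obtain ⟨σ, _, hσ⟩ := (hprime.prod_mem_iff).mp h
    exact hw σ hσ
  refine ⟨∏ d : MulAction.stabilizer Γ P, d • V, ?_, ?_, ?_⟩
  · intro d hd
    exact Finset.smul_prod_perm V (⟨d, hd⟩ : MulAction.stabilizer Γ P)
  · intro h
    obtain ⟨d, _, hd⟩ := (hprime.prod_mem_iff).mp h
    apply hV
    have h1 : (d : Γ) • V ∈ (d : Γ) • P := by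
      rw [MulAction.mem_stabilizer_iff.mp d.2]; exact hd
    exact (Ideal.smul_mem_pointwise_smul_iff).mp h1
  · intro σ hσ
    rw [Finset.smul_prod']
    refine Ideal.prod_mem P (Finset.mem_univ (1 : MulAction.stabilizer Γ P)) ?_
    rw [one_smul]
    simp only [V]
    rw [Finset.smul_prod']
    refine Ideal.prod_mem P (Finset.mem_univ σ) ?_
    simp only [w, if_neg hσ]
    exact hv1 σ hσ

end separating

section fields

variable {R : Type u} [CommRing R] {G : Type v} [Group G] [Finite G] [MulSemiringAction G R]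
  (q : Ideal R) [q.IsPrime]

/-- if the whole (finite) group `H` acts trivially modulo the prime `q`, then every element of
`Frac (R/q)` separable over `Frac (R^H / q ∩ R^H)` lies in the latter. -/
theorem mem_range_of_isSeparable_fractionRing {H : Type v} [Group H] [Finite H]
    [MulSemiringAction H R] (hH : ∀ (h : H) (b : R), h • b - b ∈ q)
    (K L : Type*) [Field K] [Field L] [Algebra K L]
    [Algebra (FixedPoints.subring R H ⧸ q.under (FixedPoints.subring R H)) K]
    [IsFractionRing (FixedPoints.subring R H ⧸ q.under (FixedPoints.subring R H)) K]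
    [Algebra (R ⧸ q) L] [IsFractionRing (R ⧸ q) L]
    [Algebra (FixedPoints.subring R H ⧸ q.under (FixedPoints.subring R H)) L]
    [IsScalarTower (FixedPoints.subring R H ⧸ q.under (FixedPoints.subring R H)) (R ⧸ q) L]
    [IsScalarTower (FixedPoints.subring R H ⧸ q.under (FixedPoints.subring R H)) K L]
    (x : L) (hx : IsSeparable K x) : x ∈ (algebraMap K L).range := by
  have hnorm : Normal K L :=
    Ideal.IsFractionRing.normal H (q.under (FixedPoints.subring R H)) q K L
  have hsplit := hnorm.splits x
  have htriv : ∀ σ : Gal(L/K), σ = 1 := by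
    intro σ
    obtain ⟨⟨h, hh⟩, rfl⟩ := IsFractionRing.stabilizerHom_surjective H
      (q.under (FixedPoints.subring R H)) q K L σ
    ext z
    obtain ⟨a, b, hb, rfl⟩ := IsFractionRing.div_surjective (R ⧸ q) z
    obtain ⟨a, rfl⟩ := Ideal.Quotient.mk_surjective a
    obtain ⟨b, rfl⟩ := Ideal.Quotient.mk_surjective b
    have key : ∀ r : R, IsFractionRing.stabilizerHom H (q.under (FixedPoints.subring R H)) q K L
        ⟨h, hh⟩ (algebraMap (R ⧸ q) L (Ideal.Quotient.mk q r)) =
        algebraMap (R ⧸ q) L (Ideal.Quotient.mk q r) := by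
      intro r
      rw [IsFractionRing.stabilizerHom_apply_apply_mk]
      congr 1
      rw [Ideal.Quotient.eq]
      exact hH h r
    rw [map_div₀, key, key]
    rfl
  by_contra hcon
  have hnot : x ∉ (⊥ : Subalgebra K L) := by
    intro hmem
    obtain ⟨k, hk⟩ := Algebra.mem_bot.mp hmem
    exact hcon ⟨k, hk⟩
  obtain ⟨y, hxy, hconj⟩ := (notMem_iff_exists_ne_and_isConjRoot hx hsplit).mp hnot
  obtain ⟨σ, hσ⟩ := isConjRoot_iff_exists_algEquiv.mp hconj
  rw [htriv σ] at hσ
  exact hxy hσ.symm

/-- there is an inertia-invariant element whose translates under the decomposition group modulo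
the inertia group are pairwise incongruent modulo `q`. -/
theorem exists_invariant_sub_notMem :
    ∃ θ₀ : R, (∀ τ ∈ q.inertia G, τ • θ₀ = θ₀) ∧
      ∀ σ ∈ MulAction.stabilizer G q, σ ∉ q.inertia G → σ • θ₀ - θ₀ ∉ q := by
  classical
  let L := FractionRing (R ⧸ q)
  let K := FractionRing (FixedPoints.subring R G ⧸ q.under (FixedPoints.subring R G))
  let KI := FractionRing (FixedPoints.subring R ↥(q.inertia G) ⧸
    q.under (FixedPoints.subring R ↥(q.inertia G)))
  let _ : Algebra K L := FractionRing.liftAlgebra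
    (FixedPoints.subring R G ⧸ q.under (FixedPoints.subring R G)) L
  let _ : Algebra KI L := FractionRing.liftAlgebra (FixedPoints.subring R ↥(q.inertia G) ⧸
    q.under (FixedPoints.subring R ↥(q.inertia G))) L
  let act : MulSemiringAction (MulAction.stabilizer G q) L :=
    MulSemiringAction.compHom L
      (IsFractionRing.stabilizerHom G (q.under (FixedPoints.subring R G)) q K L)
  let ι : R →+* L := (algebraMap (R ⧸ q) L).comp (Ideal.Quotient.mk q)
  have hact : ∀ (σ : MulAction.stabilizer G q) (r : R), σ • ι r = ι ((σ : G) • r) := fun σ r =>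
    IsFractionRing.stabilizerHom_apply_apply_mk G (q.under (FixedPoints.subring R G)) q K L σ r
  have hι0 : ∀ r : R, ι r = 0 ↔ r ∈ q := by
    intro r
    change algebraMap (R ⧸ q) L (Ideal.Quotient.mk q r) = 0 ↔ _
    rw [IsFractionRing.to_map_eq_zero_iff, Ideal.Quotient.eq_zero_iff_mem]
  -- primitive element
  obtain ⟨x, hx⟩ := Field.exists_primitive_element
    (FixedPoints.subfield (MulAction.stabilizer G q) L) L
  have hx1 : ∀ σ : MulAction.stabilizer G q, σ • x = x → (σ : G) ∈ q.inertia G := by
    intro σ hσ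
    have hle : IntermediateField.adjoin (FixedPoints.subfield (MulAction.stabilizer G q) L) {x} ≤
        FixedBy.intermediateField (FixedPoints.subfield (MulAction.stabilizer G q) L) L σ := by
      rw [IntermediateField.adjoin_simple_le_iff]
      exact hσ
    rw [hx] at hle
    intro r
    have h1 : σ • ι r = ι r := hle (IntermediateField.mem_top)
    rw [hact, ← sub_eq_zero, ← map_sub, hι0] at h1
    exact h1
  -- `L` is purely inseparable over `KI`
  have hpi : IsPurelyInseparable KI L := by
    rw [isPurelyInseparable_iff]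
    intro z
    have hnorm : Normal KI L := Ideal.IsFractionRing.normal ↥(q.inertia G)
      (q.under (FixedPoints.subring R ↥(q.inertia G))) q KI L
    exact ⟨hnorm.isIntegral z, mem_range_of_isSeparable_fractionRing q (H := ↥(q.inertia G))
      (InSep.inertia_smul_sub_mem q) KI L z⟩
  obtain ⟨n, k, hk⟩ := IsPurelyInseparable.pow_mem KI (ringExpChar KI) x
  have hexp : ExpChar L (ringExpChar KI) :=
    expChar_of_injective_algebraMap (algebraMap KI L).injective _
  obtain ⟨a, s, hs, rfl⟩ := IsFractionRing.div_surjective (FixedPoints.subring R ↥(q.inertia G) ⧸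
    q.under (FixedPoints.subring R ↥(q.inertia G))) k
  obtain ⟨a, rfl⟩ := Ideal.Quotient.mk_surjective a
  obtain ⟨s, rfl⟩ := Ideal.Quotient.mk_surjective s
  have hsq : (s : R) ∉ q := by
    intro h
    have h0 : (Ideal.Quotient.mk (q.under (FixedPoints.subring R ↥(q.inertia G)))) s = 0 :=
      Ideal.Quotient.eq_zero_iff_mem.mpr (Ideal.mem_comap.mpr h)
    exact nonZeroDivisors.ne_zero hs h0
  have htower : ∀ b : FixedPoints.subring R ↥(q.inertia G),
      algebraMap KI L (algebraMap _ KI (Ideal.Quotient.mk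
        (q.under (FixedPoints.subring R ↥(q.inertia G))) b)) = ι (b : R) := by
    intro b
    rw [← IsScalarTower.algebraMap_apply, IsScalarTower.algebraMap_apply
      (FixedPoints.subring R ↥(q.inertia G) ⧸ q.under (FixedPoints.subring R ↥(q.inertia G)))
      (R ⧸ q) L]
    rfl
  rw [map_div₀, htower, htower] at hk
  cases nonempty_fintype G
  -- clear the denominator by the norm over the decomposition group
  have hfac : ∀ d : MulAction.stabilizer G q, ∀ t ∈ q.inertia G,
      t • ((d : G) • (s : R)) = (d : G) • (s : R) := fun d =>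
    InSep.smul_invariant_of_mem_stabilizer q d.2 (fun t ht => s.2 ⟨t, ht⟩)
  have hfacq : ∀ d : MulAction.stabilizer G q, (d : G) • (s : R) ∉ q := by
    intro d h
    apply hsq
    have := InSep.smul_mem_of_mem_stabilizer q (inv_mem d.2) h
    rwa [inv_smul_smul] at this
  set M : R := ∏ d ∈ Finset.univ.erase (1 : MulAction.stabilizer G q), (d : G) • (s : R) with hM
  set N : R := ∏ d : MulAction.stabilizer G q, (d : G) • (s : R) with hN
  have hNM : N = (s : R) * M := by
    rw [hN, hM, ← Finset.mul_prod_erase Finset.univ (fun d : MulAction.stabilizer G q =>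
      (d : G) • (s : R)) (Finset.mem_univ 1)]
    simp
  have hNq : N ∉ q := by
    intro h
    obtain ⟨d, _, hd⟩ := (Ideal.IsPrime.prod_mem_iff).mp h
    exact hfacq d hd
  have hNinv : ∀ σ : MulAction.stabilizer G q, (σ : G) • N = N := fun σ =>
    Finset.smul_prod_perm (s : R) σ
  have hMinv : ∀ t ∈ q.inertia G, t • M = M := by
    intro t ht
    rw [hM, Finset.smul_prod']
    exact Finset.prod_congr rfl (fun d _ => hfac d t ht)
  refine ⟨(a : R) * M, ?_, ?_⟩
  · intro t ht
    have ha : t • (a : R) = a := a.2 ⟨t, ht⟩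
    rw [smul_mul', ha, hMinv t ht]
  · intro σ hσD hσI hmem
    apply hσI
    apply hx1 ⟨σ, hσD⟩
    have hιs : ι (s : R) ≠ 0 := fun h => hsq ((hι0 _).mp h)
    have hιN : ι N ≠ 0 := fun h => hNq ((hι0 _).mp h)
    have hθ : ι ((a : R) * M) = x ^ ringExpChar KI ^ n * ι N := by
      rw [← hk, hNM, map_mul, map_mul, ← mul_assoc, div_mul_cancel₀ _ hιs]
    have h1 : (⟨σ, hσD⟩ : MulAction.stabilizer G q) • ι ((a : R) * M) = ι ((a : R) * M) := by
      rw [hact, ← sub_eq_zero, ← map_sub, hι0]
      exact hmem
    rw [hθ, smul_mul', hact, hNinv ⟨σ, hσD⟩, smul_pow'] at h1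
    have h2 := mul_right_cancel₀ hιN h1
    exact iterateFrobenius_inj L (ringExpChar KI) n h2

/-- there is an inertia-invariant element all of whose translates by elements outside the inertia
group are incongruent to it modulo `q`. -/
theorem exists_invariant_sub_notMem_of_notMem_inertia :
    ∃ θ : R, (∀ τ ∈ q.inertia G, τ • θ = θ) ∧ ∀ σ : G, σ ∉ q.inertia G → σ • θ - θ ∉ q := by
  obtain ⟨θ₁, hθ₁inv, hθ₁⟩ := exists_invariant_sub_notMem (G := G) q
  obtain ⟨u, huD, huq, huσ⟩ := exists_separating_elt_of_isPrime (Γ := G) q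
  have hTD : q.inertia G ≤ MulAction.stabilizer G q := Ideal.inertia_le_stabilizer q
  -- arrange `θ₀ ∉ q`
  obtain ⟨θ₀, hθ₀inv, hθ₀, hθ₀q⟩ : ∃ θ₀ : R, (∀ τ ∈ q.inertia G, τ • θ₀ = θ₀) ∧
      (∀ σ ∈ MulAction.stabilizer G q, σ ∉ q.inertia G → σ • θ₀ - θ₀ ∉ q) ∧ θ₀ ∉ q := by
    by_cases h : θ₁ ∈ q
    · refine ⟨θ₁ + 1, ?_, ?_, ?_⟩
      · intro τ hτ
        rw [smul_add, hθ₁inv τ hτ, smul_one]
      · intro σ hσD hσI
        rw [smul_add, smul_one, add_sub_add_right_eq_sub]
        exact hθ₁ σ hσD hσI
      · intro h1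
        have : (1 : R) ∈ q := by
          have := q.sub_mem h1 h
          rwa [add_sub_cancel_left] at this
        exact (Ideal.ne_top_iff_one q).mp (Ideal.IsPrime.ne_top inferInstance) this
    · exact ⟨θ₁, hθ₁inv, hθ₁, h⟩
  refine ⟨θ₀ * u, ?_, ?_⟩
  · intro τ hτ
    rw [smul_mul', hθ₀inv τ hτ, huD τ (hTD hτ)]
  · intro σ hσI hmem
    by_cases hσD : σ ∈ MulAction.stabilizer G q
    · rw [smul_mul', huD σ hσD, ← sub_mul] at hmem
      rcases (Ideal.IsPrime.mem_or_mem inferInstance hmem) with h | h
      · exact hθ₀ σ hσD hσI h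
      · exact huq h
    · have h1 : σ • (θ₀ * u) ∈ q := by
        rw [smul_mul']
        exact q.mul_mem_left _ (huσ σ hσD)
      have h2 : θ₀ * u ∈ q := by
        have := q.sub_mem h1 hmem
        rwa [sub_sub_cancel] at this
      rcases (Ideal.IsPrime.mem_or_mem inferInstance h2) with h | h
      · exact hθ₀q h
      · exact huq h

end fields

end Groth.Agent.H1.InvEt
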