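/-
helper1: from a principal localisation to the localisation at a prime, for semi-local situations.
-/
import Mathlib

set_option autoImplicit false

namespace Groth.Agent.H1.InvEt

/-- if finitely many maximal ideals, there is an element outside `m'` lying in all the other
maximal ideals. -/
theorem exists_mem_all_other_maximal {B' : Type*} [CommRing B'] (m' : Ideal B') [m'.IsMaximal]
    (hfin : {M : Ideal B' | M.IsMaximal}.Finite) :
    ∃ s, s ∉ m' ∧ ∀ M : Ideal B', M.IsMaximal → M ≠ m' → s ∈ M := by
  classical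
  set T : Finset (Ideal B') := hfin.toFinset.erase m' with hT
  have hnot : ¬ T.inf id ≤ m' := by
    rw [Ideal.IsPrime.inf_le' (Ideal.IsMaximal.isPrime inferInstance)]
    rintro ⟨M, hM, hle⟩
    rw [hT, Finset.mem_erase, Set.Finite.mem_toFinset] at hM
    exact hM.1 (hM.2.eq_of_le (Ideal.IsMaximal.ne_top inferInstance) hle)
  obtain ⟨s, hsJ, hsm⟩ := SetLike.not_le_iff_exists.mp hnot
  refine ⟨s, hsm, fun M hM hne => ?_⟩
  have hMT : M ∈ T := by
    rw [hT, Finset.mem_erase, Set.Finite.mem_toFinset]
    exact ⟨hne, hM⟩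
  exact (Finset.inf_le hMT : T.inf id ≤ id M) hsJ

/-- if `B'_{g₀}` is étale over `A` and the complement of `V(s)` consists of generisations of the
prime `m'`, then `B'_{m'}` is étale over `A`. -/
theorem etale_atPrime_of_away {A B' : Type*} [CommRing A] [CommRing B'] [Algebra A B']
    (m' : Ideal B') [m'.IsPrime] (g₀ s : B') (hg₀ : g₀ ∉ m') (hs : s ∉ m')
    (hsp : ∀ 𝔓 : Ideal B', 𝔓.IsPrime → s ∉ 𝔓 → 𝔓 ≤ m')
    [Algebra.Etale A (Localization.Away g₀)] : Algebra.Etale A (Localization.AtPrime m') := by
  let S := Localization.Away g₀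
  let T := Localization.Away (algebraMap B' S s)
  have hloc : IsLocalization.Away (g₀ * s) T := inferInstance
  have hetST : Algebra.Etale S T := Algebra.Etale.of_isLocalizationAway (algebraMap B' S s)
  have hetT : Algebra.Etale A T := Algebra.Etale.comp A S T
  have hle : Submonoid.powers (g₀ * s) ≤ m'.primeCompl := by
    rw [Submonoid.powers_le]
    intro h
    rcases Ideal.IsPrime.mem_or_mem inferInstance h with h | h
    · exact hg₀ h
    · exact hs h
  have hunits : ∀ r ∈ m'.primeCompl, IsUnit (algebraMap B' T r) := by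
    intro r hr
    by_contra hnu
    obtain ⟨𝔐, h𝔐, hmem⟩ := exists_max_ideal_of_mem_nonunits hnu
    have hprime : (𝔐.comap (algebraMap B' T)).IsPrime := Ideal.comap_isPrime _ _
    have hsn : s ∉ 𝔐.comap (algebraMap B' T) := by
      intro hs'
      have h1 : g₀ * s ∈ 𝔐.comap (algebraMap B' T) := Ideal.mul_mem_left _ _ hs'
      have h2 : IsUnit (algebraMap B' T (g₀ * s)) := IsLocalization.Away.algebraMap_isUnit _
      exact h𝔐.ne_top (Ideal.eq_top_of_isUnit_mem _ (Ideal.mem_comap.mp h1) h2)
    exact hr (hsp _ hprime hsn (Ideal.mem_comap.mpr hmem))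
  have hat : IsLocalization.AtPrime T m' :=
    IsLocalization.of_le (Submonoid.powers (g₀ * s)) m'.primeCompl hle hunits
  have htower : IsScalarTower A B' T := inferInstance
  let e : Localization.AtPrime m' ≃ₐ[B'] T :=
    IsLocalization.algEquiv m'.primeCompl (Localization.AtPrime m') T
  exact Algebra.Etale.of_equiv (e.restrictScalars A).symm

end Groth.Agent.H1.InvEt
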