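/-
helper1: étaleness of `R` over `R^G` at a prime versus triviality of the inertia group.
-/
import Groth.Agent.H1.InvEtale
import Groth.Agent.H1.InvEtale2

set_option autoImplicit false

open scoped Pointwise

namespace Groth.Agent.H1.InvEt

/-- if `R_m` is formally unramified over `B` (and `G` acts `B`-linearly on the Noetherian domain
`R`), then every element of the inertia group of `m` acts trivially on `R`. -/
theorem smul_eq_of_mem_inertia_of_formallyUnramified {B R : Type*} [CommRing B] [CommRing R]
    [Algebra B R] [IsDomain R] [IsNoetherianRing R] {G : Type*} [Group G] [MulSemiringAction G R]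
    [SMulCommClass G B R] (m : Ideal R) [m.IsPrime]
    [Algebra.FormallyUnramified B (Localization.AtPrime m)] (σ : G) (hσ : σ ∈ m.inertia G)
    (r : R) : σ • r = r := by
  set S := Localization.AtPrime m with hS
  have hy : m.primeCompl ≤ m.primeCompl.comap (MulSemiringAction.toRingHom G R σ) := by
    intro x hx hmem
    apply hx
    have h1 : σ • x - x ∈ m := hσ x
    have h2 : σ • x ∈ m := hmem
    have := m.sub_mem h2 h1
    rwa [sub_sub_cancel] at this
  let f : S →+* S := IsLocalization.map S (MulSemiringAction.toRingHom G R σ) hy
  have hf : ∀ x : R, f (algebraMap R S x) = algebraMap R S (σ • x) := fun x =>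
    IsLocalization.map_eq hy x
  let g₂ : S →ₐ[B] S :=
    { f with
      commutes' := fun b => by
        change f (algebraMap B S b) = algebraMap B S b
        rw [IsScalarTower.algebraMap_apply B R S, hf, smul_algebraMap] }
  have hnoeth : IsNoetherianRing S := IsLocalization.isNoetherianRing m.primeCompl S inferInstance
  have hI : ⨅ i, IsLocalRing.maximalIdeal S ^ i = ⊥ :=
    Ideal.iInf_pow_eq_bot_of_isLocalRing _ (Ideal.IsMaximal.ne_top inferInstance)
  have H : ∀ x : S, Ideal.Quotient.mk (IsLocalRing.maximalIdeal S) (AlgHom.id B S x) =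
      Ideal.Quotient.mk (IsLocalRing.maximalIdeal S) (g₂ x) := by
    have hext : (Ideal.Quotient.mk (IsLocalRing.maximalIdeal S)).comp (RingHom.id S) =
        (Ideal.Quotient.mk (IsLocalRing.maximalIdeal S)).comp f := by
      refine IsLocalization.ringHom_ext m.primeCompl ?_
      ext x
      simp only [RingHom.comp_apply, RingHom.id_apply]
      rw [hf, Ideal.Quotient.eq, ← map_sub,
        IsLocalization.AtPrime.to_map_mem_maximal_iff S m]
      have := m.neg_mem (hσ x)
      rwa [neg_sub] at this
    intro x
    exact RingHom.congr_fun hext x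
  have heq : AlgHom.id B S = g₂ := Algebra.FormallyUnramified.ext_of_iInf _ hI H
  have h1 : algebraMap R S (σ • r) = algebraMap R S r := by
    rw [← hf]
    exact (AlgHom.congr_fun heq (algebraMap R S r)).symm
  exact IsLocalization.injective S (Ideal.primeCompl_le_nonZeroDivisors m) h1

universe u v

/-- trivial inertia at a prime `m` implies that `R` is étale over the invariants at `m`. -/
theorem isEtaleAt_of_inertia_eq_bot {B : Type*} {R : Type u} {G : Type v} [CommRing B] [CommRing R]
    [Algebra B R] [Group G] [Finite G] [MulSemiringAction G R] [SMulCommClass G B R]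
    [Algebra.IsInvariant B R G] (hinj : Function.Injective (algebraMap B R)) (m : Ideal R)
    [m.IsPrime] (hI : m.inertia G = ⊥) : Algebra.IsEtaleAt B m := by
  obtain ⟨θ, -, hθ⟩ := exists_invariant_sub_notMem_of_notMem_inertia (G := G) m
  obtain ⟨g₀, hg₀, het⟩ := exists_away_isStandardEtale_of_notMem (A := B) (B' := R) (R := R)
    (G := G) hinj (fun r hr => Algebra.IsInvariant.isInvariant r hr)
    (fun a g => smul_algebraMap g a) ⊥ Function.injective_id
    (fun b h hh => by rw [Subgroup.mem_bot.mp hh, one_smul]) θ m
    (fun σ hσ => hθ σ (by rw [hI]; exact hσ))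
  have hfe : Algebra.FormallyEtale B (Localization.Away g₀) := inferInstance
  have hsub := Algebra.basicOpen_subset_etaleLocus_iff.mpr hfe
  exact hsub (show (⟨m, inferInstance⟩ : PrimeSpectrum R) ∈ PrimeSpectrum.basicOpen g₀ from hg₀)

end Groth.Agent.H1.InvEt
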