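/-
helper1: complete local normal domains with a Galois group: trivial inertia iff unramified.
-/
import Groth.Agent.H1.InvEtale4
import Groth.Agent.S9405

set_option autoImplicit false

open scoped Pointwise

namespace Groth.Agent.H1.InvEt

universe u

/-- a normal domain which is Galois (with finite group) over a Noetherian normal domain is a finite
module. -/
theorem module_finite_of_isGaloisGroup (R S G : Type*) [CommRing R] [CommRing S] [IsDomain R]
    [IsDomain S] [IsNoetherianRing R] [IsIntegrallyClosed R] [Algebra R S] [FaithfulSMul R S]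
    [IsIntegrallyClosed S] [Group G] [Finite G] [MulSemiringAction G S] [SMulCommClass G R S]
    [IsGaloisGroup G R S] : Module.Finite R S := by
  let _ := FractionRing.liftAlgebra R (FractionRing S)
  let _ := IsFractionRing.mulSemiringAction G S (FractionRing S)
  have hgal : IsGalois (FractionRing R) (FractionRing S) :=
    IsGaloisGroup.isGalois G (FractionRing R) (FractionRing S)
  have hfd : FiniteDimensional (FractionRing R) (FractionRing S) :=
    IsGaloisGroup.finiteDimensional G (FractionRing R) (FractionRing S)
  have hinv : Algebra.IsInvariant R S G := IsGaloisGroup.isInvariant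
  have hint : Algebra.IsIntegral R S := Algebra.IsInvariant.isIntegral R S G
  have hic : IsIntegralClosure S R (FractionRing S) :=
    IsIntegralClosure.of_isIntegrallyClosed S R (FractionRing S)
  exact IsIntegralClosure.finite R (FractionRing R) (FractionRing S) S

/-- a domain which is module-finite over a complete Noetherian local ring is local. -/
theorem isLocalRing_of_finite_of_isDomain (R : Type u) [CommRing R] [IsLocalRing R]
    [IsNoetherianRing R] [IsAdicComplete (IsLocalRing.maximalIdeal R) R]
    (S : Type u) [CommRing S] [IsDomain S] [Algebra R S] [Module.Finite R S] : IsLocalRing S := by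
  classical
  obtain ⟨-, hbij, -⟩ := Groth.Agent.S9405.result R S
  have hsub : ∀ M₁ M₂ : MaximalSpectrum S, M₁ = M₂ := by
    intro M₁ M₂
    by_contra hne
    obtain ⟨e, he⟩ := hbij.2 (Pi.single M₁ 1)
    have hmul : e * (1 - e) = 0 := by
      apply hbij.1
      rw [map_mul, map_sub, map_one, he, map_zero]
      funext M
      by_cases hM : M = M₁
      · subst hM
        simp
      · simp [Pi.single_eq_of_ne hM]
    rcases mul_eq_zero.mp hmul with h | h
    · rw [h, map_zero] at he
      have := congrFun he M₁
      rw [Pi.single_eq_same] at this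
      exact zero_ne_one this
    · have h1 : e = 1 := (sub_eq_zero.mp h).symm
      rw [h1, map_one] at he
      have := congrFun he M₂
      rw [Pi.single_eq_of_ne (Ne.symm hne)] at this
      exact one_ne_zero this
  obtain ⟨M, hM⟩ := Ideal.exists_maximal S
  refine IsLocalRing.of_unique_max_ideal ⟨M, hM, fun M' hM' => ?_⟩
  exact congrArg MaximalSpectrum.asIdeal (hsub ⟨M', hM'⟩ ⟨M, hM⟩)

/-- (⇒) trivial inertia implies unramified, for a local domain `S` finite over the local `R`. -/
theorem unramified_of_inertia_eq_bot {R S G : Type u} [CommRing R] [CommRing S] [IsLocalRing R]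
    [IsLocalRing S] [Algebra R S] [FaithfulSMul R S] [Module.Finite R S]
    [Group G] [Finite G] [MulSemiringAction G S] [SMulCommClass G R S] [Algebra.IsInvariant R S G]
    (n : Ideal S) [n.IsMaximal] [n.LiesOver (IsLocalRing.maximalIdeal R)]
    (hI : n.inertia G = ⊥) :
    (IsLocalRing.maximalIdeal R).map (algebraMap R S) = n ∧
      Module.Finite (R ⧸ IsLocalRing.maximalIdeal R) (S ⧸ n) ∧
      Algebra.IsSeparable (R ⧸ IsLocalRing.maximalIdeal R) (S ⧸ n) := by
  have hn : n = IsLocalRing.maximalIdeal S := IsLocalRing.eq_maximalIdeal inferInstance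
  have het : Algebra.IsEtaleAt R n :=
    isEtaleAt_of_inertia_eq_bot (B := R) (G := G) (FaithfulSMul.algebraMap_injective R S) n hI
  -- `S` is its own localisation at `n`
  have hloc : IsLocalization n.primeCompl S := by
    refine IsLocalization.of_le_isUnit ?_
    intro x hx
    have hx' : x ∉ n := hx
    rw [hn] at hx'
    exact (IsLocalRing.notMem_maximalIdeal.mp hx')
  let e : S ≃ₐ[S] Localization.AtPrime n :=
    IsLocalization.algEquiv n.primeCompl S (Localization.AtPrime n)
  have hfe : Algebra.FormallyEtale R (Localization.AtPrime n) := het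
  have hfu' : Algebra.FormallyUnramified R (Localization.AtPrime n) := inferInstance
  have hfu : Algebra.FormallyUnramified R S :=
    Algebra.FormallyUnramified.of_equiv (e.restrictScalars R).symm
  have hlochom : IsLocalHom (algebraMap R S) := by
    refine ((IsLocalRing.local_hom_TFAE (algebraMap R S)).out 0 4).mpr ?_
    rw [← hn]
    exact (Ideal.over_def n (IsLocalRing.maximalIdeal R)).symm
  have hmap : (IsLocalRing.maximalIdeal R).map (algebraMap R S) = n := by
    rw [hn]
    exact Algebra.FormallyUnramified.map_maximalIdeal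
  have hfin : Module.Finite (R ⧸ IsLocalRing.maximalIdeal R) (S ⧸ n) :=
    Module.Finite.of_restrictScalars_finite R _ _
  refine ⟨hmap, hfin, ?_⟩
  let _ : Field (R ⧸ IsLocalRing.maximalIdeal R) := Ideal.Quotient.field _
  let _ : Field (S ⧸ n) := Ideal.Quotient.field _
  have h1 : Algebra.FormallyUnramified R (S ⧸ n) := Algebra.FormallyUnramified.comp R S (S ⧸ n)
  have h2 : Algebra.FormallyUnramified (R ⧸ IsLocalRing.maximalIdeal R) (S ⧸ n) :=
    Algebra.FormallyUnramified.of_restrictScalars R _ _
  exact Algebra.FormallyUnramified.isSeparable _ _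

/-- (⇐) unramified with separable residue field extension implies trivial inertia. -/
theorem inertia_eq_bot_of_unramified {R : Type*} {S : Type*} {G : Type*} [CommRing R] [CommRing S]
    [IsLocalRing R] [Algebra R S] [Module.Finite R S]
    [Group G] [Finite G] [MulSemiringAction G S] [SMulCommClass G R S] [FaithfulSMul G S]
    (n : Ideal S) [n.IsMaximal] [n.LiesOver (IsLocalRing.maximalIdeal R)]
    (hmap : (IsLocalRing.maximalIdeal R).map (algebraMap R S) = n)
    [Algebra.IsSeparable (R ⧸ IsLocalRing.maximalIdeal R) (S ⧸ n)] : n.inertia G = ⊥ := by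
  classical
  -- every element is congruent to an inertia-invariant one
  have hcong : ∀ x : S, ∃ y : S, (∀ h ∈ n.inertia G, h • y = y) ∧ x - y ∈ n := by
    intro x
    let _ : Field (R ⧸ IsLocalRing.maximalIdeal R) := Ideal.Quotient.field _
    let _ : Field (S ⧸ n) := Ideal.Quotient.field _
    set gbar := minpoly (R ⧸ IsLocalRing.maximalIdeal R) (Ideal.Quotient.mk n x) with hgbar
    have hsep : gbar.Separable :=
      Algebra.IsSeparable.isSeparable (R ⧸ IsLocalRing.maximalIdeal R) (Ideal.Quotient.mk n x)
    obtain ⟨gR, hgR⟩ := Polynomial.map_surjective (Ideal.Quotient.mk (IsLocalRing.maximalIdeal R))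
      Ideal.Quotient.mk_surjective gbar
    have hcomp : (Ideal.Quotient.mk n).comp (algebraMap R S) =
        (algebraMap (R ⧸ IsLocalRing.maximalIdeal R) (S ⧸ n)).comp
          (Ideal.Quotient.mk (IsLocalRing.maximalIdeal R)) := by
      ext a
      rfl
    have hgmap : (gR.map (algebraMap R S)).map (Ideal.Quotient.mk n) =
        gbar.map (algebraMap (R ⧸ IsLocalRing.maximalIdeal R) (S ⧸ n)) := by
      rw [Polynomial.map_map, hcomp, ← Polynomial.map_map, hgR]
    have hx : Polynomial.aeval x (gR.map (algebraMap R S)) ∈ n := by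
      rw [← Ideal.Quotient.eq_zero_iff_mem, Polynomial.coe_aeval_eq_eval, ← Polynomial.eval₂_hom,
        ← Polynomial.eval_map, hgmap, Polynomial.eval_map, ← Polynomial.aeval_def]
      exact minpoly.aeval _ _
    obtain ⟨y, hy, hxy⟩ := InSep.exists_invariant_of_root (H := ↥(n.inertia G)) n
      (InSep.inertia_smul_sub_mem n) x (gR.map (algebraMap R S))
      (fun i h => by
        rw [Polynomial.coeff_map]
        exact smul_algebraMap (h : G) _)
      (by rw [hgmap]; exact hsep.map) hx
    exact ⟨y, fun h hh => hy ⟨h, hh⟩, hxy⟩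
  -- Nakayama
  let N : Submodule R S :=
    { carrier := {y | ∀ h ∈ n.inertia G, h • y = y}
      add_mem' := fun {a b} ha hb h hh => by rw [smul_add, ha h hh, hb h hh]
      zero_mem' := fun h _ => smul_zero h
      smul_mem' := fun r y hy h hh => by rw [smul_comm, hy h hh] }
  have hNN : (⊤ : Submodule R S) ≤ N ⊔ IsLocalRing.maximalIdeal R • (⊤ : Submodule R S) := by
    intro x _
    obtain ⟨y, hy, hxy⟩ := hcong x
    rw [Ideal.smul_top_eq_map, hmap]
    have : x = y + (x - y) := by ring
    rw [this]
    exact Submodule.add_mem_sup hy hxy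
  have hjac : IsLocalRing.maximalIdeal R ≤ Ideal.jacobson (⊥ : Ideal R) := by
    rw [IsLocalRing.jacobson_eq_maximalIdeal ⊥ bot_ne_top]
  have htop : (⊤ : Submodule R S) ≤ N :=
    Submodule.le_of_le_smul_of_le_jacobson_bot Module.Finite.fg_top hjac hNN
  rw [eq_bot_iff]
  intro σ hσ
  rw [Subgroup.mem_bot]
  exact FaithfulSMul.eq_of_smul_eq_smul (α := S) (fun x => by
    rw [one_smul]
    exact htop (Submodule.mem_top : x ∈ ⊤) σ hσ)

end Groth.Agent.H1.InvEt
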