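/-
helper1: invariants of a subgroup containing the decomposition group: trivial residue field
extension and isomorphic completions.
-/
import Groth.Agent.H1.InvEtale4

set_option autoImplicit false

open scoped Pointwise
open Polynomial

namespace Groth.Agent.H1.InvEt

universe u v

section separatingH

variable {R : Type u} [CommRing R] {G : Type v} [Group G] [Finite G] [MulSemiringAction G R]
  (q : Ideal R) [q.IsPrime] (H : Subgroup G) (hD : MulAction.stabilizer G q ≤ H)

include hD in
/-- an `H`-invariant element outside `q` all of whose translates by elements outside `H` lie in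
`q`, for `H` containing the decomposition group. -/
theorem exists_separating_elt_of_stabilizer_le :
    ∃ u : R, (∀ h ∈ H, h • u = u) ∧ u ∉ q ∧ ∀ σ : G, σ ∉ H → σ • u ∈ q := by
  classical
  cases nonempty_fintype G
  set sH : Finset G := Finset.univ.filter (· ∈ H) with hsH
  set sN : Finset G := Finset.univ.filter (· ∉ H) with hsN
  set J : Ideal R := sN.inf (fun σ => σ⁻¹ • q) with hJ
  have hnot : ¬ ((J : Set R) ⊆ ⋃ h ∈ (↑sH : Set G), ((h • q : Ideal R) : Set R)) := by
    rw [Ideal.subset_union_prime (1 : G) 1 (fun h _ _ _ => inferInstance)]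
    rintro ⟨h, hh, hle⟩
    have hhH : h ∈ H := (Finset.mem_filter.mp hh).2
    have hprime : (h • q).IsPrime := inferInstance
    obtain ⟨σ, hσ, hσle⟩ := (Ideal.IsPrime.inf_le' hprime).mp hle
    have hσH : σ ∉ H := (Finset.mem_filter.mp hσ).2
    have h1 : (h⁻¹ * σ⁻¹) • q ≤ q := by
      rw [mul_smul, ← Ideal.pointwise_smul_le_pointwise_smul_iff (a := h), smul_inv_smul]
      exact hσle
    have h2 : (h⁻¹ * σ⁻¹) • q = q := smul_eq_of_smul_le h1
    have h3 : h⁻¹ * σ⁻¹ ∈ H := hD (MulAction.mem_stabilizer_iff.mpr h2)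
    have h4 : σ⁻¹ ∈ H := by
      have := H.mul_mem hhH h3
      rwa [mul_inv_cancel_left] at this
    exact hσH (by simpa using H.inv_mem h4)
  obtain ⟨u₁, hu₁J, hu₁⟩ := Set.not_subset.mp hnot
  have hu₁N : ∀ σ : G, σ ∉ H → σ • u₁ ∈ q := by
    intro σ hσ
    have h1 : J ≤ σ⁻¹ • q := Finset.inf_le (Finset.mem_filter.mpr ⟨Finset.mem_univ σ, hσ⟩)
    have h2 := h1 hu₁J
    rwa [Ideal.mem_inv_pointwise_smul_iff] at h2
  have hu₁H : ∀ h : G, h ∈ H → h • u₁ ∉ q := by
    intro h hh hmem
    apply hu₁
    refine Set.mem_biUnion (x := h⁻¹) ?_ ?_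
    · exact Finset.mem_coe.mpr (Finset.mem_filter.mpr ⟨Finset.mem_univ _, H.inv_mem hh⟩)
    · change u₁ ∈ h⁻¹ • q
      rwa [Ideal.mem_inv_pointwise_smul_iff]
  refine ⟨∏ h : H, (h : G) • u₁, ?_, ?_, ?_⟩
  · intro h hh
    exact Finset.smul_prod_perm u₁ (⟨h, hh⟩ : H)
  · intro hmem
    obtain ⟨h, _, hh⟩ := (Ideal.IsPrime.prod_mem_iff).mp hmem
    exact hu₁H h h.2 hh
  · intro σ hσ
    rw [Finset.smul_prod']
    refine Ideal.prod_mem q (Finset.mem_univ (1 : H)) ?_
    rw [Subgroup.coe_one, one_smul]
    exact hu₁N σ hσ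

end separatingH

section residue

variable {R : Type u} [CommRing R] {G : Type v} [Group G] [Finite G] [MulSemiringAction G R]
  (q : Ideal R) [q.IsPrime] (H : Subgroup G)

omit [Finite G] in
theorem smul_derivative (g : G) (p : R[X]) : g • derivative p = derivative (g • p) := by
  rw [Polynomial.smul_eq_map, derivative_map]

/-- with a separating element `u` for `H`, every `H`-invariant element is, modulo `q`, a quotient
of two `G`-invariant elements: trivial residue field extension. -/
theorem exists_invariant_mul_sub_mem {u : R} (huH : ∀ h ∈ H, h • u = u) (huq : u ∉ q)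
    (huN : ∀ σ : G, σ ∉ H → σ • u ∈ q) {b : R} (hb : ∀ h ∈ H, h • b = b) :
    ∃ a₁ a₂ : R, (∀ g : G, g • a₁ = a₁) ∧ (∀ g : G, g • a₂ = a₂) ∧ a₂ ∉ q ∧ b * a₂ - a₁ ∈ q := by
  classical
  let _ : Fintype (G ⧸ H) := Fintype.ofFinite _
  set c : R := ∑ x : G ⧸ H, (Quotient.out x : G) • u with hc
  have hcinv : ∀ g : G, g • c = c := InSep.smul_sum_out_smul H u huH
  have hcu : c - u ∈ q := by
    rw [hc, ← Finset.add_sum_erase Finset.univ _ (Finset.mem_univ (QuotientGroup.mk 1 : G ⧸ H)),
      huH _ (out_one_mem H), add_sub_cancel_left]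
    refine q.sum_mem (fun x hx => ?_)
    exact huN _ (out_notMem H (Finset.mem_erase.mp hx).1)
  have hev : ∀ P : R[X], eval c P - eval u P ∈ q := fun P =>
    Ideal.mem_of_dvd q (Polynomial.sub_dvd_eval_sub c u P) hcu
  have hinv : ∀ P : R[X], (∀ g : G, g • P = P) → ∀ g : G, g • eval c P = eval c P := by
    intro P hP g
    have := smul_eval_smul R g P c
    rw [hP g, hcinv g] at this
    exact this.symm
  refine ⟨eval c (Lag H (θ := u) b), eval c (derivative (FR H u)),
    hinv _ (smul_Lag H huH hb), hinv _ (fun g => by rw [smul_derivative, smul_FR H huH]), ?_, ?_⟩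
  · intro hmem
    have h1 : eval u (derivative (FR H u)) ∈ q := by
      have := q.sub_mem hmem (hev (derivative (FR H u)))
      rwa [sub_sub_cancel] at this
    rw [eval_derivative_FR H huH] at h1
    unfold F1 at h1
    rw [eval_prod] at h1
    obtain ⟨x, hx, hxmem⟩ := (Ideal.IsPrime.prod_mem_iff).mp h1
    rw [smul_X_sub_C, eval_sub, eval_X, eval_C] at hxmem
    have h2 := huN _ (out_notMem H (Finset.mem_erase.mp hx).1)
    apply huq
    have := q.add_mem hxmem h2
    rwa [sub_add_cancel] at this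
  · have h1 := hev (Lag H (θ := u) b)
    have h2 := hev (derivative (FR H u))
    rw [eval_Lag H huH hb] at h1
    have h3 : b * eval c (derivative (FR H u)) - eval c (Lag H (θ := u) b) =
        b * (eval c (derivative (FR H u)) - eval u (derivative (FR H u))) -
          (eval c (Lag H (θ := u) b) - b * eval u (derivative (FR H u))) := by ring
    rw [h3]
    exact q.sub_mem (q.mul_mem_left _ h2) h1

end residue

section localalg

/-- a flat local homomorphism with `m_A C = m_C` and trivial residue field extension induces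
isomorphisms modulo all powers of the maximal ideals. -/
theorem surjective_and_comap_pow_of_flat_unramified {A₀ C : Type*} [CommRing A₀] [CommRing C]
    [IsLocalRing A₀] [IsLocalRing C] (φ : A₀ →+* C)
    (ha : (IsLocalRing.maximalIdeal A₀).map φ = IsLocalRing.maximalIdeal C)
    (hb : ∀ c : C, ∃ a : A₀, c - φ a ∈ IsLocalRing.maximalIdeal C)
    (hflat : φ.Flat) (n : ℕ) :
    Function.Surjective ((Ideal.Quotient.mk (IsLocalRing.maximalIdeal C ^ n)).comp φ) ∧
      Ideal.comap φ (IsLocalRing.maximalIdeal C ^ n) = IsLocalRing.maximalIdeal A₀ ^ n := by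
  have hpow : ∀ k : ℕ, (IsLocalRing.maximalIdeal A₀ ^ k).map φ = IsLocalRing.maximalIdeal C ^ k :=
    fun k => by rw [Ideal.map_pow, ha]
  have key : ∀ k : ℕ, ∀ c : C, ∃ a : A₀, c - φ a ∈ IsLocalRing.maximalIdeal C ^ k := by
    intro k
    induction k with
    | zero =>
      intro c
      exact ⟨0, by rw [pow_zero, Ideal.one_eq_top]; trivial⟩
    | succ k ih =>
      intro c
      obtain ⟨a, hae⟩ := ih c
      rw [← hpow k] at hae
      have inner : ∀ x ∈ (IsLocalRing.maximalIdeal A₀ ^ k).map φ,
          ∃ a' ∈ IsLocalRing.maximalIdeal A₀ ^ k,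
            x - φ a' ∈ IsLocalRing.maximalIdeal C ^ (k + 1) := by
        intro x hx
        refine Submodule.span_induction (p := fun x _ => ∃ a' ∈ IsLocalRing.maximalIdeal A₀ ^ k,
            x - φ a' ∈ IsLocalRing.maximalIdeal C ^ (k + 1)) ?_ ?_ ?_ ?_ hx
        · rintro _ ⟨π, hπ, rfl⟩
          exact ⟨π, hπ, by rw [sub_self]; exact Ideal.zero_mem _⟩
        · exact ⟨0, Ideal.zero_mem _, by rw [map_zero, sub_zero]; exact Ideal.zero_mem _⟩
        · rintro x y _ _ ⟨a₁, ha₁, h₁⟩ ⟨a₂, ha₂, h₂⟩
          refine ⟨a₁ + a₂, Ideal.add_mem _ ha₁ ha₂, ?_⟩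
          have : x + y - φ (a₁ + a₂) = (x - φ a₁) + (y - φ a₂) := by rw [map_add]; ring
          rw [this]
          exact Ideal.add_mem _ h₁ h₂
        · rintro r x _ ⟨a', ha', h'⟩
          obtain ⟨ar, har⟩ := hb r
          refine ⟨ar * a', Ideal.mul_mem_left _ _ ha', ?_⟩
          have hφa' : φ a' ∈ IsLocalRing.maximalIdeal C ^ k := by
            rw [← hpow k]
            exact Ideal.mem_map_of_mem φ ha'
          have : r • x - φ (ar * a') = (r - φ ar) * φ a' + r * (x - φ a') := by
            rw [smul_eq_mul, map_mul]; ring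
          rw [this]
          refine Ideal.add_mem _ ?_ (Ideal.mul_mem_left _ _ h')
          rw [pow_succ']
          exact Ideal.mul_mem_mul har hφa'
      obtain ⟨a', _, ha'e⟩ := inner _ hae
      refine ⟨a + a', ?_⟩
      have : c - φ (a + a') = c - φ a - φ a' := by rw [map_add]; ring
      rw [this]
      exact ha'e
  constructor
  · intro y
    obtain ⟨c, rfl⟩ := Ideal.Quotient.mk_surjective y
    obtain ⟨a, hae⟩ := key n c
    refine ⟨a, ?_⟩
    rw [RingHom.comp_apply]
    exact (Ideal.Quotient.eq.mpr hae).symm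
  · algebraize [φ]
    have hlochom : IsLocalHom (algebraMap A₀ C) :=
      ((IsLocalRing.local_hom_TFAE (algebraMap A₀ C)).out 0 2).mpr ha.le
    have hfl : Module.Flat A₀ C := hflat
    have hff : Module.FaithfullyFlat A₀ C := Module.FaithfullyFlat.of_flat_of_isLocalHom
    rw [← hpow n]
    exact Ideal.comap_map_eq_self_of_faithfullyFlat _

end localalg

end Groth.Agent.H1.InvEt
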