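/-
helper1: for `H` containing the decomposition group of `q`, the local rings of `R^G` and `R^H` at
the primes under `q` have isomorphic completions (stated modulo all powers of the maximal ideals).
-/
import Groth.Agent.H1.InvEtale6

set_option autoImplicit false

open scoped Pointwise
open Polynomial

namespace Groth.Agent.H1.InvEt

universe u

theorem localRingHom_invariants {G R : Type u} [Group G] [Finite G] [CommRing R]
    [MulSemiringAction G R] (A B' : Subring R) (H : Subgroup G)
    (hA : ∀ r : R, r ∈ A ↔ ∀ g : G, g • r = r)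
    (hB : ∀ r : R, r ∈ B' ↔ ∀ h ∈ H, h • r = r)
    [IsNoetherianRing A] [Module.Finite A R]
    (q : Ideal R) [q.IsPrime] (hD : MulAction.stabilizer G q ≤ H)
    (hle : A ≤ B') (q' : Ideal B') (hq' : q' = Ideal.comap B'.subtype q)
    (p' : Ideal A) (hp' : p' = Ideal.comap (Subring.inclusion hle) q') [q'.IsPrime] [p'.IsPrime]
    (φ : Localization.AtPrime p' →+* Localization.AtPrime q')
    (hφ : ∀ a : A, φ (algebraMap A _ a) = algebraMap B' _ (Subring.inclusion hle a))
    [IsLocalHom φ] (n : ℕ) :
    Function.Surjective
        ((Ideal.Quotient.mk (IsLocalRing.maximalIdeal (Localization.AtPrime q') ^ n)).comp φ) ∧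
      Ideal.comap φ (IsLocalRing.maximalIdeal (Localization.AtPrime q') ^ n) =
        IsLocalRing.maximalIdeal (Localization.AtPrime p') ^ n := by
  let _ : Algebra A B' := (Subring.inclusion hle).toAlgebra
  have : IsScalarTower A B' R := IsScalarTower.of_algebraMap_eq (fun _ => rfl)
  obtain ⟨u, huH, huq, huN⟩ := exists_separating_elt_of_stabilizer_le q H hD
  have huB : u ∈ B' := (hB u).mpr huH
  have hAinj : Function.Injective (algebraMap A R) := Subtype.val_injective
  have hBinj : Function.Injective (algebraMap B' R) := Subtype.val_injective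
  have hAinv : ∀ r : R, (∀ g : G, g • r = r) → r ∈ Set.range (algebraMap A R) :=
    fun r hr => ⟨⟨r, (hA r).mpr hr⟩, rfl⟩
  have hAinv' : ∀ (a : A) (g : G), g • algebraMap A R a = algebraMap A R a :=
    fun a g => (hA _).mp a.2 g
  have hBinv : ∀ (b : B') (h : G), h ∈ H → h • algebraMap B' R b = algebraMap B' R b :=
    fun b h hh => (hB _).mp b.2 h hh
  obtain ⟨g₀, hg₀q, het⟩ := exists_away_isStandardEtale_of_notMem (A := A) (B' := B') hAinj hAinv
    hAinv' H hBinj hBinv ⟨u, huB⟩ q (by
      intro σ hσ hmem
      apply huq
      change σ • u - u ∈ q at hmem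
      have := q.sub_mem (huN σ hσ) hmem
      rwa [sub_sub_cancel] at this)
  have hg₀q' : g₀ ∉ q' := by rw [hq']; exact hg₀q
  -- the local rings
  let _ : Algebra (Localization.AtPrime p') (Localization.AtPrime q') := φ.toAlgebra
  have : IsScalarTower A (Localization.AtPrime p') (Localization.AtPrime q') :=
    IsScalarTower.of_algebraMap_eq (fun a => by
      rw [IsScalarTower.algebraMap_apply A B' (Localization.AtPrime q')]
      exact (hφ a).symm)
  have : IsLocalHom (algebraMap (Localization.AtPrime p') (Localization.AtPrime q')) := ‹IsLocalHom φ›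
  -- finiteness
  have : IsNoetherian A R := isNoetherian_of_isNoetherianRing_of_finite A R
  have : Module.Finite A B' :=
    Module.Finite.of_injective (IsScalarTower.toAlgHom A B' R).toLinearMap hBinj
  have : Algebra.EssFiniteType B' (Localization.AtPrime q') :=
    Algebra.EssFiniteType.of_isLocalization _ q'.primeCompl
  have : Algebra.EssFiniteType A (Localization.AtPrime q') := Algebra.EssFiniteType.comp A B' _
  have : Algebra.EssFiniteType (Localization.AtPrime p') (Localization.AtPrime q') :=
    Algebra.EssFiniteType.of_comp A _ _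
  -- étaleness
  have hetale : Algebra.Etale A (Localization.Away g₀) := inferInstance
  have hfe : Algebra.FormallyEtale A (Localization.AtPrime q') := by
    have h1 : ↑(PrimeSpectrum.basicOpen g₀) ⊆ Algebra.etaleLocus A B' :=
      Algebra.basicOpen_subset_etaleLocus_iff.mpr inferInstance
    exact h1 (show (⟨q', inferInstance⟩ : PrimeSpectrum B') ∈ _ from hg₀q')
  have : Algebra.FormallyUnramified A (Localization.AtPrime q') := inferInstance
  have : Algebra.FormallyUnramified (Localization.AtPrime p') (Localization.AtPrime q') :=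
    Algebra.FormallyUnramified.of_restrictScalars A _ _
  have ha : (IsLocalRing.maximalIdeal (Localization.AtPrime p')).map φ =
      IsLocalRing.maximalIdeal (Localization.AtPrime q') :=
    Algebra.FormallyUnramified.map_maximalIdeal
  -- flatness
  have hpow : Submonoid.powers g₀ ≤ q'.primeCompl := by
    rw [Submonoid.powers_le]; exact hg₀q'
  let _ : Algebra (Localization.Away g₀) (Localization.AtPrime q') :=
    IsLocalization.localizationAlgebraOfSubmonoidLe _ _ (.powers g₀) q'.primeCompl hpow
  have : IsScalarTower B' (Localization.Away g₀) (Localization.AtPrime q') :=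
    IsLocalization.localization_isScalarTower_of_submonoid_le ..
  have : IsScalarTower A (Localization.Away g₀) (Localization.AtPrime q') :=
    IsScalarTower.of_algebraMap_eq (fun a => by
      rw [IsScalarTower.algebraMap_apply A B' (Localization.AtPrime q'),
        IsScalarTower.algebraMap_apply B' (Localization.Away g₀) (Localization.AtPrime q'),
        ← IsScalarTower.algebraMap_apply A B' (Localization.Away g₀)])
  have : IsLocalization ((q'.primeCompl).map (algebraMap B' (Localization.Away g₀)))
      (Localization.AtPrime q') :=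
    IsLocalization.isLocalization_of_submonoid_le (Localization.Away g₀) _ _ _ hpow
  have : Module.Flat (Localization.Away g₀) (Localization.AtPrime q') :=
    IsLocalization.flat _ ((q'.primeCompl).map (algebraMap B' (Localization.Away g₀)))
  have : Module.Flat A (Localization.Away g₀) := inferInstance
  have hflatA : Module.Flat A (Localization.AtPrime q') :=
    Module.Flat.trans A (Localization.Away g₀) _
  have hflat : Module.Flat (Localization.AtPrime p') (Localization.AtPrime q') :=
    (Module.flat_iff_of_isLocalization (Localization.AtPrime p') p'.primeCompl _).mpr hflatA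
  -- residue fields
  have hmemq' : ∀ x : B', x ∈ q' ↔ (x : R) ∈ q := fun x => by rw [hq']; rfl
  have hmemp' : ∀ x : A, x ∈ p' ↔ (x : R) ∈ q := fun x => by rw [hp', hq']; rfl
  have hres : ∀ c : Localization.AtPrime q', ∃ a : Localization.AtPrime p',
      c - φ a ∈ IsLocalRing.maximalIdeal (Localization.AtPrime q') := by
    intro c
    obtain ⟨b, s, rfl⟩ := IsLocalization.exists_mk'_eq q'.primeCompl c
    obtain ⟨a₁, a₂, ha₁, ha₂, ha₂q, hba⟩ :=
      exists_invariant_mul_sub_mem q H huH huq huN (b := (b : R)) ((hB _).mp b.2)
    obtain ⟨s₁, s₂, hs₁, hs₂, hs₂q, hss⟩ :=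
      exists_invariant_mul_sub_mem q H huH huq huN (b := ((s : B') : R)) ((hB _).mp (s : B').2)
    have hsq : ((s : B') : R) ∉ q := fun h => s.2 ((hmemq' _).mpr h)
    have hs₁q : s₁ ∉ q := by
      intro h
      have h1 : ((s : B') : R) * s₂ ∈ q := by
        have := q.add_mem hss h
        rwa [sub_add_cancel] at this
      rcases (Ideal.IsPrime.mem_or_mem inferInstance h1) with h | h
      exacts [hsq h, hs₂q h]
    let α₁ : A := ⟨a₁, (hA _).mpr ha₁⟩
    let α₂ : A := ⟨a₂, (hA _).mpr ha₂⟩
    let σ₁ : A := ⟨s₁, (hA _).mpr hs₁⟩
    let σ₂ : A := ⟨s₂, (hA _).mpr hs₂⟩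
    obtain ⟨d, hd⟩ : ∃ d : A, d = α₂ * σ₁ := ⟨_, rfl⟩
    obtain ⟨e, he⟩ : ∃ e : A, e = α₁ * σ₂ := ⟨_, rfl⟩
    have hden : d ∈ p'.primeCompl := by
      intro h
      rw [hd] at h
      have h := (hmemp' _).mp h
      rcases (Ideal.IsPrime.mem_or_mem inferInstance h) with h | h
      exacts [ha₂q h, hs₁q h]
    refine ⟨IsLocalization.mk' _ e ⟨d, hden⟩, ?_⟩
    have hunit : IsUnit (algebraMap B' (Localization.AtPrime q')
        ((s : B') * Subring.inclusion hle d)) := by
      apply IsLocalization.map_units (Localization.AtPrime q')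
        (⟨(s : B') * Subring.inclusion hle d, ?_⟩ : q'.primeCompl)
      refine q'.primeCompl.mul_mem s.2 ?_
      intro h
      exact hden ((hmemp' _).mpr ((hmemq' _).mp h))
    rw [← Ideal.mul_unit_mem_iff_mem _ hunit]
    have hkey : (IsLocalization.mk' (Localization.AtPrime q') b s -
        φ (IsLocalization.mk' _ e ⟨d, hden⟩)) *
        algebraMap B' (Localization.AtPrime q') ((s : B') * Subring.inclusion hle d) =
        algebraMap B' (Localization.AtPrime q')
          (b * Subring.inclusion hle d - Subring.inclusion hle e * s) := by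
      have e1 : IsLocalization.mk' (Localization.AtPrime q') b s *
          algebraMap B' (Localization.AtPrime q') (s : B') = algebraMap B' _ b :=
        IsLocalization.mk'_spec _ _ _
      have e2 : φ (IsLocalization.mk' _ e ⟨d, hden⟩) *
          algebraMap B' (Localization.AtPrime q') (Subring.inclusion hle d) =
          algebraMap B' (Localization.AtPrime q') (Subring.inclusion hle e) := by
        rw [← hφ, ← hφ, ← map_mul]
        congr 1
        exact IsLocalization.mk'_spec _ _ _
      rw [map_sub, map_mul, map_mul, map_mul, ← e1, ← e2]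
      ring
    rw [hkey, IsLocalization.AtPrime.to_map_mem_maximal_iff _ q', hmemq', hd, he]
    change (b : R) * (a₂ * s₁) - a₁ * s₂ * ((s : B') : R) ∈ q
    have : (b : R) * (a₂ * s₁) - a₁ * s₂ * ((s : B') : R) =
        ((b : R) * a₂ - a₁) * s₁ - a₁ * (((s : B') : R) * s₂ - s₁) := by ring
    rw [this]
    exact q.sub_mem (q.mul_mem_right _ hba) (q.mul_mem_left _ hss)
  exact surjective_and_comap_pow_of_flat_unramified φ ha hres hflat n

end Groth.Agent.H1.InvEt
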