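import Groth.Agent.H1.BrSplit
import Groth.Agent.H1.GaloisDescent
import Mathlib.LinearAlgebra.ExteriorPower.Basis
import Mathlib.LinearAlgebra.Alternating.Basic
import Mathlib.LinearAlgebra.Multilinear.Basis

/-!
Kronecker products of matrices and the left ideal of "alternating rows".
-/

set_option autoImplicit false
set_option linter.unusedSectionVars false
set_option linter.unusedVariables false

open scoped TensorProduct

namespace Groth.Agent.H1

universe u v w

section kron

variable (K : Type v) [Field K] (n r : ℕ)

/-- multi-indices. -/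
abbrev MIdx (n r : ℕ) : Type := Fin r → Fin n

/-- the Kronecker product of `r` square matrices of size `n`. -/
def kron (X : Fin r → Matrix (Fin n) (Fin n) K) : Matrix (MIdx n r) (MIdx n r) K :=
  Matrix.of fun I J => ∏ j, X j (I j) (J j)

variable {K n r}

@[simp]
theorem kron_apply (X : Fin r → Matrix (Fin n) (Fin n) K) (I J : MIdx n r) :
    kron K n r X I J = ∏ j, X j (I j) (J j) := rfl

theorem kron_one : kron K n r (fun _ => 1) = 1 := by
  ext I J
  rw [kron_apply, Matrix.one_apply]
  by_cases h : I = J
  · subst h
    simp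
  · rw [if_neg h]
    obtain ⟨j, hj⟩ := Function.ne_iff.mp h
    exact Finset.prod_eq_zero (Finset.mem_univ j) (by simp [hj])

theorem kron_mul (X Y : Fin r → Matrix (Fin n) (Fin n) K) :
    kron K n r (X * Y) = kron K n r X * kron K n r Y := by
  ext I J
  rw [kron_apply, Matrix.mul_apply]
  simp only [Pi.mul_apply, Matrix.mul_apply, kron_apply]
  rw [Finset.prod_univ_sum]
  simp only [Fintype.piFinset_univ, Finset.prod_mul_distrib]

variable (K n r) in
/-- the Kronecker product as a multilinear map. -/
def kronMulti : MultilinearMap K (fun _ : Fin r => Matrix (Fin n) (Fin n) K)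
    (Matrix (MIdx n r) (MIdx n r) K) :=
  MultilinearMap.pi (M' := fun _ : MIdx n r => MIdx n r → K) fun I =>
    MultilinearMap.pi (M' := fun _ : MIdx n r => K) fun J =>
      (MultilinearMap.mkPiAlgebra K (Fin r) K).compLinearMap fun j =>
        Matrix.entryLinearMap K K (I j) (J j)

@[simp]
theorem kronMulti_apply (X : Fin r → Matrix (Fin n) (Fin n) K) :
    kronMulti K n r X = kron K n r X := by
  ext I J
  rfl

theorem kron_map (σ : K →+* K) (X : Fin r → Matrix (Fin n) (Fin n) K) :
    (kron K n r X).map σ = kron K n r (fun j => (X j).map σ) := by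
  ext I J
  simp [map_prod]

end kron

section alt

variable (K : Type v) [Field K] (n r : ℕ)

/-- tuples of standard basis vectors. -/
def eTuple (I : MIdx n r) : Fin r → (Fin n → K) := fun j => Pi.single (I j) 1

/-- restriction of an alternating form to tuples of basis vectors. -/
def altRes : ((Fin n → K) [⋀^Fin r]→ₗ[K] K) →ₗ[K] (MIdx n r → K) where
  toFun ω := fun I => ω (eTuple K n r I)
  map_add' _ _ := rfl
  map_smul' _ _ := rfl

theorem altRes_apply (ω : (Fin n → K) [⋀^Fin r]→ₗ[K] K) (I : MIdx n r) :
    altRes K n r ω I = ω (eTuple K n r I) := rfl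

theorem altRes_injective : Function.Injective (altRes K n r) := by
  intro ω ω' h
  apply Module.Basis.ext_alternating (Pi.basisFun K (Fin n))
  intro v _
  have := congrFun h v
  simp only [Pi.basisFun_apply]
  exact this

/-- the alternating functions on multi-indices. -/
def altFun : Submodule K (MIdx n r → K) := LinearMap.range (altRes K n r)

theorem finrank_altFun : Module.finrank K (altFun K n r) = Nat.choose n r := by
  rw [altFun, LinearMap.finrank_range_of_inj (altRes_injective K n r),
    (exteriorPower.alternatingMapLinearEquiv (R := K) (M := Fin n → K) (N := K)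
      (n := r)).finrank_eq,
    Module.finrank_linearMap, exteriorPower.finrank_eq, Module.finrank_self, mul_one,
    Module.finrank_fin_fun]

/-- matrices all of whose rows are alternating functions of the column index. -/
def altIdeal : Submodule K (Matrix (MIdx n r) (MIdx n r) K) where
  carrier := {X | ∀ L, X L ∈ altFun K n r}
  add_mem' := fun {X Y} hX hY L => (altFun K n r).add_mem (hX L) (hY L)
  zero_mem' := fun L => (altFun K n r).zero_mem
  smul_mem' := fun c X hX L => (altFun K n r).smul_mem c (hX L)

theorem mem_altIdeal (X : Matrix (MIdx n r) (MIdx n r) K) :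
    X ∈ altIdeal K n r ↔ ∀ L, X L ∈ altFun K n r := Iff.rfl

/-- the rows of a matrix in the ideal. -/
def altIdealEquiv : altIdeal K n r ≃ₗ[K] (MIdx n r → altFun K n r) where
  toFun X := fun L => ⟨X.1 L, X.2 L⟩
  invFun f := ⟨Matrix.of fun L => (f L).1, fun L => (f L).2⟩
  left_inv X := rfl
  right_inv f := rfl
  map_add' X Y := rfl
  map_smul' c X := rfl

theorem finrank_altIdeal :
    Module.finrank K (altIdeal K n r) = n ^ r * Nat.choose n r := by
  rw [(altIdealEquiv K n r).finrank_eq, Module.finrank_pi_fintype]
  simp [finrank_altFun]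

variable {K n r}

theorem mul_mem_altIdeal (Y : Matrix (MIdx n r) (MIdx n r) K)
    {X : Matrix (MIdx n r) (MIdx n r) K} (hX : X ∈ altIdeal K n r) :
    Y * X ∈ altIdeal K n r := by
  intro L
  have h : (Y * X) L = ∑ M, Y L M • X M := by
    ext I
    simp [Matrix.mul_apply, Finset.sum_apply]
  rw [h]
  exact (altFun K n r).sum_mem fun M _ => (altFun K n r).smul_mem _ (hX M)

theorem mul_kron_mem_altIdeal {X : Matrix (MIdx n r) (MIdx n r) K} (hX : X ∈ altIdeal K n r)
    (u : Matrix (Fin n) (Fin n) K) : X * kron K n r (fun _ => u) ∈ altIdeal K n r := by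
  intro L
  obtain ⟨ω, hω⟩ := hX L
  refine ⟨ω.compLinearMap (Matrix.toLin' u), ?_⟩
  ext I
  rw [altRes_apply]
  have h1 : (fun j => Matrix.toLin' u (eTuple K n r I j)) =
      fun j => ∑ l, u l (I j) • (Pi.single l (1 : K) : Fin n → K) := by
    funext j
    ext l
    simp [eTuple, Finset.sum_apply, Pi.single_apply]
  have h2 : (ω.compLinearMap (Matrix.toLin' u)) (eTuple K n r I) =
      ω (fun j => Matrix.toLin' u (eTuple K n r I j)) := rfl
  rw [h2, h1]
  have h3 := (ω : MultilinearMap K (fun _ : Fin r => Fin n → K) K).map_sum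
    (fun j l => u l (I j) • (Pi.single l (1 : K) : Fin n → K))
  have h3' : ω (fun j => ∑ l, u l (I j) • (Pi.single l (1 : K) : Fin n → K)) =
      ∑ J : Fin r → Fin n, ω (fun j => u (J j) (I j) • (Pi.single (J j) (1 : K) : Fin n → K)) :=
    h3
  rw [h3', Matrix.mul_apply]
  refine Finset.sum_congr rfl fun J _ => ?_
  have h4 := (ω : MultilinearMap K (fun _ : Fin r => Fin n → K) K).map_smul_univ
    (fun j => u (J j) (I j)) (fun j => (Pi.single (J j) (1 : K) : Fin n → K))
  have h4' : ω (fun j => u (J j) (I j) • (Pi.single (J j) (1 : K) : Fin n → K)) =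
      (∏ j, u (J j) (I j)) • ω (fun j => (Pi.single (J j) (1 : K) : Fin n → K)) := h4
  rw [h4', kron_apply, smul_eq_mul, mul_comm]
  have h5 : X L J = ω (eTuple K n r J) := by
    rw [← hω]; rfl
  rw [h5]
  rfl

/-- the twist of an alternating form by a field automorphism. -/
def altTwist (σ : K ≃+* K) (ω : (Fin n → K) [⋀^Fin r]→ₗ[K] K) :
    (Fin n → K) [⋀^Fin r]→ₗ[K] K where
  toFun v := σ (ω (fun j l => σ.symm (v j l)))
  map_update_add' := by
    intro _ v j a b
    have h : ∀ x : Fin n → K, (fun j' l => σ.symm (Function.update v j x j' l)) =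
        Function.update (fun j' l => σ.symm (v j' l)) j (fun l => σ.symm (x l)) := by
      intro x
      funext j'
      exact Function.apply_update (fun _ (w : Fin n → K) => fun l => σ.symm (w l)) v j x j'
    rw [h, h, h]
    have h2 : (fun l => σ.symm ((a + b) l)) = (fun l => σ.symm (a l)) + fun l => σ.symm (b l) := by
      funext l
      simp
    rw [h2, ω.map_update_add, map_add]
  map_update_smul' := by
    intro _ v j c a
    have h : ∀ x : Fin n → K, (fun j' l => σ.symm (Function.update v j x j' l)) =
        Function.update (fun j' l => σ.symm (v j' l)) j (fun l => σ.symm (x l)) := by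
      intro x
      funext j'
      exact Function.apply_update (fun _ (w : Fin n → K) => fun l => σ.symm (w l)) v j x j'
    rw [h, h]
    have h2 : (fun l => σ.symm ((c • a) l)) = σ.symm c • fun l => σ.symm (a l) := by
      funext l
      simp
    rw [h2, ω.map_update_smul, smul_eq_mul, map_mul, RingEquiv.apply_symm_apply, smul_eq_mul]
  map_eq_zero_of_eq' := by
    intro v i j hv hij
    have : ω (fun j l => σ.symm (v j l)) = 0 :=
      ω.map_eq_zero_of_eq _ (by simp only [hv]) hij
    rw [this, map_zero]

theorem altRes_altTwist (σ : K ≃+* K) (ω : (Fin n → K) [⋀^Fin r]→ₗ[K] K) (I : MIdx n r) :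
    altRes K n r (altTwist σ ω) I = σ (altRes K n r ω I) := by
  rw [altRes_apply, altRes_apply]
  show σ (ω (fun j l => σ.symm (eTuple K n r I j l))) = _
  congr 2
  funext j l
  simp only [eTuple, Pi.single_apply]
  split_ifs <;> simp

theorem map_mem_altIdeal (σ : K ≃+* K) {X : Matrix (MIdx n r) (MIdx n r) K}
    (hX : X ∈ altIdeal K n r) : X.map σ ∈ altIdeal K n r := by
  intro L
  obtain ⟨ω, hω⟩ := hX L
  refine ⟨altTwist σ ω, ?_⟩
  ext I
  rw [altRes_altTwist, hω]
  rfl

end alt

end Groth.Agent.H1
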