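import Groth.Agent.H1.KronAlt
import Groth.Agent.H1.BrModDim
import Groth.Agent.H1.CSACentralizer
import Groth.Agent.H1.CSAFiniteSplit

/-!
The exterior power left ideal of a tensor power of a central simple algebra, by Galois descent.
-/

set_option autoImplicit false
set_option linter.unusedSectionVars false
set_option linter.unusedVariables false

open scoped TensorProduct

namespace Groth.Agent.H1

universe u v w

section kronHom

variable {k : Type u} [Field k] {K : Type v} [Field K] [Algebra k K]
  {A : Type w} [Ring A] [Algebra k A] (n r : ℕ) (ρ : A →ₐ[k] Matrix (Fin n) (Fin n) K)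

/-- the tensor power of a representation, with values in matrices indexed by multi-indices. -/
noncomputable def kronHom : CSAGal.tpow k A r →ₐ[k] Matrix (MIdx n r) (MIdx n r) K :=
  PiTensorProduct.liftAlgHom
    (((kronMulti K n r).restrictScalars k).compLinearMap fun _ => ρ.toLinearMap)
    (by
      show kronMulti K n r (fun j => ρ ((1 : Fin r → A) j)) = 1
      simp [kron_one])
    (by
      intro x y
      show kronMulti K n r (fun j => ρ ((x * y) j)) =
        kronMulti K n r (fun j => ρ (x j)) * kronMulti K n r (fun j => ρ (y j))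
      simp only [kronMulti_apply, Pi.mul_apply, map_mul]
      exact kron_mul (fun j => ρ (x j)) (fun j => ρ (y j)))

theorem kronHom_tprod (a : Fin r → A) :
    kronHom n r ρ (PiTensorProduct.tprod k a) = kron K n r (fun j => ρ (a j)) := by
  show PiTensorProduct.lift _ (PiTensorProduct.tprod k a) = _
  rw [PiTensorProduct.lift.tprod]
  show kronMulti K n r (fun j => ρ (a j)) = _
  rw [kronMulti_apply]

/-- the base change of `kronHom`. -/
noncomputable def kronBase : K ⊗[k] CSAGal.tpow k A r →ₐ[K] Matrix (MIdx n r) (MIdx n r) K :=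
  Algebra.TensorProduct.lift (Algebra.ofId K _) (kronHom n r ρ)
    (fun c _ => Algebra.commute_algebraMap_left c _)

theorem kronBase_tmul (c : K) (y : CSAGal.tpow k A r) :
    kronBase n r ρ (c ⊗ₜ[k] y) = c • kronHom n r ρ y := by
  simp [kronBase, Algebra.smul_def, Algebra.ofId_apply]

theorem map_smul_matrix (σ : K ≃ₐ[k] K) (c : K) {ι : Type*} (M : Matrix ι ι K) :
    (c • M).map σ = σ c • M.map σ := by
  ext i j
  simp

theorem map_smul_matrix_base (σ : K ≃ₐ[k] K) (s : k) {ι : Type*} (M : Matrix ι ι K) :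
    (s • M).map σ = s • M.map σ := by
  ext i j
  simp [Algebra.smul_def]

theorem kronHom_intertwine (σ : K ≃ₐ[k] K) (u : Matrix (Fin n) (Fin n) K)
    (hu : ∀ a, ρ a * u = u * (ρ a).map σ) (y : CSAGal.tpow k A r) :
    kronHom n r ρ y * kron K n r (fun _ => u) =
      kron K n r (fun _ => u) * (kronHom n r ρ y).map σ := by
  induction y using PiTensorProduct.induction_on with
  | smul_tprod s a =>
    rw [map_smul, kronHom_tprod, map_smul_matrix_base, smul_mul_assoc, mul_smul_comm]
    congr 1
    have h1 : (kron K n r fun j => ρ (a j)).map σ = kron K n r (fun j => (ρ (a j)).map σ) :=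
      kron_map (σ : K →+* K) _
    rw [h1, ← kron_mul, ← kron_mul]
    congr 1
    funext j
    exact hu (a j)
  | add y z hy hz =>
    have h2 : (kronHom n r ρ y + kronHom n r ρ z).map σ =
        (kronHom n r ρ y).map σ + (kronHom n r ρ z).map σ :=
      Matrix.map_add _ (fun a b => map_add σ a b) _ _
    rw [map_add, add_mul, h2, mul_add, hy, hz]

theorem kronBase_intertwine (σ : K ≃ₐ[k] K) (u : Matrix (Fin n) (Fin n) K)
    (hu : ∀ a, ρ a * u = u * (ρ a).map σ) (x : K ⊗[k] CSAGal.tpow k A r) :
    kronBase n r ρ (galAct k K _ σ x) * kron K n r (fun _ => u) =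
      kron K n r (fun _ => u) * (kronBase n r ρ x).map σ := by
  induction x using TensorProduct.induction_on with
  | zero => simp
  | tmul c y =>
    rw [galAct_tmul, kronBase_tmul, kronBase_tmul, map_smul_matrix, smul_mul_assoc, mul_smul_comm,
      kronHom_intertwine n r ρ σ u hu]
  | add x y hx hy =>
    have h2 : (kronBase n r ρ x + kronBase n r ρ y).map σ =
        (kronBase n r ρ x).map σ + (kronBase n r ρ y).map σ :=
      Matrix.map_add _ (fun a b => map_add σ a b) _ _
    rw [map_add, map_add, add_mul, map_add, h2, mul_add, hx, hy]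

end kronHom

section main

variable (k : Type u) [Field k] (A : Type w) [Ring A] [Algebra k A] [Algebra.IsCentral k A]
  [IsSimpleRing A] [FiniteDimensional k A]

/-- the key step: the twist by a Galois automorphism of a matrix representation of `A` is
conjugate to the representation. -/
theorem exists_conj_of_galois {K : Type v} [Field K] [Algebra k K] (n : ℕ) (hn : n ≠ 0)
    (φ : K ⊗[k] A ≃ₐ[K] Matrix (Fin n) (Fin n) K) (σ : K ≃ₐ[k] K) :
    ∃ u u' : Matrix (Fin n) (Fin n) K, u * u' = 1 ∧
      ∀ a : A, φ (1 ⊗ₜ[k] a) * u = u * (φ (1 ⊗ₜ[k] a)).map σ := by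
  have : NeZero n := ⟨hn⟩
  have hs : IsSimpleRing (K ⊗[k] A) := isSimpleRing_tensor
  let ρ : A →ₐ[k] Matrix (Fin n) (Fin n) K :=
    (φ.restrictScalars k).toAlgHom.comp Algebra.TensorProduct.includeRight
  let ρ' : A →ₐ[k] Matrix (Fin n) (Fin n) K :=
    ((σ.mapMatrix : Matrix (Fin n) (Fin n) K ≃ₐ[k] Matrix (Fin n) (Fin n) K).toAlgHom).comp ρ
  let f : K ⊗[k] A →ₐ[K] Matrix (Fin n) (Fin n) K :=
    Algebra.TensorProduct.lift (Algebra.ofId K _) ρ'
      (fun c _ => Algebra.commute_algebraMap_left c _)
  obtain ⟨x, hx⟩ := skolem_noether f φ.toAlgHom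
  refine ⟨((x⁻¹ : (Matrix (Fin n) (Fin n) K)ˣ) : Matrix (Fin n) (Fin n) K), (x : Matrix _ _ K),
    by simp, fun a => ?_⟩
  have h1 := hx (1 ⊗ₜ[k] a)
  have h2 : f (1 ⊗ₜ[k] a) = (φ (1 ⊗ₜ[k] a)).map σ := by
    simp [f, ρ', ρ]
  rw [h2] at h1
  rw [h1]
  simp [mul_assoc]

/-- **the exterior power ideal**: the `r`-th tensor power of a central simple algebra of degree
`n` has a left ideal of dimension `n ^ r * n.choose r`. -/
theorem exists_leftIdeal_tpow (n : ℕ) (hn : Module.finrank k A = n ^ 2) (r : ℕ) :
    ∃ J₀ : Submodule k (CSAGal.tpow k A r), (∀ y x, x ∈ J₀ → y * x ∈ J₀) ∧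
      Module.finrank k J₀ = n ^ r * Nat.choose n r := by
  obtain ⟨K, _, _, hfin, hgal, m, hm, ⟨φ⟩⟩ := exists_finite_galois_splitting k A
  have hmn : m = n := by
    have := finrank_eq_sq_of_algEquiv_matrix k A K m φ
    rw [hn] at this
    exact (Nat.pow_left_injective (n := 2) (by norm_num) this).symm
  subst hmn
  have hc := isCentral_tpow k A r
  have hsR := isSimpleRing_tpow k A r
  have hfR := finiteDimensional_tpow k A r
  let ρ : A →ₐ[k] Matrix (Fin m) (Fin m) K :=
    (φ.restrictScalars k).toAlgHom.comp Algebra.TensorProduct.includeRight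
  have hρ : ∀ a, ρ a = φ (1 ⊗ₜ[k] a) := fun a => rfl
  let Φ := kronBase m r ρ
  have hsKR : IsSimpleRing (K ⊗[k] CSAGal.tpow k A r) := isSimpleRing_tensor
  have hne : Nonempty (Fin m) := ⟨⟨0, Nat.pos_of_ne_zero hm⟩⟩
  have hbij : Function.Bijective Φ := by
    apply bijective_of_isSimpleRing_of_finrank_eq
    rw [Module.finrank_baseChange, finrank_tpow, hn, Module.finrank_matrix]
    simp [Fintype.card_pi]
    ring
  let Φe : (K ⊗[k] CSAGal.tpow k A r) ≃ₗ[K] Matrix (MIdx m r) (MIdx m r) K :=
    LinearEquiv.ofBijective Φ.toLinearMap hbij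
  let J : Submodule K (K ⊗[k] CSAGal.tpow k A r) := (altIdeal K m r).comap Φe.toLinearMap
  have hJmem : ∀ x, x ∈ J ↔ Φ x ∈ altIdeal K m r := fun x => Iff.rfl
  have hstable : ∀ (σ : K ≃ₐ[k] K) (x : K ⊗[k] CSAGal.tpow k A r), x ∈ J →
      galAct k K _ σ x ∈ J := by
    intro σ x hx
    obtain ⟨u, u', huu', hu⟩ := exists_conj_of_galois k A m hm φ σ
    have h1 := kronBase_intertwine m r ρ σ u (fun a => by rw [hρ]; exact hu a) x
    have h2 : kron K m r (fun _ => u) * kron K m r (fun _ => u') = 1 := by
      rw [← kron_mul]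
      have : ((fun _ => u) * fun _ => u' : Fin r → Matrix (Fin m) (Fin m) K) = fun _ => 1 := by
        funext j
        exact huu'
      rw [this, kron_one]
    have h3 : Φ (galAct k K _ σ x) =
        kron K m r (fun _ => u) * (Φ x).map σ * kron K m r (fun _ => u') := by
      rw [← h1, mul_assoc, h2, mul_one]
    rw [hJmem, h3]
    apply mul_kron_mem_altIdeal
    apply mul_mem_altIdeal
    exact map_mem_altIdeal σ.toRingEquiv ((hJmem x).mp hx)
  have hdesc := finrank_comap_of_galois_stable J hstable
  refine ⟨(J.restrictScalars k).comap (TensorProduct.mk k K (CSAGal.tpow k A r) 1), ?_, ?_⟩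
  · intro y x hx
    have hx' : Φ (1 ⊗ₜ[k] x) ∈ altIdeal K m r := hx
    show Φ (1 ⊗ₜ[k] (y * x)) ∈ altIdeal K m r
    have : (1 : K) ⊗ₜ[k] (y * x) = (1 ⊗ₜ[k] y) * (1 ⊗ₜ[k] x) := by
      rw [Algebra.TensorProduct.tmul_mul_tmul, one_mul]
    rw [this, map_mul]
    exact mul_mem_altIdeal _ hx'
  · rw [hdesc]
    have h4 : J = (altIdeal K m r).map Φe.symm.toLinearMap :=
      Submodule.comap_equiv_eq_map_symm Φe _
    rw [h4]
    have h5 := LinearEquiv.finrank_map_eq Φe.symm (altIdeal K m r)
    rw [finrank_altIdeal] at h5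
    exact h5

/-- the index of the `r`-th tensor power of a central simple algebra of degree `n` divides the
binomial coefficient `n.choose r`. -/
theorem IsIndex.tpow_dvd_choose_degree (n : ℕ) (hn : Module.finrank k A = n ^ 2) (r : ℕ) {d' : ℕ}
    (h : CSAGal.IsIndex k (CSAGal.tpow k A r) d') : d' ∣ Nat.choose n r := by
  obtain ⟨J₀, hJ₀, hdim⟩ := exists_leftIdeal_tpow k A n hn r
  have hc := isCentral_tpow k A r
  have hsR := isSimpleRing_tpow k A r
  have hfR := finiteDimensional_tpow k A r
  let J : Submodule (CSAGal.tpow k A r) (CSAGal.tpow k A r) :=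
    { carrier := J₀
      add_mem' := J₀.add_mem
      zero_mem' := J₀.zero_mem
      smul_mem' := fun y x hx => hJ₀ y x hx }
  let e : J ≃ₗ[k] J₀ :=
    { toFun := fun x => ⟨x.1, x.2⟩
      invFun := fun x => ⟨x.1, x.2⟩
      left_inv := fun x => rfl
      right_inv := fun x => rfl
      map_add' := fun x y => rfl
      map_smul' := fun c x => rfl }
  have hfinJ : FiniteDimensional k J := Module.Finite.equiv e.symm
  have hN : Module.finrank k (CSAGal.tpow k A r) = (n ^ r) ^ 2 := by
    rw [finrank_tpow, hn]; ring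
  have h1 := IsIndex.mul_dvd_finrank_module h hN J
  rw [e.finrank_eq, hdim] at h1
  have hpos : 0 < Module.finrank k A := Module.finrank_pos
  have hn0 : 0 < n := by
    rcases Nat.eq_zero_or_pos n with h0 | h0
    · rw [h0] at hn; simp at hn; omega
    · exact h0
  exact Nat.dvd_of_mul_dvd_mul_left (pow_pos hn0 r) h1

variable {k A}

/-- the index of the `r`-th tensor power of a central simple algebra of index `d` divides the
binomial coefficient `d.choose r`. -/
theorem IsIndex.tpow_dvd_choose {d : ℕ} (hA : CSAGal.IsIndex k A d) (r : ℕ) {d' : ℕ}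
    (h : CSAGal.IsIndex k (CSAGal.tpow k A r) d') : d' ∣ Nat.choose d r := by
  obtain ⟨D, _, _, _, _, hd, hD⟩ := IsIndex.exists_division hA
  have hc := isCentral_tpow k A r
  have hsR := isSimpleRing_tpow k A r
  have hfR := finiteDimensional_tpow k A r
  have hc' := isCentral_tpow k D r
  have hsR' := isSimpleRing_tpow k D r
  have hfR' := finiteDimensional_tpow k D r
  have h' : CSAGal.IsIndex k (CSAGal.tpow k D r) d' := IsIndex.of_brEq h (BrEq.tpow hD r)
  exact IsIndex.tpow_dvd_choose_degree k D d hd r h'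

/-- an algebra of index one is split. -/
theorem splits_of_isIndex_one (h : CSAGal.IsIndex k A 1) : Curves.Splits k A k := by
  obtain ⟨D, _, _, _, _, hd, hD⟩ := IsIndex.exists_division h
  have h1 : Function.Bijective (Algebra.ofId k D) := by
    apply bijective_of_isSimpleRing_of_finrank_eq
    rw [Module.finrank_self, hd]; norm_num
  exact splits_of_brEq_base k A
    (hD.trans (BrEq.of_algEquiv (AlgEquiv.ofBijective _ h1).symm))

/-- **the period divides the index**: the `d`-th tensor power of an algebra of index `d` is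
split. -/
theorem IsIndex.kills {d : ℕ} (hA : CSAGal.IsIndex k A d) : Kills k A d := by
  have hc := isCentral_tpow k A d
  have hsR := isSimpleRing_tpow k A d
  have hfR := finiteDimensional_tpow k A d
  obtain ⟨d', hd'⟩ := exists_isIndex k (CSAGal.tpow k A d)
  have h1 : d' ∣ Nat.choose d d := IsIndex.tpow_dvd_choose hA d hd'
  rw [Nat.choose_self, Nat.dvd_one] at h1
  subst h1
  exact brEq_base_of_splits k _ (splits_of_isIndex_one hd')

theorem IsIndex.splits_tpow {d : ℕ} (hA : CSAGal.IsIndex k A d) :
    Curves.Splits k (CSAGal.tpow k A d) k :=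
  (kills_iff_splits k A d).mp (IsIndex.kills hA)

end main

end Groth.Agent.H1
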