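/-
helper1: the "no-name lemma" for fields of invariants: Speiser's lemma for a faithful finite group
action, generation of invariants by averaging, and the abstract no-name lemma.
-/
import Mathlib

set_option autoImplicit false

namespace Groth.Agent.H1.NoName

universe u v w

section speiser

variable {G : Type u} [Group G] [Fintype G] {K : Type v} [Field K] [MulSemiringAction G K]
  [FaithfulSMul G K]

/-- Dedekind independence for a faithful finite group action on a field. -/
theorem dedekind (c : G → K) (h : ∀ x : K, ∑ σ : G, c σ * σ • x = 0) : ∀ σ, c σ = 0 := by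
  have hli := linearIndependent_monoidHom K K
  let ι : G → (K →* K) := fun σ => (MulSemiringAction.toRingHom G K σ : K →+* K)
  have hinj : Function.Injective ι := by
    intro σ τ hστ
    apply FaithfulSMul.eq_of_smul_eq_smul (α := K)
    intro x
    exact DFunLike.congr_fun hστ x
  have hli' := hli.comp ι hinj
  rw [Fintype.linearIndependent_iff] at hli'
  apply hli' c
  funext x
  simp only [Function.comp_apply, Finset.sum_apply, Pi.smul_apply, smul_eq_mul, Pi.zero_apply]
  exact h x

variable {V : Type w} [AddCommGroup V] [Module K V]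
  (T : G → V →+ V)
  (hT : ∀ (σ : G) (x : K) (v : V), T σ (x • v) = (σ • x) • T σ v)
  (hmul : ∀ (σ τ : G) (v : V), T σ (T τ v) = T (σ * τ) v)
  (hone : ∀ v : V, T 1 v = v)

include hmul in
theorem sum_T_fixed (w : V) (τ : G) : T τ (∑ σ : G, T σ w) = ∑ σ : G, T σ w := by
  rw [map_sum]
  simp only [hmul]
  exact Fintype.sum_bijective (fun σ => τ * σ) (Group.mulLeft_bijective τ) _ _ (fun σ => rfl)

include hT hmul hone in
/-- Speiser: the fixed vectors of a semilinear action of a finite group acting faithfully on the
field span the whole space. -/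
theorem span_fixed_eq_top : Submodule.span K {v : V | ∀ σ, T σ v = v} = ⊤ := by
  by_contra hne
  obtain ⟨u, hu0, hu⟩ := Submodule.exists_le_ker_of_lt_top _ (lt_top_iff_ne_top.2 hne)
  apply hu0
  refine LinearMap.ext fun v => ?_
  have key : ∀ x : K, ∑ σ : G, u (T σ v) * σ • x = 0 := by
    intro x
    have hmem : (∑ σ : G, T σ (x • v)) ∈ {v : V | ∀ σ, T σ v = v} :=
      fun τ => sum_T_fixed T hmul (x • v) τ
    have := LinearMap.mem_ker.1 (hu (Submodule.subset_span hmem))
    rw [map_sum] at this
    rw [← this]
    refine Finset.sum_congr rfl fun σ _ => ?_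
    rw [hT, map_smul, smul_eq_mul, mul_comm]
  have h1 := dedekind _ key 1
  rw [hone] at h1
  rw [h1, LinearMap.zero_apply]

end speiser

section averaging

variable {G : Type u} [Group G] [Fintype G] {L : Type v} [Field L] [MulSemiringAction G L]
  (K₀ : Subfield L) (hK : ∀ (σ : G) (a : L), a ∈ K₀ → σ • a ∈ K₀)
  (hcard : (Fintype.card G : L) ≠ 0)
  {ι : Type w} (t : ι → L) (ht : ∀ i (σ : G), σ • t i = t i)
  (hgen : Subfield.closure ((K₀ : Set L) ∪ Set.range t) = ⊤)

omit [Fintype G] in
theorem smul_sum_smul' [Fintype G] (f : L) (τ : G) : τ • ∑ σ : G, σ • f = ∑ σ : G, σ • f := by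
  rw [Finset.smul_sum]
  simp only [smul_smul]
  exact Fintype.sum_bijective (fun σ => τ * σ) (Group.mulLeft_bijective τ) _ _ (fun σ => rfl)

omit [Fintype G] in
theorem smul_prod_smul' [Fintype G] (f : L) (τ : G) : τ • ∏ σ : G, σ • f = ∏ σ : G, σ • f := by
  rw [Finset.smul_prod']
  simp only [smul_smul]
  exact Fintype.prod_bijective (fun σ => τ * σ) (Group.mulLeft_bijective τ) _ _ (fun σ => rfl)

include hK hcard ht hgen in
/-- If `L` is generated as a field by a `G`-stable subfield `K₀` and `G`-fixed elements `t`, and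
`|G|` is invertible, then the `G`-fixed elements of `L` are generated by the fixed elements of
`K₀` and `t`. -/
theorem mem_closure_of_fixed (f : L) (hf : ∀ σ : G, σ • f = f) :
    f ∈ Subfield.closure ({a : L | a ∈ K₀ ∧ ∀ σ : G, σ • a = a} ∪ Set.range t) := by
  set E : Subfield L :=
    Subfield.closure ({a : L | a ∈ K₀ ∧ ∀ σ : G, σ • a = a} ∪ Set.range t) with hE
  have hEfix : ∀ e ∈ E, ∀ σ : G, σ • e = e := by
    intro e he σ
    induction he using Subfield.closure_induction with
    | mem x hx =>
      rcases hx with hx | ⟨i, rfl⟩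
      · exact hx.2 σ
      · exact ht i σ
    | one => exact smul_one σ
    | add x y _ _ hx hy => rw [smul_add, hx, hy]
    | neg x _ hx => rw [smul_neg, hx]
    | inv x _ hx => rw [smul_inv'', hx]
    | mul x y _ _ hx hy => rw [smul_mul', hx, hy]
  set S : Submodule E L := Submodule.span E (K₀ : Set L) with hS
  have hKS : ∀ a ∈ K₀, a ∈ S := fun a ha => Submodule.subset_span ha
  have hES : ∀ e ∈ E, e ∈ S := by
    intro e he
    have : e = (⟨e, he⟩ : E) • (1 : L) := by
      rw [Subfield.smul_def, smul_eq_mul, mul_one]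
    rw [this]
    exact S.smul_mem _ (hKS 1 K₀.one_mem)
  have hSmul : ∀ f g : L, f ∈ S → g ∈ S → f * g ∈ S := by
    intro f g hf hg
    have h1 : f * g ∈ S * S := Submodule.mul_mem_mul hf hg
    have h2 : S * S ≤ S := by
      rw [hS, Submodule.span_mul_span]
      apply Submodule.span_mono
      rintro _ ⟨a, ha, b, hb, rfl⟩
      exact K₀.mul_mem ha hb
    exact h2 h1
  have hSsmul : ∀ f : L, f ∈ S → ∀ σ : G, σ • f ∈ S := by
    intro f hf σ
    induction hf using Submodule.span_induction with
    | mem x hx => exact hKS _ (hK σ x hx)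
    | zero => rw [smul_zero]; exact S.zero_mem
    | add x y _ _ hx hy => rw [smul_add]; exact S.add_mem hx hy
    | smul e x _ hx =>
      rw [Subfield.smul_def, smul_eq_mul, smul_mul', hEfix _ e.2 σ]
      exact S.smul_mem e hx
  have hTr : ∀ f : L, f ∈ S → ∑ σ : G, σ • f ∈ E := by
    intro f hf
    induction hf using Submodule.span_induction with
    | mem x hx =>
      apply Subfield.subset_closure
      left
      exact ⟨K₀.sum_mem (fun σ _ => hK σ x hx), fun τ => smul_sum_smul' x τ⟩
    | zero => simp only [smul_zero, Finset.sum_const_zero]; exact E.zero_mem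
    | add x y _ _ hx hy =>
      simp only [smul_add, Finset.sum_add_distrib]
      exact E.add_mem hx hy
    | smul e x _ hx =>
      have : ∑ σ : G, σ • (e • x) = (e : L) * ∑ σ : G, σ • x := by
        rw [Finset.mul_sum]
        refine Finset.sum_congr rfl fun σ _ => ?_
        rw [Subfield.smul_def, smul_eq_mul, smul_mul', hEfix _ e.2 σ]
      rw [this]
      exact E.mul_mem e.2 hx
  have hfixS : ∀ f : L, f ∈ S → (∀ σ : G, σ • f = f) → f ∈ E := by
    intro f hfS hf
    have h1 := hTr f hfS
    simp only [hf, Finset.sum_const, Finset.card_univ, nsmul_eq_mul] at h1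
    have h2 : f = (Fintype.card G : L)⁻¹ * ((Fintype.card G : L) * f) := by
      rw [← mul_assoc, inv_mul_cancel₀ hcard, one_mul]
    rw [h2]
    exact E.mul_mem (E.inv_mem (natCast_mem E _)) h1
  let Sring : Subring L :=
    { carrier := S
      mul_mem' := fun {a b} ha hb => hSmul a b ha hb
      one_mem' := hKS 1 K₀.one_mem
      add_mem' := fun {a b} ha hb => S.add_mem ha hb
      zero_mem' := S.zero_mem
      neg_mem' := fun {a} ha => S.neg_mem ha }
  have hSinv : ∀ f : L, f ∈ S → f⁻¹ ∈ S := by
    intro f hfS
    by_cases hf0 : f = 0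
    · rw [hf0, inv_zero]; exact S.zero_mem
    classical
    set N : L := ∏ σ : G, σ • f with hN
    set P : L := ∏ σ ∈ Finset.univ.erase (1 : G), σ • f with hP
    have hNS : N ∈ S := Subring.prod_mem Sring (fun σ _ => hSsmul f hfS σ)
    have hPS : P ∈ S := Subring.prod_mem Sring (fun σ _ => hSsmul f hfS σ)
    have hNE : N ∈ E := hfixS N hNS (fun τ => smul_prod_smul' f τ)
    have hN0 : N ≠ 0 := by
      rw [hN, Finset.prod_ne_zero_iff]
      intro σ _
      rwa [Ne, smul_eq_zero_iff_eq]
    have hfP : f * P = N := by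
      have := Finset.mul_prod_erase Finset.univ (fun σ : G => σ • f) (Finset.mem_univ 1)
      rwa [one_smul] at this
    have hinv : f⁻¹ = N⁻¹ * P := by
      apply inv_eq_of_mul_eq_one_right
      rw [mul_left_comm, hfP, inv_mul_cancel₀ hN0]
    rw [hinv]
    have : N⁻¹ * P = (⟨N⁻¹, E.inv_mem hNE⟩ : E) • P := by
      rw [Subfield.smul_def, smul_eq_mul]
    rw [this]
    exact S.smul_mem _ hPS
  let Sfield : Subfield L :=
    { Sring with
      inv_mem' := fun a ha => hSinv a ha }
  have htop : Sfield = ⊤ := by
    rw [eq_top_iff, ← hgen, Subfield.closure_le]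
    rintro x (hx | ⟨i, rfl⟩)
    · exact hKS x hx
    · exact hES _ (Subfield.subset_closure (Or.inr ⟨i, rfl⟩))
  have hfS : f ∈ S := by
    have : f ∈ Sfield := by rw [htop]; trivial
    exact this
  exact hfixS f hfS hf

end averaging

section basis

variable {G : Type u} [Group G] [Fintype G] {L : Type v} [Field L] [MulSemiringAction G L]
  (K₀ : Subfield L) (hK : ∀ (σ : G) (a : L), a ∈ K₀ → σ • a ∈ K₀)
  (hfaith : ∀ σ : G, (∀ a ∈ K₀, σ • a = a) → σ = 1)

/-- the action on a stable subfield. -/
@[reducible] def subfieldAction : MulSemiringAction G K₀ where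
  smul σ a := ⟨σ • (a : L), hK σ a a.2⟩
  one_smul a := Subtype.ext (one_smul G (a : L))
  mul_smul σ τ a := Subtype.ext (mul_smul σ τ (a : L))
  smul_zero σ := Subtype.ext (smul_zero σ)
  smul_add σ a b := Subtype.ext (smul_add σ (a : L) b)
  smul_one σ := Subtype.ext (smul_one σ)
  smul_mul σ a b := Subtype.ext (smul_mul' σ (a : L) b)

include hK hfaith in
theorem exists_fixed_basis {m : ℕ} (y : Fin m → L) (hy : LinearIndependent K₀ y)
    (hW : ∀ (σ : G) j, σ • y j ∈ Submodule.span K₀ (Set.range y)) :
    ∃ t : Fin m → L, (∀ i (σ : G), σ • t i = t i) ∧ LinearIndependent K₀ t ∧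
      Submodule.span K₀ (Set.range t) = Submodule.span K₀ (Set.range y) := by
  classical
  let _ : MulSemiringAction G K₀ := subfieldAction K₀ hK
  have hsmul_coe : ∀ (σ : G) (a : K₀), ((σ • a : K₀) : L) = σ • (a : L) := fun _ _ => rfl
  have : FaithfulSMul G K₀ := ⟨by
    intro σ τ h
    have h1 : σ⁻¹ * τ = 1 := by
      apply hfaith
      intro a ha
      have := h ⟨a, ha⟩
      have h2 : σ • a = τ • a := congrArg Subtype.val this
      rw [mul_smul, ← h2, inv_smul_smul]
    exact (inv_mul_eq_one.mp h1)⟩
  set W : Submodule K₀ L := Submodule.span K₀ (Set.range y) with hWdef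
  have hWstab : ∀ (σ : G) (w : L), w ∈ W → σ • w ∈ W := by
    intro σ w hw
    induction hw using Submodule.span_induction with
    | mem x hx =>
      obtain ⟨j, rfl⟩ := hx
      exact hW σ j
    | zero => rw [smul_zero]; exact W.zero_mem
    | add x y _ _ hx hy => rw [smul_add]; exact W.add_mem hx hy
    | smul a x _ hx =>
      rw [Subfield.smul_def, smul_eq_mul, smul_mul']
      exact W.smul_mem (σ • a) hx
  let T : G → W →+ W := fun σ =>
    { toFun := fun w => ⟨σ • (w : L), hWstab σ w w.2⟩
      map_zero' := Subtype.ext (smul_zero σ)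
      map_add' := fun a b => Subtype.ext (smul_add σ (a : L) b) }
  have hTcoe : ∀ (σ : G) (w : W), ((T σ w : W) : L) = σ • (w : L) := fun _ _ => rfl
  have hspan := span_fixed_eq_top (K := K₀) T
    (fun σ x v => Subtype.ext (by
      rw [hTcoe, Submodule.coe_smul, Submodule.coe_smul, hTcoe, Subfield.smul_def, Subfield.smul_def,
        smul_eq_mul, smul_eq_mul, smul_mul', hsmul_coe]))
    (fun σ τ v => Subtype.ext (by rw [hTcoe, hTcoe, hTcoe, mul_smul]))
    (fun v => Subtype.ext (by rw [hTcoe, one_smul]))
  obtain ⟨b, hbsub, hbspan, hbli⟩ := exists_linearIndependent K₀ {v : W | ∀ σ, T σ v = v}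
  rw [hspan] at hbspan
  have hfin : Module.finrank K₀ W = m := by
    rw [hWdef, finrank_span_eq_card hy, Fintype.card_fin]
  have hWfd : FiniteDimensional K₀ W := FiniteDimensional.span_of_finite K₀ (Set.finite_range y)
  have hbfin : Finite b := hbli.finite
  let _ : Fintype b := Fintype.ofFinite b
  let B : Module.Basis b K₀ W := Module.Basis.mk hbli (by rw [Subtype.range_coe_subtype, Set.ofPred_mem_eq, hbspan])
  have hcard : Fintype.card b = m := by rw [← hfin, Module.finrank_eq_card_basis B]
  let e : Fin m ≃ b := (Fintype.equivFinOfCardEq hcard).symm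
  refine ⟨fun i => ((e i : W) : L), ?_, ?_, ?_⟩
  · intro i σ
    have := hbsub (e i).2 σ
    exact congrArg Subtype.val this
  · have h1 : LinearIndependent K₀ (fun i => (e i : W)) := hbli.comp e e.injective
    exact h1.map' W.subtype (Submodule.ker_subtype W)
  · have h1 : Set.range (fun i => ((e i : W) : L)) = W.subtype '' b := by
      ext x
      constructor
      · rintro ⟨i, rfl⟩
        exact ⟨(e i : W), (e i).2, rfl⟩
      · rintro ⟨w, hw, rfl⟩
        exact ⟨e.symm ⟨w, hw⟩, by simp⟩
    rw [h1, Submodule.span_image, hbspan, Submodule.map_top, Submodule.range_subtype]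

end basis

section algindep

open MvPolynomial

variable {K : Type u} [Field K] {L : Type v} [CommRing L] [Algebra K L]

/-- a linearly independent family with the same span as an algebraically independent family is
algebraically independent. -/
theorem algebraicIndependent_of_span_eq {m : ℕ} (y t : Fin m → L)
    (hy : AlgebraicIndependent K y) (ht : LinearIndependent K t)
    (hspan : Submodule.span K (Set.range t) = Submodule.span K (Set.range y)) :
    AlgebraicIndependent K t := by
  have h1 : ∀ i, ∃ c : Fin m → K, ∑ j, c j • y j = t i := by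
    intro i
    have : t i ∈ Submodule.span K (Set.range y) := by
      rw [← hspan]; exact Submodule.subset_span ⟨i, rfl⟩
    exact (Submodule.mem_span_range_iff_exists_fun K).mp this
  have h2 : ∀ j, ∃ d : Fin m → K, ∑ l, d l • t l = y j := by
    intro j
    have : y j ∈ Submodule.span K (Set.range t) := by
      rw [hspan]; exact Submodule.subset_span ⟨j, rfl⟩
    exact (Submodule.mem_span_range_iff_exists_fun K).mp this
  choose c hc using h1
  choose d hd using h2
  have hcd : ∀ i l, ∑ j, c i j * d j l = if i = l then 1 else 0 := by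
    intro i
    have h3 : ∑ l, (∑ j, c i j * d j l) • t l = t i := by
      calc ∑ l, (∑ j, c i j * d j l) • t l = ∑ j, c i j • ∑ l, d j l • t l := by
            simp only [Finset.sum_smul, Finset.smul_sum, mul_smul]
            rw [Finset.sum_comm]
        _ = ∑ j, c i j • y j := by simp only [hd]
        _ = t i := hc i
    have h4 : ∑ l, ((∑ j, c i j * d j l) - if i = l then 1 else 0) • t l = 0 := by
      simp only [sub_smul, Finset.sum_sub_distrib, h3, ite_smul, one_smul, zero_smul,
        Finset.sum_ite_eq, Finset.mem_univ, if_true, sub_self]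
    intro l
    have := Fintype.linearIndependent_iff.mp ht _ h4 l
    exact sub_eq_zero.mp this
  let φ : MvPolynomial (Fin m) K →ₐ[K] MvPolynomial (Fin m) K :=
    aeval (fun i => ∑ j, C (c i j) * X j)
  let ψ : MvPolynomial (Fin m) K →ₐ[K] MvPolynomial (Fin m) K :=
    aeval (fun j => ∑ l, C (d j l) * X l)
  have hψφ : ψ.comp φ = AlgHom.id K _ := by
    apply MvPolynomial.algHom_ext
    intro i
    simp only [AlgHom.comp_apply, φ, ψ, aeval_X, map_sum, map_mul, aeval_C, AlgHom.id_apply]
    calc ∑ j, (algebraMap K (MvPolynomial (Fin m) K)) (c i j) * ∑ l, C (d j l) * X l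
        = ∑ l, C (∑ j, c i j * d j l) * X l := by
          simp only [Finset.mul_sum, map_sum, Finset.sum_mul, map_mul, algebraMap_eq]
          rw [Finset.sum_comm]
          refine Finset.sum_congr rfl fun l _ => Finset.sum_congr rfl fun j _ => ?_
          ring
      _ = X i := by
          simp only [hcd]
          rw [Finset.sum_eq_single i]
          · simp
          · intro l _ hl
            rw [if_neg (Ne.symm hl)]; simp
          · intro h; exact absurd (Finset.mem_univ i) h
  have hφinj : Function.Injective φ := by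
    intro p q hpq
    have := congrArg ψ hpq
    rwa [← AlgHom.comp_apply, ← AlgHom.comp_apply, hψφ] at this
  have hcomp : (aeval t : MvPolynomial (Fin m) K →ₐ[K] L) = (aeval y).comp φ := by
    apply MvPolynomial.algHom_ext
    intro i
    simp only [AlgHom.comp_apply, φ, aeval_X, map_sum, map_mul, aeval_C]
    rw [← hc i]
    refine Finset.sum_congr rfl fun j _ => ?_
    rw [Algebra.smul_def]
  rw [algebraicIndependent_iff_injective_aeval, hcomp]
  exact (algebraicIndependent_iff_injective_aeval.mp hy).comp hφinj

end algindep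


section main

variable {G : Type u} [Group G] [Fintype G] {L : Type v} [Field L] [MulSemiringAction G L]
  (K₀ : Subfield L) (hK : ∀ (σ : G) (a : L), a ∈ K₀ → σ • a ∈ K₀)
  (hfaith : ∀ σ : G, (∀ a ∈ K₀, σ • a = a) → σ = 1)
  (hcard : (Fintype.card G : L) ≠ 0)

theorem span_le_closure {ι : Type*} (t : ι → L) (x : L)
    (hx : x ∈ Submodule.span K₀ (Set.range t)) :
    x ∈ Subfield.closure ((K₀ : Set L) ∪ Set.range t) := by
  induction hx using Submodule.span_induction with
  | mem x hx => exact Subfield.subset_closure (Or.inr hx)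
  | zero => exact Subfield.zero_mem _
  | add x y _ _ hx hy => exact Subfield.add_mem _ hx hy
  | smul a x _ hx =>
    rw [Subfield.smul_def, smul_eq_mul]
    exact Subfield.mul_mem _ (Subfield.subset_closure (Or.inl a.2)) hx

include hK hfaith hcard in
/-- **No-name lemma**, abstract form. -/
theorem exists_fixed_generators {m : ℕ} (y : Fin m → L) (hy : AlgebraicIndependent K₀ y)
    (hW : ∀ (σ : G) j, σ • y j ∈ Submodule.span K₀ (Set.range y))
    (hgen : Subfield.closure ((K₀ : Set L) ∪ Set.range y) = ⊤) :
    ∃ t : Fin m → L, (∀ i (σ : G), σ • t i = t i) ∧ AlgebraicIndependent K₀ t ∧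
      ∀ f : L, (∀ σ : G, σ • f = f) →
        f ∈ Subfield.closure ({a : L | a ∈ K₀ ∧ ∀ σ : G, σ • a = a} ∪ Set.range t) := by
  obtain ⟨t, htfix, htli, htspan⟩ := exists_fixed_basis K₀ hK hfaith y hy.linearIndependent hW
  refine ⟨t, htfix, algebraicIndependent_of_span_eq y t hy htli htspan, ?_⟩
  have hgen' : Subfield.closure ((K₀ : Set L) ∪ Set.range t) = ⊤ := by
    rw [eq_top_iff, ← hgen, Subfield.closure_le]
    rintro x (hx | ⟨j, rfl⟩)
    · exact Subfield.subset_closure (Or.inl hx)
    · apply span_le_closure K₀ t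
      rw [htspan]
      exact Submodule.subset_span ⟨j, rfl⟩
  exact mem_closure_of_fixed K₀ hK hcard t htfix hgen'

end main

end Groth.Agent.H1.NoName
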