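/-
helper1: no-name lemma, linear form: a finite group acting linearly on two sets of variables.
-/
import Groth.Agent.H1.NoName

set_option autoImplicit false

namespace Groth.Agent.H1.NoName

universe u v w

section linear

variable {k : Type u} [Field k] {M : Type v} [Field M] [Algebra k M]
  {G : Type w} [Group G] [Fintype G] [MulSemiringAction G M] [SMulCommClass G k M]
  (hcard : (Fintype.card G : M) ≠ 0)
  {ι : Type*} {m : ℕ} (x : ι → M) (y : Fin m → M)
  (hxy : AlgebraicIndependent k (Sum.elim y x))
  (hgen : Subfield.closure (Set.range (algebraMap k M) ∪ Set.range x ∪ Set.range y) = ⊤)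
  (hx : ∀ (σ : G) i, σ • x i ∈ Submodule.span k (Set.range x))
  (hy : ∀ (σ : G) j, σ • y j ∈ Submodule.span k (Set.range y))
  (hfaith : ∀ σ : G, (∀ i, σ • x i = x i) → σ = 1)

include hx in
omit [Fintype G] in
theorem smul_mem_adjoin (σ : G) (a : M) (ha : a ∈ IntermediateField.adjoin k (Set.range x)) :
    σ • a ∈ IntermediateField.adjoin k (Set.range x) := by
  have h1 : (IntermediateField.adjoin k (Set.range x)).map
      ((MulSemiringAction.toAlgEquiv k M σ : M ≃ₐ[k] M) : M →ₐ[k] M) ≤
      IntermediateField.adjoin k (Set.range x) := by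
    rw [IntermediateField.adjoin_map, IntermediateField.adjoin_le_iff]
    rintro _ ⟨_, ⟨i, rfl⟩, rfl⟩
    have h2 := hx σ i
    have h3 : Submodule.span k (Set.range x) ≤
        (IntermediateField.adjoin k (Set.range x)).toSubalgebra.toSubmodule := by
      rw [Submodule.span_le]
      exact IntermediateField.subset_adjoin k _
    exact h3 h2
  exact h1 ⟨a, ha, rfl⟩

include hcard hxy hgen hx hy hfaith in
/-- **No-name lemma** for a finite group acting linearly on two sets of variables, faithfully on
the first. -/
theorem exists_fixed_generators_of_linear :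
    ∃ t : Fin m → M, (∀ i (σ : G), σ • t i = t i) ∧
      AlgebraicIndependent (IntermediateField.adjoin k (Set.range x)) t ∧
      ∀ f : M, (∀ σ : G, σ • f = f) → f ∈ Subfield.closure
        ({a : M | a ∈ IntermediateField.adjoin k (Set.range x) ∧ ∀ σ : G, σ • a = a} ∪
          Set.range t) := by
  classical
  set Kx : IntermediateField k M := IntermediateField.adjoin k (Set.range x) with hKx
  have hKstab : ∀ (σ : G) (a : M), a ∈ Kx.toSubfield → σ • a ∈ Kx.toSubfield :=
    fun σ a ha => smul_mem_adjoin x hx σ a ha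
  have hfaith' : ∀ σ : G, (∀ a ∈ Kx.toSubfield, σ • a = a) → σ = 1 := by
    intro σ h
    apply hfaith σ
    intro i
    exact h _ (IntermediateField.subset_adjoin k _ ⟨i, rfl⟩)
  have hspan_le : ∀ z : M, z ∈ Submodule.span k (Set.range y) →
      z ∈ Submodule.span Kx.toSubfield (Set.range y) := by
    intro z hz
    induction hz using Submodule.span_induction with
    | mem x hx => exact Submodule.subset_span hx
    | zero => exact Submodule.zero_mem _
    | add x y _ _ hx hy => exact Submodule.add_mem _ hx hy
    | smul c x _ hx =>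
      have : c • x = (⟨algebraMap k M c, Kx.algebraMap_mem c⟩ : Kx.toSubfield) • x := by
        rw [Subfield.smul_def, Algebra.smul_def, smul_eq_mul]
      rw [this]
      exact Submodule.smul_mem _ _ hx
  have hW : ∀ (σ : G) j, σ • y j ∈ Submodule.span Kx.toSubfield (Set.range y) :=
    fun σ j => hspan_le _ (hy σ j)
  have hys_ai : AlgebraicIndependent Kx y :=
    IntermediateField.algebraicIndependent_adjoin_iff.mpr
      (AlgebraicIndependent.sumElim_iff.mp hxy).2
  have hys_ai' : AlgebraicIndependent Kx.toSubfield y := hys_ai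
  have hgen' : Subfield.closure ((Kx.toSubfield : Set M) ∪ Set.range y) = ⊤ := by
    rw [eq_top_iff, ← hgen, Subfield.closure_le]
    rintro z ((⟨c, rfl⟩ | ⟨i, rfl⟩) | ⟨j, rfl⟩)
    · exact Subfield.subset_closure (Or.inl (Kx.algebraMap_mem c))
    · exact Subfield.subset_closure (Or.inl (IntermediateField.subset_adjoin k _ ⟨i, rfl⟩))
    · exact Subfield.subset_closure (Or.inr ⟨j, rfl⟩)
  obtain ⟨t, htfix, htai, htgen⟩ := exists_fixed_generators Kx.toSubfield hKstab hfaith' hcard y
    hys_ai' hW hgen'
  exact ⟨t, htfix, htai, htgen⟩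

variable {Lx : Type*} [Field Lx] [Algebra k Lx] [MulSemiringAction G Lx]
  (j : Lx →ₐ[k] M) (hj : ∀ (σ : G) (b : Lx), j (σ • b) = σ • j b)
  (hjrange : j.fieldRange = IntermediateField.adjoin k (Set.range x))
  (F' : IntermediateField k Lx) (hF' : ∀ b : Lx, b ∈ F' ↔ ∀ σ : G, σ • b = b)

include hcard hxy hgen hx hy hfaith hj hjrange hF' in
/-- the field of invariants of `M` is a purely transcendental extension of the field of
invariants of the first set of variables, as an embedding of a rational function field. -/
theorem exists_algHom_range_eq_fixed :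
    ∃ φ : FractionRing (MvPolynomial (Fin m) F') →ₐ[k] M,
      ∀ f : M, f ∈ Set.range φ ↔ ∀ σ : G, σ • f = f := by
  classical
  obtain ⟨t, htfix, htai, htgen⟩ :=
    exists_fixed_generators_of_linear hcard x y hxy hgen hx hy hfaith
  set Kx : IntermediateField k M := IntermediateField.adjoin k (Set.range x) with hKx
  let ρ : F' →+* M := j.toRingHom.comp (algebraMap F' Lx)
  let _ : Algebra F' M := ρ.toAlgebra
  have hρ : ∀ b : F', algebraMap F' M b = j (b : Lx) := fun _ => rfl
  have : IsScalarTower k F' M := IsScalarTower.of_algebraMap_eq (fun c => by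
    rw [hρ]
    exact (j.commutes c).symm)
  have hmemK : ∀ b : F', ρ b ∈ Kx := by
    intro b
    rw [← hjrange]
    exact ⟨(b : Lx), rfl⟩
  let _ : Algebra F' Kx := (ρ.codRestrict Kx hmemK).toAlgebra
  have : IsScalarTower F' Kx M := IsScalarTower.of_algebraMap_eq (fun _ => rfl)
  have htai' : AlgebraicIndependent F' t :=
    htai.restrictScalars (K := Kx) (RingHom.injective _)
  have hinj : Function.Injective (MvPolynomial.aeval t : MvPolynomial (Fin m) F' →ₐ[F'] M) :=
    algebraicIndependent_iff_injective_aeval.mp htai'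
  let φ₀ : FractionRing (MvPolynomial (Fin m) F') →ₐ[F'] M := IsFractionRing.liftAlgHom hinj
  have hφ₀ : ∀ p : MvPolynomial (Fin m) F',
      φ₀ (algebraMap _ (FractionRing (MvPolynomial (Fin m) F')) p) = MvPolynomial.aeval t p :=
    fun p => IsFractionRing.lift_algebraMap hinj p
  refine ⟨φ₀.restrictScalars k, ?_⟩
  -- the fixed subfield
  let Φ : Subfield M := FixedPoints.subfield G M
  have hΦ : ∀ f : M, f ∈ Φ ↔ ∀ σ : G, σ • f = f := fun f => Iff.rfl
  have hpolyΦ : ∀ p : MvPolynomial (Fin m) F', MvPolynomial.aeval t p ∈ Φ := by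
    intro p
    induction p using MvPolynomial.induction_on with
    | C b =>
      rw [MvPolynomial.aeval_C, hρ, hΦ]
      intro σ
      rw [← hj, (hF' _).mp b.2 σ]
    | add p q hp hq => rw [map_add]; exact Φ.add_mem hp hq
    | mul_X p i hp =>
      rw [map_mul, MvPolynomial.aeval_X]
      exact Φ.mul_mem hp ((hΦ _).mpr (htfix i))
  intro f
  constructor
  · rintro ⟨z, rfl⟩
    obtain ⟨p, q, hq, rfl⟩ := IsFractionRing.div_surjective (A := MvPolynomial (Fin m) F') z
    rw [← hΦ]
    change φ₀ _ ∈ Φ
    rw [map_div₀, hφ₀, hφ₀]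
    exact Φ.div_mem (hpolyΦ p) (hpolyΦ q)
  · intro hf
    have h1 := htgen f hf
    have h2 : Subfield.closure ({a : M | a ∈ Kx ∧ ∀ σ : G, σ • a = a} ∪ Set.range t) ≤
        (φ₀.restrictScalars k).fieldRange.toSubfield := by
      rw [Subfield.closure_le]
      rintro a (⟨haK, hafix⟩ | ⟨i, rfl⟩)
      · rw [← hjrange] at haK
        obtain ⟨b, rfl⟩ := haK
        have hb : b ∈ F' := by
          rw [hF']
          intro σ
          apply j.toRingHom.injective
          change j (σ • b) = j b
          rw [hj]
          exact hafix σ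
        refine ⟨algebraMap F' (FractionRing (MvPolynomial (Fin m) F')) ⟨b, hb⟩, ?_⟩
        change φ₀ _ = _
        rw [φ₀.commutes]
        rfl
      · refine ⟨algebraMap (MvPolynomial (Fin m) F') (FractionRing (MvPolynomial (Fin m) F'))
          (MvPolynomial.X i), ?_⟩
        change φ₀ _ = _
        rw [hφ₀, MvPolynomial.aeval_X]
    exact h2 h1

end linear

end Groth.Agent.H1.NoName
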