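/-
helper1: finite groups acting linearly on rational function fields: matrices, the diagonal action
on the rational function field in two sets of variables.
-/
import Groth.Agent.H1.NoName2

set_option autoImplicit false

namespace Groth.Agent.H1.NoName

universe u v w

open MvPolynomial

section fld

variable (ι : Type v) (k : Type u) [Field k]

/-- the rational function field. -/
abbrev Fld : Type (max u v) := FractionRing (MvPolynomial ι k)

variable {ι k}

/-- the variables. -/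
noncomputable abbrev FX (i : ι) : Fld ι k := algebraMap (MvPolynomial ι k) (Fld ι k) (X i)

variable (ι k) in
theorem algebraicIndependent_FX : AlgebraicIndependent k (fun i : ι => (FX i : Fld ι k)) :=
  (MvPolynomial.algebraicIndependent_X ι k).map'
    (f := IsScalarTower.toAlgHom k (MvPolynomial ι k) (Fld ι k)) (IsFractionRing.injective _ _)

theorem algebraMap_C (c : k) :
    algebraMap (MvPolynomial ι k) (Fld ι k) (C c) = algebraMap k (Fld ι k) c := by
  rw [← MvPolynomial.algebraMap_eq, ← IsScalarTower.algebraMap_apply]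

theorem algebraMap_mem_closure (S : Subfield (Fld ι k))
    (hc : ∀ c : k, algebraMap k (Fld ι k) c ∈ S) (hX : ∀ i : ι, (FX i : Fld ι k) ∈ S)
    (p : MvPolynomial ι k) : algebraMap (MvPolynomial ι k) (Fld ι k) p ∈ S := by
  induction p using MvPolynomial.induction_on with
  | C a => rw [algebraMap_C]; exact hc a
  | add p q hp hq => rw [map_add]; exact S.add_mem hp hq
  | mul_X p i hp => rw [map_mul]; exact S.mul_mem hp (hX i)

theorem mem_of_subfield (S : Subfield (Fld ι k))
    (hc : ∀ c : k, algebraMap k (Fld ι k) c ∈ S) (hX : ∀ i : ι, (FX i : Fld ι k) ∈ S)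
    (f : Fld ι k) : f ∈ S := by
  obtain ⟨p, q, _, rfl⟩ := IsFractionRing.div_surjective (A := MvPolynomial ι k) f
  exact S.div_mem (algebraMap_mem_closure S hc hX p) (algebraMap_mem_closure S hc hX q)

variable (ι k) in
theorem closure_FX_eq_top :
    Subfield.closure (Set.range (algebraMap k (Fld ι k)) ∪ Set.range (fun i : ι => (FX i : Fld ι k)))
      = ⊤ := by
  rw [eq_top_iff]
  intro f _
  exact mem_of_subfield _ (fun c => Subfield.subset_closure (Or.inl ⟨c, rfl⟩))
    (fun i => Subfield.subset_closure (Or.inr ⟨i, rfl⟩)) f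

variable (ι k) in
theorem adjoin_FX_eq_top :
    IntermediateField.adjoin k (Set.range (fun i : ι => (FX i : Fld ι k))) = ⊤ := by
  rw [eq_top_iff]
  intro f _
  exact mem_of_subfield (IntermediateField.adjoin k (Set.range (fun i : ι => (FX i : Fld ι k)))).toSubfield
    (fun c => IntermediateField.algebraMap_mem _ c)
    (fun i => IntermediateField.subset_adjoin k _ ⟨i, rfl⟩) f

/-- two ring homomorphisms out of the rational function field agreeing on constants and
variables are equal. -/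
theorem ringHom_ext_FX {M : Type*} [Field M] (f g : Fld ι k →+* M)
    (hc : ∀ c : k, f (algebraMap k _ c) = g (algebraMap k _ c))
    (hX : ∀ i : ι, f (FX i) = g (FX i)) : f = g := by
  apply IsFractionRing.ringHom_ext (A := MvPolynomial ι k)
  intro p
  induction p using MvPolynomial.induction_on with
  | C a => rw [algebraMap_C]; exact hc a
  | add p q hp hq => rw [map_add, map_add, map_add, hp, hq]
  | mul_X p i hp => rw [map_mul, map_mul, map_mul, hp, hX i]

end fld

section mat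

variable {ι : Type v} [Fintype ι] {k : Type u} [Field k] {Γ : Type w} [Group Γ]
  [MulSemiringAction Γ (Fld ι k)] [SMulCommClass Γ k (Fld ι k)]
  (hlin : ∀ (σ : Γ) (i : ι), σ • (FX i : Fld ι k) ∈
    Submodule.span k (Set.range fun j : ι => (FX j : Fld ι k)))

/-- the matrix of a linear automorphism. -/
noncomputable def mat (σ : Γ) (i : ι) : ι → k :=
  Classical.choose ((Submodule.mem_span_range_iff_exists_fun k).mp (hlin σ i))

omit [SMulCommClass Γ k (Fld ι k)] in
theorem mat_spec (σ : Γ) (i : ι) : ∑ j, mat hlin σ i j • (FX j : Fld ι k) = σ • FX i :=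
  Classical.choose_spec ((Submodule.mem_span_range_iff_exists_fun k).mp (hlin σ i))

theorem coeff_unique (c d : ι → k)
    (h : ∑ j, c j • (FX j : Fld ι k) = ∑ j, d j • (FX j : Fld ι k)) : c = d := by
  have hli := (algebraicIndependent_FX ι k).linearIndependent
  have h1 : ∑ j, (c j - d j) • (FX j : Fld ι k) = 0 := by
    simp only [sub_smul, Finset.sum_sub_distrib, h, sub_self]
  funext j
  exact sub_eq_zero.mp (Fintype.linearIndependent_iff.mp hli _ h1 j)

theorem mat_mul (σ τ : Γ) (i l : ι) :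
    mat hlin (σ * τ) i l = ∑ j, mat hlin τ i j * mat hlin σ j l := by
  have h1 : ∑ l, mat hlin (σ * τ) i l • (FX l : Fld ι k) =
      ∑ l, (∑ j, mat hlin τ i j * mat hlin σ j l) • (FX l : Fld ι k) := by
    rw [mat_spec, mul_smul, ← mat_spec hlin τ i, Finset.smul_sum]
    simp only [smul_comm σ, ← mat_spec hlin σ, Finset.smul_sum, Finset.sum_smul, mul_smul]
    rw [Finset.sum_comm]
  exact congrFun (coeff_unique _ _ h1) l

omit [SMulCommClass Γ k (Fld ι k)] in
theorem mat_one [DecidableEq ι] (i l : ι) : mat hlin (1 : Γ) i l = if i = l then 1 else 0 := by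
  have h1 : ∑ l, mat hlin (1 : Γ) i l • (FX l : Fld ι k) =
      ∑ l, (if i = l then (1 : k) else 0) • (FX l : Fld ι k) := by
    rw [mat_spec, one_smul]
    simp
  exact congrFun (coeff_unique _ _ h1) l

end mat


section diag

variable {ι₁ : Type v} {ι₂ : Type v} [Fintype ι₁] [Fintype ι₂] {k : Type u} [Field k]
  {Γ : Type w} [Group Γ]
  [MulSemiringAction Γ (Fld ι₁ k)] [SMulCommClass Γ k (Fld ι₁ k)]
  [MulSemiringAction Γ (Fld ι₂ k)] [SMulCommClass Γ k (Fld ι₂ k)]
  (h₁ : ∀ (σ : Γ) (i : ι₁), σ • (FX i : Fld ι₁ k) ∈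
    Submodule.span k (Set.range fun j : ι₁ => (FX j : Fld ι₁ k)))
  (h₂ : ∀ (σ : Γ) (i : ι₂), σ • (FX i : Fld ι₂ k) ∈
    Submodule.span k (Set.range fun j : ι₂ => (FX j : Fld ι₂ k)))

/-- the diagonal linear substitution on the polynomial ring in both sets of variables. -/
noncomputable def subst (σ : Γ) :
    MvPolynomial (ι₁ ⊕ ι₂) k →ₐ[k] MvPolynomial (ι₁ ⊕ ι₂) k :=
  aeval (Sum.elim (fun i => ∑ j, C (mat h₁ σ i j) * X (Sum.inl j))
    (fun i => ∑ j, C (mat h₂ σ i j) * X (Sum.inr j)))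

omit [SMulCommClass Γ k (Fld ι₁ k)] [SMulCommClass Γ k (Fld ι₂ k)] in
theorem subst_C (σ : Γ) (c : k) : subst h₁ h₂ σ (C c) = C c := by
  rw [subst, aeval_C]; rfl

omit [SMulCommClass Γ k (Fld ι₁ k)] [SMulCommClass Γ k (Fld ι₂ k)] in
theorem subst_X_inl (σ : Γ) (i : ι₁) :
    subst h₁ h₂ σ (X (Sum.inl i)) = ∑ j, C (mat h₁ σ i j) * X (Sum.inl j) := by
  rw [subst, aeval_X, Sum.elim_inl]

omit [SMulCommClass Γ k (Fld ι₁ k)] [SMulCommClass Γ k (Fld ι₂ k)] in
theorem subst_X_inr (σ : Γ) (i : ι₂) :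
    subst h₁ h₂ σ (X (Sum.inr i)) = ∑ j, C (mat h₂ σ i j) * X (Sum.inr j) := by
  rw [subst, aeval_X, Sum.elim_inr]

theorem subst_mul (σ τ : Γ) :
    subst h₁ h₂ (σ * τ) = (subst h₁ h₂ σ).comp (subst h₁ h₂ τ) := by
  apply MvPolynomial.algHom_ext
  rintro (i | i)
  · rw [AlgHom.comp_apply, subst_X_inl, subst_X_inl]
    simp only [map_sum, map_mul, subst_X_inl, subst_C]
    simp only [mat_mul, map_sum, map_mul, Finset.sum_mul, Finset.mul_sum]
    rw [Finset.sum_comm]
    refine Finset.sum_congr rfl fun j _ => Finset.sum_congr rfl fun l _ => ?_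
    ring
  · rw [AlgHom.comp_apply, subst_X_inr, subst_X_inr]
    simp only [map_sum, map_mul, subst_X_inr, subst_C]
    simp only [mat_mul, map_sum, map_mul, Finset.sum_mul, Finset.mul_sum]
    rw [Finset.sum_comm]
    refine Finset.sum_congr rfl fun j _ => Finset.sum_congr rfl fun l _ => ?_
    ring

omit [SMulCommClass Γ k (Fld ι₁ k)] [SMulCommClass Γ k (Fld ι₂ k)] in
theorem subst_one : subst h₁ h₂ (1 : Γ) = AlgHom.id k _ := by
  classical
  apply MvPolynomial.algHom_ext
  rintro (i | i)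
  · rw [subst_X_inl, AlgHom.id_apply]
    simp only [mat_one]
    rw [Finset.sum_eq_single i]
    · simp
    · intro j _ hj; rw [if_neg (Ne.symm hj)]; simp
    · intro h; exact absurd (Finset.mem_univ i) h
  · rw [subst_X_inr, AlgHom.id_apply]
    simp only [mat_one]
    rw [Finset.sum_eq_single i]
    · simp
    · intro j _ hj; rw [if_neg (Ne.symm hj)]; simp
    · intro h; exact absurd (Finset.mem_univ i) h

/-- the diagonal action on the polynomial ring. -/
@[reducible] noncomputable def polyAction :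
    MulSemiringAction Γ (MvPolynomial (ι₁ ⊕ ι₂) k) where
  smul σ p := subst h₁ h₂ σ p
  one_smul p := by
    change subst h₁ h₂ 1 p = p
    rw [subst_one]; rfl
  mul_smul σ τ p := by
    change subst h₁ h₂ (σ * τ) p = subst h₁ h₂ σ (subst h₁ h₂ τ p)
    rw [subst_mul]; rfl
  smul_zero σ := map_zero (subst h₁ h₂ σ)
  smul_add σ := map_add (subst h₁ h₂ σ)
  smul_one σ := map_one (subst h₁ h₂ σ)
  smul_mul σ := map_mul (subst h₁ h₂ σ)

/-- the diagonal action on the rational function field. -/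
@[reducible] noncomputable def fieldAction : MulSemiringAction Γ (Fld (ι₁ ⊕ ι₂) k) :=
  letI := polyAction h₁ h₂
  IsFractionRing.mulSemiringAction Γ (MvPolynomial (ι₁ ⊕ ι₂) k) (Fld (ι₁ ⊕ ι₂) k)

theorem fieldAction_algebraMap (σ : Γ) (p : MvPolynomial (ι₁ ⊕ ι₂) k) :
    letI := fieldAction h₁ h₂
    σ • algebraMap (MvPolynomial (ι₁ ⊕ ι₂) k) (Fld (ι₁ ⊕ ι₂) k) p =
      algebraMap (MvPolynomial (ι₁ ⊕ ι₂) k) (Fld (ι₁ ⊕ ι₂) k) (subst h₁ h₂ σ p) :=
  IsFractionRing.ringEquivOfRingEquiv_algebraMap _ p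

end diag


section diag2

variable {ι₁ : Type v} {ι₂ : Type v} [Fintype ι₁] [Fintype ι₂] {k : Type u} [Field k]
  {Γ : Type w} [Group Γ]
  [MulSemiringAction Γ (Fld ι₁ k)] [SMulCommClass Γ k (Fld ι₁ k)]
  [MulSemiringAction Γ (Fld ι₂ k)] [SMulCommClass Γ k (Fld ι₂ k)]
  (h₁ : ∀ (σ : Γ) (i : ι₁), σ • (FX i : Fld ι₁ k) ∈
    Submodule.span k (Set.range fun j : ι₁ => (FX j : Fld ι₁ k)))
  (h₂ : ∀ (σ : Γ) (i : ι₂), σ • (FX i : Fld ι₂ k) ∈
    Submodule.span k (Set.range fun j : ι₂ => (FX j : Fld ι₂ k)))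

theorem fieldAction_FX_inl (σ : Γ) (i : ι₁) :
    letI := fieldAction h₁ h₂
    σ • (FX (Sum.inl i) : Fld (ι₁ ⊕ ι₂) k) = ∑ j, mat h₁ σ i j • (FX (Sum.inl j) : Fld (ι₁ ⊕ ι₂) k) := by
  rw [FX, fieldAction_algebraMap, subst_X_inl, map_sum]
  refine Finset.sum_congr rfl fun j _ => ?_
  rw [map_mul, algebraMap_C, Algebra.smul_def]

theorem fieldAction_FX_inr (σ : Γ) (i : ι₂) :
    letI := fieldAction h₁ h₂
    σ • (FX (Sum.inr i) : Fld (ι₁ ⊕ ι₂) k) = ∑ j, mat h₂ σ i j • (FX (Sum.inr j) : Fld (ι₁ ⊕ ι₂) k) := by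
  rw [FX, fieldAction_algebraMap, subst_X_inr, map_sum]
  refine Finset.sum_congr rfl fun j _ => ?_
  rw [map_mul, algebraMap_C, Algebra.smul_def]

theorem fieldAction_algebraMap_base (σ : Γ) (c : k) :
    letI := fieldAction h₁ h₂
    σ • (algebraMap k (Fld (ι₁ ⊕ ι₂) k) c) = algebraMap k (Fld (ι₁ ⊕ ι₂) k) c := by
  rw [← algebraMap_C, fieldAction_algebraMap, subst_C]

theorem fieldAction_smulCommClass :
    letI := fieldAction h₁ h₂
    SMulCommClass Γ k (Fld (ι₁ ⊕ ι₂) k) := by
  let _ := fieldAction h₁ h₂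
  refine ⟨fun σ c f => ?_⟩
  rw [Algebra.smul_def, Algebra.smul_def, smul_mul', fieldAction_algebraMap_base]

end diag2


section embed

variable {ι κ : Type v} {k : Type u} [Field k] (e : ι → κ) (he : Function.Injective e)

include he in
theorem rename_comp_injective :
    Function.Injective ((IsScalarTower.toAlgHom k (MvPolynomial κ k) (Fld κ k)).comp
      (rename e : MvPolynomial ι k →ₐ[k] MvPolynomial κ k)) :=
  (IsFractionRing.injective (MvPolynomial κ k) (Fld κ k)).comp (rename_injective e he)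

/-- the embedding of rational function fields induced by an injection of variables. -/
noncomputable def jMap : Fld ι k →ₐ[k] Fld κ k :=
  IsFractionRing.liftAlgHom (rename_comp_injective (k := k) e he)

theorem jMap_algebraMap (p : MvPolynomial ι k) :
    jMap e he (algebraMap (MvPolynomial ι k) (Fld ι k) p) =
      algebraMap (MvPolynomial κ k) (Fld κ k) (rename e p) :=
  IsFractionRing.lift_algebraMap (rename_comp_injective (k := k) e he) p

theorem jMap_FX (i : ι) : jMap e he (FX i : Fld ι k) = FX (e i) := by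
  rw [FX, jMap_algebraMap, rename_X]

theorem jMap_fieldRange :
    (jMap e he : Fld ι k →ₐ[k] Fld κ k).fieldRange =
      IntermediateField.adjoin k (Set.range fun i : ι => (FX (e i) : Fld κ k)) := by
  rw [AlgHom.fieldRange_eq_map, ← adjoin_FX_eq_top ι k, IntermediateField.adjoin_map]
  congr 1
  ext z
  constructor
  · rintro ⟨_, ⟨i, rfl⟩, rfl⟩
    exact ⟨i, (jMap_FX e he i).symm⟩
  · rintro ⟨i, rfl⟩
    exact ⟨_, ⟨i, rfl⟩, jMap_FX e he i⟩

end embed

section equivariant

variable {ι₁ : Type v} {ι₂ : Type v} [Fintype ι₁] [Fintype ι₂] {k : Type u} [Field k]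
  {Γ : Type w} [Group Γ]
  [MulSemiringAction Γ (Fld ι₁ k)] [SMulCommClass Γ k (Fld ι₁ k)]
  [MulSemiringAction Γ (Fld ι₂ k)] [SMulCommClass Γ k (Fld ι₂ k)]
  (h₁ : ∀ (σ : Γ) (i : ι₁), σ • (FX i : Fld ι₁ k) ∈
    Submodule.span k (Set.range fun j : ι₁ => (FX j : Fld ι₁ k)))
  (h₂ : ∀ (σ : Γ) (i : ι₂), σ • (FX i : Fld ι₂ k) ∈
    Submodule.span k (Set.range fun j : ι₂ => (FX j : Fld ι₂ k)))

theorem jMap_inl_smul (σ : Γ) (b : Fld ι₁ k) :
    letI := fieldAction h₁ h₂
    jMap (k := k) (Sum.inl : ι₁ → ι₁ ⊕ ι₂) Sum.inl_injective (σ • b) =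
      σ • jMap (k := k) (Sum.inl : ι₁ → ι₁ ⊕ ι₂) Sum.inl_injective b := by
  let _ := fieldAction h₁ h₂
  have := ringHom_ext_FX
    ((jMap (k := k) (Sum.inl : ι₁ → ι₁ ⊕ ι₂) Sum.inl_injective).toRingHom.comp
      (MulSemiringAction.toRingHom Γ (Fld ι₁ k) σ))
    ((MulSemiringAction.toRingHom Γ (Fld (ι₁ ⊕ ι₂) k) σ).comp
      (jMap (k := k) (Sum.inl : ι₁ → ι₁ ⊕ ι₂) Sum.inl_injective).toRingHom)
    (fun c => by
      simp only [RingHom.comp_apply, MulSemiringAction.toRingHom_apply, AlgHom.toRingHom_eq_coe,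
        RingHom.coe_coe, AlgHom.commutes, smul_algebraMap]
      exact (fieldAction_algebraMap_base h₁ h₂ σ c).symm)
    (fun i => by
      simp only [RingHom.comp_apply, MulSemiringAction.toRingHom_apply, AlgHom.toRingHom_eq_coe,
        RingHom.coe_coe, jMap_FX]
      rw [← mat_spec h₁ σ i, map_sum]
      simp only [map_smul, jMap_FX]
      exact (fieldAction_FX_inl h₁ h₂ σ i).symm)
  exact RingHom.congr_fun this b

theorem jMap_inr_smul (σ : Γ) (b : Fld ι₂ k) :
    letI := fieldAction h₁ h₂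
    jMap (k := k) (Sum.inr : ι₂ → ι₁ ⊕ ι₂) Sum.inr_injective (σ • b) =
      σ • jMap (k := k) (Sum.inr : ι₂ → ι₁ ⊕ ι₂) Sum.inr_injective b := by
  let _ := fieldAction h₁ h₂
  have := ringHom_ext_FX
    ((jMap (k := k) (Sum.inr : ι₂ → ι₁ ⊕ ι₂) Sum.inr_injective).toRingHom.comp
      (MulSemiringAction.toRingHom Γ (Fld ι₂ k) σ))
    ((MulSemiringAction.toRingHom Γ (Fld (ι₁ ⊕ ι₂) k) σ).comp
      (jMap (k := k) (Sum.inr : ι₂ → ι₁ ⊕ ι₂) Sum.inr_injective).toRingHom)
    (fun c => by
      simp only [RingHom.comp_apply, MulSemiringAction.toRingHom_apply, AlgHom.toRingHom_eq_coe,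
        RingHom.coe_coe, AlgHom.commutes, smul_algebraMap]
      exact (fieldAction_algebraMap_base h₁ h₂ σ c).symm)
    (fun i => by
      simp only [RingHom.comp_apply, MulSemiringAction.toRingHom_apply, AlgHom.toRingHom_eq_coe,
        RingHom.coe_coe, jMap_FX]
      rw [← mat_spec h₂ σ i, map_sum]
      simp only [map_smul, jMap_FX]
      exact (fieldAction_FX_inr h₁ h₂ σ i).symm)
  exact RingHom.congr_fun this b

end equivariant

end Groth.Agent.H1.NoName
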