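/-
helper1: stable equivalence of the fields of invariants of two faithful linear actions of a
finite group.
-/
import Groth.Agent.H1.NoName3

set_option autoImplicit false

namespace Groth.Agent.H1.NoName

universe u w

open MvPolynomial

section stable

variable {n m : ℕ} {k : Type u} [Field k] [CharZero k]
  {Γ : Type w} [Group Γ] [Fintype Γ]
  [MulSemiringAction Γ (Fld (Fin n) k)] [SMulCommClass Γ k (Fld (Fin n) k)]
  [MulSemiringAction Γ (Fld (Fin m) k)] [SMulCommClass Γ k (Fld (Fin m) k)]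
  (h₁ : ∀ (σ : Γ) (i : Fin n), σ • (FX i : Fld (Fin n) k) ∈
    Submodule.span k (Set.range fun j : Fin n => (FX j : Fld (Fin n) k)))
  (h₂ : ∀ (σ : Γ) (i : Fin m), σ • (FX i : Fld (Fin m) k) ∈
    Submodule.span k (Set.range fun j : Fin m => (FX j : Fld (Fin m) k)))
  (hf₁ : ∀ σ : Γ, (∀ i : Fin n, σ • (FX i : Fld (Fin n) k) = FX i) → σ = 1)
  (hf₂ : ∀ σ : Γ, (∀ i : Fin m, σ • (FX i : Fld (Fin m) k) = FX i) → σ = 1)

include hf₁ in
/-- the invariants of the diagonal action are purely transcendental over the invariants of the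
first factor. -/
theorem exists_algHom_inl (F₁ : IntermediateField k (Fld (Fin n) k))
    (hF₁ : ∀ b : Fld (Fin n) k, b ∈ F₁ ↔ ∀ σ : Γ, σ • b = b) :
    letI := fieldAction h₁ h₂
    ∃ φ : FractionRing (MvPolynomial (Fin m) F₁) →ₐ[k] Fld (Fin n ⊕ Fin m) k,
      ∀ f : Fld (Fin n ⊕ Fin m) k, f ∈ Set.range φ ↔ ∀ σ : Γ, σ • f = f := by
  let _ := fieldAction h₁ h₂
  have : SMulCommClass Γ k (Fld (Fin n ⊕ Fin m) k) := fieldAction_smulCommClass h₁ h₂
  have hcard : (Fintype.card Γ : Fld (Fin n ⊕ Fin m) k) ≠ 0 := by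
    have : CharZero (Fld (Fin n ⊕ Fin m) k) :=
      charZero_of_injective_algebraMap (algebraMap k _).injective
    exact Nat.cast_ne_zero.mpr Fintype.card_ne_zero
  set x : Fin n → Fld (Fin n ⊕ Fin m) k := fun i => FX (Sum.inl i) with hx
  set y : Fin m → Fld (Fin n ⊕ Fin m) k := fun j => FX (Sum.inr j) with hy
  have hxy : AlgebraicIndependent k (Sum.elim y x) := by
    have := (algebraicIndependent_FX (Fin n ⊕ Fin m) k).comp
      (Equiv.sumComm (Fin m) (Fin n)) (Equiv.sumComm (Fin m) (Fin n)).injective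
    convert this using 1
    funext i
    cases i <;> rfl
  have hgen : Subfield.closure (Set.range (algebraMap k (Fld (Fin n ⊕ Fin m) k)) ∪ Set.range x ∪
      Set.range y) = ⊤ := by
    rw [eq_top_iff]
    intro f _
    refine mem_of_subfield _ (fun c => Subfield.subset_closure (Or.inl (Or.inl ⟨c, rfl⟩))) ?_ f
    rintro (i | j)
    · exact Subfield.subset_closure (Or.inl (Or.inr ⟨i, rfl⟩))
    · exact Subfield.subset_closure (Or.inr ⟨j, rfl⟩)
  have hxs : ∀ (σ : Γ) i, σ • x i ∈ Submodule.span k (Set.range x) := by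
    intro σ i
    rw [hx, fieldAction_FX_inl]
    exact Submodule.sum_mem _ fun j _ => Submodule.smul_mem _ _ (Submodule.subset_span ⟨j, rfl⟩)
  have hys : ∀ (σ : Γ) j, σ • y j ∈ Submodule.span k (Set.range y) := by
    intro σ i
    rw [hy, fieldAction_FX_inr]
    exact Submodule.sum_mem _ fun j _ => Submodule.smul_mem _ _ (Submodule.subset_span ⟨j, rfl⟩)
  have hfaith : ∀ σ : Γ, (∀ i, σ • x i = x i) → σ = 1 := by
    intro σ h
    apply hf₁
    intro i
    apply (jMap (k := k) (Sum.inl : Fin n → Fin n ⊕ Fin m) Sum.inl_injective).toRingHom.injective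
    change jMap (k := k) (Sum.inl : Fin n → Fin n ⊕ Fin m) Sum.inl_injective (σ • FX i) =
      jMap (k := k) (Sum.inl : Fin n → Fin n ⊕ Fin m) Sum.inl_injective (FX i)
    rw [jMap_inl_smul h₁ h₂, jMap_FX]
    exact h i
  exact exists_algHom_range_eq_fixed hcard x y hxy hgen hxs hys hfaith
    (jMap (k := k) (Sum.inl : Fin n → Fin n ⊕ Fin m) Sum.inl_injective)
    (jMap_inl_smul h₁ h₂) (jMap_fieldRange _ _) F₁ hF₁

include hf₂ in
/-- the invariants of the diagonal action are purely transcendental over the invariants of the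
second factor. -/
theorem exists_algHom_inr (F₂ : IntermediateField k (Fld (Fin m) k))
    (hF₂ : ∀ b : Fld (Fin m) k, b ∈ F₂ ↔ ∀ σ : Γ, σ • b = b) :
    letI := fieldAction h₁ h₂
    ∃ φ : FractionRing (MvPolynomial (Fin n) F₂) →ₐ[k] Fld (Fin n ⊕ Fin m) k,
      ∀ f : Fld (Fin n ⊕ Fin m) k, f ∈ Set.range φ ↔ ∀ σ : Γ, σ • f = f := by
  let _ := fieldAction h₁ h₂
  have : SMulCommClass Γ k (Fld (Fin n ⊕ Fin m) k) := fieldAction_smulCommClass h₁ h₂
  have hcard : (Fintype.card Γ : Fld (Fin n ⊕ Fin m) k) ≠ 0 := by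
    have : CharZero (Fld (Fin n ⊕ Fin m) k) :=
      charZero_of_injective_algebraMap (algebraMap k _).injective
    exact Nat.cast_ne_zero.mpr Fintype.card_ne_zero
  set x : Fin m → Fld (Fin n ⊕ Fin m) k := fun i => FX (Sum.inr i) with hx
  set y : Fin n → Fld (Fin n ⊕ Fin m) k := fun j => FX (Sum.inl j) with hy
  have hxy : AlgebraicIndependent k (Sum.elim y x) := by
    have := algebraicIndependent_FX (Fin n ⊕ Fin m) k
    convert this using 1
    funext i
    cases i <;> rfl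
  have hgen : Subfield.closure (Set.range (algebraMap k (Fld (Fin n ⊕ Fin m) k)) ∪ Set.range x ∪
      Set.range y) = ⊤ := by
    rw [eq_top_iff]
    intro f _
    refine mem_of_subfield _ (fun c => Subfield.subset_closure (Or.inl (Or.inl ⟨c, rfl⟩))) ?_ f
    rintro (i | j)
    · exact Subfield.subset_closure (Or.inr ⟨i, rfl⟩)
    · exact Subfield.subset_closure (Or.inl (Or.inr ⟨j, rfl⟩))
  have hxs : ∀ (σ : Γ) i, σ • x i ∈ Submodule.span k (Set.range x) := by
    intro σ i
    rw [hx, fieldAction_FX_inr]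
    exact Submodule.sum_mem _ fun j _ => Submodule.smul_mem _ _ (Submodule.subset_span ⟨j, rfl⟩)
  have hys : ∀ (σ : Γ) j, σ • y j ∈ Submodule.span k (Set.range y) := by
    intro σ i
    rw [hy, fieldAction_FX_inl]
    exact Submodule.sum_mem _ fun j _ => Submodule.smul_mem _ _ (Submodule.subset_span ⟨j, rfl⟩)
  have hfaith : ∀ σ : Γ, (∀ i, σ • x i = x i) → σ = 1 := by
    intro σ h
    apply hf₂
    intro i
    apply (jMap (k := k) (Sum.inr : Fin m → Fin n ⊕ Fin m) Sum.inr_injective).toRingHom.injective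
    change jMap (k := k) (Sum.inr : Fin m → Fin n ⊕ Fin m) Sum.inr_injective (σ • FX i) =
      jMap (k := k) (Sum.inr : Fin m → Fin n ⊕ Fin m) Sum.inr_injective (FX i)
    rw [jMap_inr_smul h₁ h₂, jMap_FX]
    exact h i
  exact exists_algHom_range_eq_fixed hcard x y hxy hgen hxs hys hfaith
    (jMap (k := k) (Sum.inr : Fin m → Fin n ⊕ Fin m) Sum.inr_injective)
    (jMap_inr_smul h₁ h₂) (jMap_fieldRange _ _) F₂ hF₂

include h₁ h₂ hf₁ hf₂ in
/-- **stable equivalence** of the fields of invariants of two faithful linear actions. -/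
theorem nonempty_algEquiv_of_linear (F₁ : IntermediateField k (Fld (Fin n) k))
    (hF₁ : ∀ b : Fld (Fin n) k, b ∈ F₁ ↔ ∀ σ : Γ, σ • b = b)
    (F₂ : IntermediateField k (Fld (Fin m) k))
    (hF₂ : ∀ b : Fld (Fin m) k, b ∈ F₂ ↔ ∀ σ : Γ, σ • b = b) :
    Nonempty (FractionRing (MvPolynomial (Fin m) F₁) ≃ₐ[k]
      FractionRing (MvPolynomial (Fin n) F₂)) := by
  obtain ⟨φ₁, hφ₁⟩ := exists_algHom_inl h₁ h₂ hf₁ F₁ hF₁
  obtain ⟨φ₂, hφ₂⟩ := exists_algHom_inr h₁ h₂ hf₂ F₂ hF₂
  have hrange : φ₁.range = φ₂.range := by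
    ext f
    rw [AlgHom.mem_range, AlgHom.mem_range]
    exact (hφ₁ f).trans (hφ₂ f).symm
  exact ⟨(AlgEquiv.ofInjective φ₁ φ₁.toRingHom.injective).trans
    ((Subalgebra.equivOfEq _ _ hrange).trans
      (AlgEquiv.ofInjective φ₂ φ₂.toRingHom.injective).symm)⟩

end stable

end Groth.Agent.H1.NoName
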