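/-
helper1: purely transcendental extensions: rational function fields over pure extensions, the
permutation action on the rational function field and symmetric rational functions.
-/
import Groth.Agent.H1.NoName4

set_option autoImplicit false

namespace Groth.Agent.H1.NoName

universe u w

open MvPolynomial

section pure

variable {k : Type u} [Field k] {F : Type u} [Field F] [Algebra k F]

/-- a rational function field over a purely transcendental extension is purely transcendental. -/
theorem exists_generators_fld {a : ℕ} (b : ℕ) (s : Fin a → F) (hs : AlgebraicIndependent k s)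
    (hgen : IntermediateField.adjoin k (Set.range s) = ⊤) :
    ∃ (N : ℕ) (t : Fin N → Fld (Fin b) F), AlgebraicIndependent k t ∧
      IntermediateField.adjoin k (Set.range t) = ⊤ := by
  have h1 : AlgebraicIndependent k
      (Sum.elim (fun i : Fin b => (FX i : Fld (Fin b) F)) (algebraMap F (Fld (Fin b) F) ∘ s)) :=
    hs.sumElim_comp (algebraicIndependent_FX (Fin b) F)
  refine ⟨b + a, Sum.elim (fun i : Fin b => (FX i : Fld (Fin b) F))
    (algebraMap F (Fld (Fin b) F) ∘ s) ∘ finSumFinEquiv.symm,
    h1.comp _ finSumFinEquiv.symm.injective, ?_⟩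
  rw [eq_top_iff]
  intro f _
  set E : IntermediateField k (Fld (Fin b) F) := IntermediateField.adjoin k
    (Set.range (Sum.elim (fun i : Fin b => (FX i : Fld (Fin b) F))
      (algebraMap F (Fld (Fin b) F) ∘ s) ∘ finSumFinEquiv.symm)) with hE
  have hmem : ∀ z, z ∈ Set.range (Sum.elim (fun i : Fin b => (FX i : Fld (Fin b) F))
      (algebraMap F (Fld (Fin b) F) ∘ s)) → z ∈ E := by
    rintro _ ⟨i, rfl⟩
    apply IntermediateField.subset_adjoin
    exact ⟨finSumFinEquiv i, by simp⟩
  refine mem_of_subfield E.toSubfield ?_ ?_ f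
  · intro c
    have hc : c ∈ IntermediateField.adjoin k (Set.range s) := by rw [hgen]; trivial
    have h2 : (IntermediateField.adjoin k (Set.range s)).map
        (IsScalarTower.toAlgHom k F (Fld (Fin b) F)) ≤ E := by
      rw [IntermediateField.adjoin_map, IntermediateField.adjoin_le_iff]
      rintro _ ⟨_, ⟨i, rfl⟩, rfl⟩
      exact hmem _ ⟨Sum.inr i, rfl⟩
    exact h2 ⟨c, hc, rfl⟩
  · intro i
    exact hmem _ ⟨Sum.inl i, rfl⟩

/-- transport of pure transcendence along an isomorphism. -/
theorem exists_generators_of_algEquiv {E E' : Type*} [Field E] [Field E'] [Algebra k E]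
    [Algebra k E'] (e : E ≃ₐ[k] E') {N : ℕ} (t : Fin N → E') (ht : AlgebraicIndependent k t)
    (hgen : IntermediateField.adjoin k (Set.range t) = ⊤) :
    ∃ t' : Fin N → E, AlgebraicIndependent k t' ∧ IntermediateField.adjoin k (Set.range t') = ⊤ := by
  refine ⟨e.symm ∘ t, ht.map' (f := (e.symm : E' →ₐ[k] E)) e.symm.injective, ?_⟩
  rw [eq_top_iff]
  intro z _
  have h1 : e z ∈ IntermediateField.adjoin k (Set.range t) := by rw [hgen]; trivial
  have h2 : (IntermediateField.adjoin k (Set.range t)).map (e.symm : E' →ₐ[k] E) ≤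
      IntermediateField.adjoin k (Set.range (e.symm ∘ t)) := by
    rw [IntermediateField.adjoin_map, Set.range_comp]
    exact le_of_eq rfl
  have := h2 ⟨e z, h1, rfl⟩
  simpa using this

end pure

section perm

variable (n : ℕ) (k : Type u) [Field k]

/-- permutations of the variables as algebra automorphisms of the polynomial ring. -/
noncomputable def permHom :
    Equiv.Perm (Fin n) →* (MvPolynomial (Fin n) k ≃ₐ[k] MvPolynomial (Fin n) k) where
  toFun τ := renameEquiv k τ
  map_one' := by
    ext p
    simp
  map_mul' τ₁ τ₂ := by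
    ext p
    simp [rename_rename]

/-- the permutation action on the polynomial ring. -/
@[reducible] noncomputable def permPolyAction :
    MulSemiringAction (Equiv.Perm (Fin n)) (MvPolynomial (Fin n) k) :=
  MulSemiringAction.compHom _ (permHom n k)

/-- the permutation action on the rational function field. -/
@[reducible] noncomputable def permFieldAction :
    MulSemiringAction (Equiv.Perm (Fin n)) (Fld (Fin n) k) :=
  letI := permPolyAction n k
  IsFractionRing.mulSemiringAction (Equiv.Perm (Fin n)) (MvPolynomial (Fin n) k) (Fld (Fin n) k)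

variable {n k}

theorem permPoly_smul (τ : Equiv.Perm (Fin n)) (p : MvPolynomial (Fin n) k) :
    letI := permPolyAction n k
    τ • p = rename τ p := rfl

theorem permField_algebraMap (τ : Equiv.Perm (Fin n)) (p : MvPolynomial (Fin n) k) :
    letI := permFieldAction n k
    τ • algebraMap (MvPolynomial (Fin n) k) (Fld (Fin n) k) p =
      algebraMap (MvPolynomial (Fin n) k) (Fld (Fin n) k) (rename τ p) :=
  IsFractionRing.ringEquivOfRingEquiv_algebraMap _ p

theorem permField_FX (τ : Equiv.Perm (Fin n)) (i : Fin n) :
    letI := permFieldAction n k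
    τ • (FX i : Fld (Fin n) k) = FX (τ i) := by
  rw [FX, permField_algebraMap, rename_X]

theorem permField_algebraMap_base (τ : Equiv.Perm (Fin n)) (c : k) :
    letI := permFieldAction n k
    τ • algebraMap k (Fld (Fin n) k) c = algebraMap k (Fld (Fin n) k) c := by
  rw [← algebraMap_C, permField_algebraMap, rename_C]

/-- the elementary symmetric functions in the rational function field. -/
noncomputable def fes (i : Fin n) : Fld (Fin n) k :=
  algebraMap (MvPolynomial (Fin n) k) (Fld (Fin n) k) (esymm (Fin n) k (i + 1))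

theorem algebraMap_aeval_esymm_mem (Q : MvPolynomial (Fin n) k) :
    algebraMap (MvPolynomial (Fin n) k) (Fld (Fin n) k)
      (aeval (fun i : Fin n => esymm (Fin n) k (i + 1)) Q) ∈
      Subfield.closure (Set.range (algebraMap k (Fld (Fin n) k)) ∪ Set.range (fes (n := n) (k := k))) := by
  induction Q using MvPolynomial.induction_on with
  | C c =>
    rw [aeval_C, MvPolynomial.algebraMap_eq, algebraMap_C]
    exact Subfield.subset_closure (Or.inl ⟨c, rfl⟩)
  | add p q hp hq => rw [map_add, map_add]; exact Subfield.add_mem _ hp hq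
  | mul_X p i hp =>
    rw [map_mul, map_mul, aeval_X]
    exact Subfield.mul_mem _ hp (Subfield.subset_closure (Or.inr ⟨i, rfl⟩))

theorem algebraMap_mem_of_isSymmetric (P : MvPolynomial (Fin n) k) (hP : P.IsSymmetric) :
    algebraMap (MvPolynomial (Fin n) k) (Fld (Fin n) k) P ∈
      Subfield.closure (Set.range (algebraMap k (Fld (Fin n) k)) ∪ Set.range (fes (n := n) (k := k))) := by
  obtain ⟨Q, hQ⟩ := (esymmAlgHom_fin_bijective k n).2 ⟨P, hP⟩
  have h1 : aeval (fun i : Fin n => esymm (Fin n) k (i + 1)) Q = P := by
    have := congrArg Subtype.val hQ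
    rwa [esymmAlgHom_apply] at this
  rw [← h1]
  exact algebraMap_aeval_esymm_mem Q

/-- a symmetric rational function is a rational function of the elementary symmetric
functions. -/
theorem mem_closure_fes_of_fixed (f : Fld (Fin n) k)
    (hf : letI := permFieldAction n k; ∀ τ : Equiv.Perm (Fin n), τ • f = f) :
    f ∈ Subfield.closure (Set.range (algebraMap k (Fld (Fin n) k)) ∪
      Set.range (fes (n := n) (k := k))) := by
  classical
  let _ := permPolyAction n k
  let _ := permFieldAction n k
  obtain ⟨p, q, hq, rfl⟩ := IsFractionRing.div_surjective (A := MvPolynomial (Fin n) k) f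
  have hq0 : q ≠ 0 := nonZeroDivisors.ne_zero hq
  set a := algebraMap (MvPolynomial (Fin n) k) (Fld (Fin n) k) with ha
  have hainj : Function.Injective a := IsFractionRing.injective _ _
  set Nq : MvPolynomial (Fin n) k := ∏ τ : Equiv.Perm (Fin n), τ • q with hNq
  set Pq : MvPolynomial (Fin n) k := ∏ τ ∈ Finset.univ.erase (1 : Equiv.Perm (Fin n)), τ • q
    with hPq
  have hqP : q * Pq = Nq := by
    have := Finset.mul_prod_erase Finset.univ (fun τ : Equiv.Perm (Fin n) => τ • q)
      (Finset.mem_univ 1)
    rwa [one_smul] at this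
  have hNfix : ∀ σ : Equiv.Perm (Fin n), σ • Nq = Nq := by
    intro σ
    rw [hNq, Finset.smul_prod']
    simp only [smul_smul]
    exact Fintype.prod_bijective (fun τ => σ * τ) (Group.mulLeft_bijective σ) _ _ (fun τ => rfl)
  have hN0 : Nq ≠ 0 := by
    rw [hNq, Finset.prod_ne_zero_iff]
    intro τ _
    rwa [Ne, smul_eq_zero_iff_eq]
  have hNsym : Nq.IsSymmetric := fun σ => hNfix σ
  set R : MvPolynomial (Fin n) k := p * Pq with hR
  have hfR : a p / a q = a R / a Nq := by
    have h1 : a q ≠ 0 := fun h => hq0 (hainj (by rw [h, map_zero]))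
    have h2 : a Nq ≠ 0 := fun h => hN0 (hainj (by rw [h, map_zero]))
    rw [div_eq_div_iff h1 h2, ← map_mul, ← map_mul, hR, ← hqP]
    congr 1
    ring
  have haN : a Nq ≠ 0 := fun h => hN0 (hainj (by rw [h, map_zero]))
  have hRfix : ∀ σ : Equiv.Perm (Fin n), σ • R = R := by
    intro σ
    apply hainj
    have h1 : a R = (a p / a q) * a Nq := by
      rw [hfR, div_mul_cancel₀ _ haN]
    have h2 : σ • a R = a (σ • R) := permField_algebraMap σ R
    have h3 : σ • a Nq = a (σ • Nq) := permField_algebraMap σ Nq
    rw [← h2, h1, smul_mul', hf σ, h3, hNfix σ]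
  have hRsym : R.IsSymmetric := fun σ => hRfix σ
  rw [hfR]
  exact Subfield.div_mem _ (algebraMap_mem_of_isSymmetric R hRsym)
    (algebraMap_mem_of_isSymmetric Nq hNsym)


theorem fes_fixed (τ : Equiv.Perm (Fin n)) (i : Fin n) :
    letI := permFieldAction n k
    τ • (fes i : Fld (Fin n) k) = fes i := by
  rw [fes, permField_algebraMap, rename_esymm]

theorem algebraicIndependent_fes : AlgebraicIndependent k (fes (n := n) (k := k)) := by
  have h1 : AlgebraicIndependent k (fun i : Fin n => esymm (Fin n) k (i + 1)) := by
    rw [algebraicIndependent_iff_injective_aeval]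
    intro p q hpq
    apply esymmAlgHom_fin_injective k (le_refl n)
    apply Subtype.ext
    rw [esymmAlgHom_apply, esymmAlgHom_apply]
    exact hpq
  exact h1.map' (f := IsScalarTower.toAlgHom k (MvPolynomial (Fin n) k) (Fld (Fin n) k))
    (IsFractionRing.injective _ _)

/-- the field of symmetric rational functions is purely transcendental. -/
theorem exists_generators_fixed_perm (F₂ : IntermediateField k (Fld (Fin n) k))
    (hF₂ : letI := permFieldAction n k
      ∀ b : Fld (Fin n) k, b ∈ F₂ ↔ ∀ τ : Equiv.Perm (Fin n), τ • b = b) :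
    ∃ s : Fin n → F₂, AlgebraicIndependent k s ∧
      IntermediateField.adjoin k (Set.range s) = ⊤ := by
  let _ := permFieldAction n k
  let s : Fin n → F₂ := fun i => ⟨fes i, (hF₂ _).mpr fun τ => fes_fixed τ i⟩
  refine ⟨s, ?_, ?_⟩
  · exact AlgebraicIndependent.of_comp F₂.val (algebraicIndependent_fes (n := n) (k := k))
  · rw [eq_top_iff]
    intro z _
    have h1 := mem_closure_fes_of_fixed (z : Fld (Fin n) k) ((hF₂ _).mp z.2)
    have h2 : Subfield.closure (Set.range (algebraMap k (Fld (Fin n) k)) ∪
        Set.range (fes (n := n) (k := k))) ≤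
        ((IntermediateField.adjoin k (Set.range s)).map F₂.val).toSubfield := by
      rw [Subfield.closure_le]
      rintro _ (⟨c, rfl⟩ | ⟨i, rfl⟩)
      · exact IntermediateField.algebraMap_mem _ c
      · exact ⟨s i, IntermediateField.subset_adjoin k _ ⟨i, rfl⟩, rfl⟩
    obtain ⟨w, hw, hwz⟩ := h2 h1
    have : w = z := Subtype.ext hwz
    rwa [← this]

end perm

end Groth.Agent.H1.NoName
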