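/-
helper1: the field of invariants of a faithful linear representation of the symmetric group is
stably purely transcendental.
-/
import Groth.Agent.H1.NoName5

set_option autoImplicit false

namespace Groth.Agent.H1.NoName

universe u w

open MvPolynomial

section symm

variable {n m : ℕ} {k : Type u} [Field k] [CharZero k]
  {Γ : Type w} [Group Γ] [Fintype Γ]
  [MulSemiringAction Γ (Fld (Fin m) k)] [SMulCommClass Γ k (Fld (Fin m) k)]
  (h₁ : ∀ (σ : Γ) (i : Fin m), σ • (FX i : Fld (Fin m) k) ∈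
    Submodule.span k (Set.range fun j : Fin m => (FX j : Fld (Fin m) k)))
  (hf₁ : ∀ σ : Γ, (∀ i : Fin m, σ • (FX i : Fld (Fin m) k) = FX i) → σ = 1)
  (e : Γ ≃* Equiv.Perm (Fin n))

include h₁ hf₁ e in
theorem exists_generators_of_perm (F₁ : IntermediateField k (Fld (Fin m) k))
    (hF₁ : ∀ b : Fld (Fin m) k, b ∈ F₁ ↔ ∀ σ : Γ, σ • b = b) :
    ∃ (N : ℕ) (t : Fin N → FractionRing (MvPolynomial (Fin n) F₁)),
      AlgebraicIndependent k t ∧ IntermediateField.adjoin k (Set.range t) = ⊤ := by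
  classical
  let _ := permFieldAction n k
  let _ : MulSemiringAction Γ (Fld (Fin n) k) := MulSemiringAction.compHom _ e.toMonoidHom
  have hsmul : ∀ (σ : Γ) (b : Fld (Fin n) k), σ • b = (e σ) • b := fun _ _ => rfl
  have : SMulCommClass Γ k (Fld (Fin n) k) := ⟨fun σ c b => by
    rw [hsmul, hsmul, Algebra.smul_def, smul_mul', permField_algebraMap_base, ← Algebra.smul_def]⟩
  have h₂ : ∀ (σ : Γ) (i : Fin n), σ • (FX i : Fld (Fin n) k) ∈
      Submodule.span k (Set.range fun j : Fin n => (FX j : Fld (Fin n) k)) := by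
    intro σ i
    rw [hsmul, permField_FX]
    exact Submodule.subset_span ⟨_, rfl⟩
  have hf₂ : ∀ σ : Γ, (∀ i : Fin n, σ • (FX i : Fld (Fin n) k) = FX i) → σ = 1 := by
    intro σ hσ
    rw [← MulEquiv.map_eq_one_iff e]
    ext i
    have := hσ i
    rw [hsmul, permField_FX] at this
    have h3 := (algebraicIndependent_FX (Fin n) k).injective this
    rw [h3]
    rfl
  let F₂ : IntermediateField k (Fld (Fin n) k) := FixedPoints.intermediateField Γ
  have hF₂ : ∀ b : Fld (Fin n) k, b ∈ F₂ ↔ ∀ σ : Γ, σ • b = b := fun b => Iff.rfl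
  obtain ⟨iso⟩ := nonempty_algEquiv_of_linear h₁ h₂ hf₁ hf₂ F₁ hF₁ F₂ hF₂
  have hF₂' : ∀ b : Fld (Fin n) k, b ∈ F₂ ↔ ∀ τ : Equiv.Perm (Fin n), τ • b = b := by
    intro b
    rw [hF₂]
    constructor
    · intro h τ
      have := h (e.symm τ)
      rwa [hsmul, MulEquiv.apply_symm_apply] at this
    · intro h σ
      exact h (e σ)
  obtain ⟨s, hs, hsgen⟩ := exists_generators_fixed_perm F₂ hF₂'
  obtain ⟨N, t, ht, htgen⟩ := exists_generators_fld m s hs hsgen
  obtain ⟨t', ht', ht'gen⟩ := exists_generators_of_algEquiv iso t ht htgen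
  exact ⟨N, t', ht', ht'gen⟩

end symm

end Groth.Agent.H1.NoName
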