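/-
helper1: `|inertia| = ramification index` for maximal ideals with separable residue extension
(variant of Mathlib's `Ideal.card_inertia_eq_ramificationIdxIn`, which assumes a perfect residue
field).
-/
import Mathlib

set_option autoImplicit false

open scoped Pointwise
open Algebra Ideal

namespace Groth.Agent.H1.Ram

variable {R S G : Type*} [CommRing R] [CommRing S] [Algebra R S] [Group G]
  [MulSemiringAction G S] [IsGaloisGroup G R S] [Finite G]

attribute [local instance] Ideal.Quotient.field in
theorem card_stabilizer_eq_card_inertia_mul_finrank_of_isSeparable (p : Ideal R) [p.IsMaximal]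
    (P : Ideal S) [P.LiesOver p] [P.IsMaximal] [Algebra.IsSeparable (R ⧸ p) (S ⧸ P)] :
    Nat.card (MulAction.stabilizer G P) = Nat.card (inertia G P) * P.inertiaDeg R := by
  have hinv : Algebra.IsInvariant R S G := IsGaloisGroup.isInvariant
  have hcomm : SMulCommClass G R S := IsGaloisGroup.commutes
  have : IsGalois (R ⧸ p) (S ⧸ P) :=
    { __ := Ideal.Quotient.normal G p P }
  have : Module.Finite (R ⧸ p) (S ⧸ P) := Ideal.Quotient.finite_of_isInvariant G p P
  have : Subgroup.index _ = _ := Nat.card_congr
    (Ideal.Quotient.stabilizerQuotientInertiaEquiv G p P).toEquiv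
  rw [inertiaDeg_eq_of_isMaximal p P, ← IsGalois.card_aut_eq_finrank (R ⧸ p) (S ⧸ P), ← this,
    ← ((inertia G P).subgroupOf (MulAction.stabilizer G P)).card_mul_index,
    Nat.card_congr (Subgroup.subgroupOfEquivOfLe (inertia_le_stabilizer (M := G) P)).toEquiv,
    AddSubgroup.subgroupOf_inertia]

lemma ncard_primesOver_mul_card_inertia_mul_finrank_of_isSeparable (p : Ideal R) [p.IsMaximal]
    (P : Ideal S) [P.LiesOver p] [P.IsMaximal] [Algebra.IsSeparable (R ⧸ p) (S ⧸ P)] :
    (p.primesOver S).ncard * Nat.card (P.inertia G) * P.inertiaDeg R = Nat.card G := by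
  rw [mul_assoc, ← card_stabilizer_eq_card_inertia_mul_finrank_of_isSeparable p P,
    ← IsInvariant.orbit_eq_primesOver R S G p P]
  simpa using Nat.card_congr (MulAction.orbitProdStabilizerEquivGroup G P)

/-- The cardinality of the inertia group is equal to the ramification index. -/
lemma card_inertia_eq_ramificationIdxIn_of_isSeparable [IsDomain R] [IsDomain S]
    [Module.Finite R S] [Module.Flat R S]
    (p : Ideal R) (P : Ideal S) [P.LiesOver p] [p.IsMaximal] [P.IsMaximal]
    [Algebra.IsSeparable (R ⧸ p) (S ⧸ P)] :
    Nat.card (P.inertia G) = Ideal.ramificationIdxIn p S := by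
  have H := ncard_primesOver_mul_card_inertia_mul_finrank_of_isSeparable (G := G) p P
  rw [← inertiaDegIn_eq_inertiaDeg p P G] at H
  have h1 : (p.primesOver S).ncard ≠ 0 := by grind [Nat.card_pos]
  have h2 : p.inertiaDegIn S ≠ 0 := by grind [Nat.card_pos]
  rwa [← ncard_primesOver_mul_ramificationIdxIn_mul_inertiaDegIn p S G,
    mul_assoc, mul_right_inj' h1, mul_left_inj' h2] at H

end Groth.Agent.H1.Ram
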