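/-
helper1: ramification filtration for a group acting on a ring `B` with a maximal ideal `m`
(elements acting trivially modulo powers of `m`), without localisation or completion.
-/
import Mathlib

set_option autoImplicit false

open scoped Pointwise
open Polynomial

namespace Groth.Agent.H1.Ram

universe u v w

variable {B : Type u} [CommRing B] {G : Type v} [Group G] [MulSemiringAction G B]

/-- twisted Leibniz rule for `σ - 1`. -/
theorem smul_mul_sub (σ : G) (x y : B) :
    σ • (x * y) - x * y = σ • x * (σ • y - y) + (σ • x - x) * y := by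
  rw [smul_mul']; ring

section filt

variable (m : Ideal B)

/-- `σ` acts trivially modulo `m ^ j`. -/
def Triv (σ : G) (j : ℕ) : Prop := ∀ x : B, σ • x - x ∈ m ^ j

variable {m}

theorem Triv.mono {σ : G} {i j : ℕ} (h : Triv m σ i) (hji : j ≤ i) : Triv m σ j :=
  fun x => Ideal.pow_le_pow_right hji (h x)

theorem triv_one (j : ℕ) : Triv m (1 : G) j := fun x => by simp

theorem Triv.mem_inertia_pow {σ : G} {j : ℕ} (h : Triv m σ j) : σ ∈ (m ^ j).inertia G := h

theorem triv_iff_mem_inertia {σ : G} {j : ℕ} : Triv m σ j ↔ σ ∈ (m ^ j).inertia G := Iff.rfl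

theorem Triv.mul {σ τ : G} {j : ℕ} (hσ : Triv m σ j) (hτ : Triv m τ j) : Triv m (σ * τ) j :=
  ((m ^ j).inertia G).mul_mem hσ hτ

theorem Triv.pow {σ : G} {j : ℕ} (hσ : Triv m σ j) (n : ℕ) : Triv m (σ ^ n) j :=
  ((m ^ j).inertia G).pow_mem hσ n

theorem Triv.inv {σ : G} {j : ℕ} (hσ : Triv m σ j) : Triv m σ⁻¹ j :=
  ((m ^ j).inertia G).inv_mem hσ

/-- if `σ` is trivial mod `m` then it preserves every power of `m`. -/
theorem Triv.smul_mem {σ : G} (h : Triv m σ 1) {j : ℕ} {y : B} (hy : y ∈ m ^ j) :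
    σ • y ∈ m ^ j := by
  induction j generalizing y with
  | zero => simp
  | succ j ih =>
    rw [pow_succ] at hy ⊢
    refine Submodule.mul_induction_on hy (fun a ha b hb => ?_) (fun a b ha hb => ?_)
    · rw [smul_mul']
      refine Ideal.mul_mem_mul (ih ha) ?_
      have := h b
      rw [pow_one] at this
      have h2 : σ • b = (σ • b - b) + b := by ring
      rw [h2]
      exact m.add_mem this hb
    · rw [smul_add]
      exact Ideal.add_mem _ ha hb

/-- Lemma B: if `σ - 1` maps `B` into `m ^ (i+1)`, it maps `m ^ j` into `m ^ (i + j)`. -/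
theorem Triv.sub_mem_pow_add {σ : G} {i : ℕ} (h : Triv m σ (i + 1)) (j : ℕ) {y : B}
    (hy : y ∈ m ^ j) : σ • y - y ∈ m ^ (i + j) := by
  induction j generalizing y with
  | zero => exact Ideal.pow_le_pow_right (by omega) (h y)
  | succ j ih =>
    rw [pow_succ] at hy
    refine Submodule.mul_induction_on hy (fun a ha b hb => ?_) (fun a b ha hb => ?_)
    · rw [smul_mul_sub]
      refine Ideal.add_mem _ ?_ ?_
      · -- σ a ∈ m^j, σ b - b ∈ m^(i+1)
        have h1 : σ • a ∈ m ^ j := (h.mono (by omega)).smul_mem ha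
        have h2 : σ • b - b ∈ m ^ (i + 1) := h b
        have : σ • a * (σ • b - b) ∈ m ^ j * m ^ (i + 1) := Ideal.mul_mem_mul h1 h2
        rw [← pow_add] at this
        convert this using 2
        omega
      · have h1 : σ • a - a ∈ m ^ (i + j) := ih ha
        have : (σ • a - a) * b ∈ m ^ (i + j) * m := Ideal.mul_mem_mul h1 hb
        rw [← pow_succ] at this
        exact this
    · have : σ • (a + b) - (a + b) = (σ • a - a) + (σ • b - b) := by rw [smul_add]; ring
      rw [this]
      exact Ideal.add_mem _ ha hb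

/-- key computation: if `τ` is trivial mod `m ^ 2` and `τ x - x = d ∈ m ^ j`, then
`τ ^ k x ≡ x + k d` mod `m ^ (j + 1)`. -/
theorem Triv.pow_smul_sub {τ : G} (h : Triv m τ 2) {j : ℕ} {x : B}
    (hd : τ • x - x ∈ m ^ j) (k : ℕ) :
    (τ ^ k) • x - x - k * (τ • x - x) ∈ m ^ (j + 1) := by
  induction k with
  | zero => simp
  | succ k ih =>
    have h2 : Triv m (τ ^ k) (1 + 1) := h.pow k
    have h3 := h2.sub_mem_pow_add j hd
    have e : (τ ^ (k + 1)) • x - x - ((k + 1 : ℕ) : B) * (τ • x - x) =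
        ((τ ^ k) • x - x - k * (τ • x - x)) + ((τ ^ k) • (τ • x - x) - (τ • x - x)) := by
      rw [pow_succ, mul_smul, smul_sub]
      push_cast
      ring
    rw [e]
    refine Ideal.add_mem _ ih ?_
    rw [add_comm j 1]
    exact h3

/-- if `τ` is trivial mod `m ^ 2` and `τ ^ N = 1` with `N ∉ m`, then `τ` is trivial modulo every
power of `m`. -/
theorem Triv.of_pow_eq_one [m.IsMaximal] {τ : G} (h : Triv m τ 2) (N : ℕ) (hN : τ ^ N = 1)
    (hNm : (N : B) ∉ m) (j : ℕ) : Triv m τ j := by
  induction j with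
  | zero => exact h.mono (by omega)
  | succ j ih =>
    intro x
    have h1 := h.pow_smul_sub (ih x) N
    rw [hN, one_smul, sub_self, zero_sub, neg_mem_iff] at h1
    exact (Ideal.IsMaximal.mul_mem_pow m h1).resolve_left hNm

theorem eq_one_of_triv_two [IsNoetherianRing B] [IsDomain B] [FaithfulSMul G B] [m.IsMaximal]
    {τ : G} (h : Triv m τ 2) (N : ℕ) (hN : τ ^ N = 1) (hNm : (N : B) ∉ m) : τ = 1 := by
  apply FaithfulSMul.eq_of_smul_eq_smul (α := B)
  intro x
  rw [one_smul]
  have hx : τ • x - x ∈ (⨅ i : ℕ, m ^ i) := by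
    rw [Ideal.mem_iInf]
    intro j
    exact h.of_pow_eq_one N hN hNm j x
  rw [Ideal.iInf_pow_eq_bot_of_isDomain m (Ideal.IsMaximal.ne_top inferInstance)] at hx
  exact sub_eq_zero.mp hx

end filt

section sep

variable {A : Type w} [CommRing A] [Algebra A B] [SMulCommClass G A B] {m : Ideal B}

theorem smul_aeval (σ : G) (x : B) (f : A[X]) : σ • (aeval x f) = aeval (σ • x) f := by
  have := Polynomial.aeval_algHom_apply (MulSemiringAction.toAlgHom A B σ) x f
  simpa using this.symm

/-- separability step: if `σ - 1` maps `B` to `m ^ i` (`i ≥ 1`) and `m` to `m ^ (i+1)`, then any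
`x` with a polynomial `f` over `A` such that `f(x) ∈ m`, `f'(x) ∉ m` is mapped to `m ^ (i+1)`. -/
theorem Triv.sub_mem_of_sep [m.IsMaximal] {σ : G} {i : ℕ} (hi : 1 ≤ i) (h : Triv m σ i)
    (hm : ∀ y ∈ m, σ • y - y ∈ m ^ (i + 1)) (x : B) (f : A[X]) (hf : aeval x f ∈ m)
    (hf' : aeval x (derivative f) ∉ m) : σ • x - x ∈ m ^ (i + 1) := by
  have h1 := hm _ hf
  rw [smul_aeval] at h1
  obtain ⟨k, hk⟩ := Polynomial.binomExpansion (f.map (algebraMap A B)) x (σ • x - x)
  rw [add_sub_cancel, derivative_map, eval_map_algebraMap, eval_map_algebraMap,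
    eval_map_algebraMap] at hk
  have h2 : k * (σ • x - x) ^ 2 ∈ m ^ (i + 1) := by
    refine Ideal.mul_mem_left _ _ ?_
    have : (σ • x - x) ^ 2 ∈ (m ^ i) ^ 2 := Ideal.pow_mem_pow (h x) 2
    rw [← pow_mul] at this
    exact Ideal.pow_le_pow_right (by nlinarith) this
  have h3 : aeval x (derivative f) * (σ • x - x) ∈ m ^ (i + 1) := by
    have e : aeval x (derivative f) * (σ • x - x) =
        (aeval (σ • x) f - aeval x f) - k * (σ • x - x) ^ 2 := by
      rw [hk]; ring
    rw [e]
    exact Ideal.sub_mem _ h1 h2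
  exact (Ideal.IsMaximal.mul_mem_pow m h3).resolve_left hf'

end sep

section unif

variable {m : Ideal B}

/-- if `σ - 1` maps `B` to `m ^ i` (`i ≥ 1`) and a uniformiser `π` to `m ^ (i+1)`, it maps `m` to
`m ^ (i + 1)`. -/
theorem Triv.sub_mem_of_unif {σ : G} {i : ℕ} (hi : 1 ≤ i) (h : Triv m σ i) {π : B}
    (hπ : Ideal.span {π} ⊔ m ^ 2 = m) (hσπ : σ • π - π ∈ m ^ (i + 1)) :
    ∀ y ∈ m, σ • y - y ∈ m ^ (i + 1) := by
  intro y hy
  rw [← hπ] at hy
  obtain ⟨a, ha, r, hr, rfl⟩ := Submodule.mem_sup.mp hy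
  obtain ⟨b, rfl⟩ := Ideal.mem_span_singleton'.mp ha
  have hπm : π ∈ m := by
    rw [← hπ]
    exact Ideal.mem_sup_left (Ideal.subset_span rfl)
  have e : σ • (b * π + r) - (b * π + r) =
      (σ • b * (σ • π - π) + (σ • b - b) * π) + (σ • r - r) := by
    rw [smul_add, smul_mul']; ring
  rw [e]
  refine Ideal.add_mem _ (Ideal.add_mem _ (Ideal.mul_mem_left _ _ hσπ) ?_) ?_
  · rw [pow_succ]
    exact Ideal.mul_mem_mul (h b) hπm
  · obtain ⟨i', rfl⟩ : ∃ i', i = i' + 1 := ⟨i - 1, by omega⟩
    have := h.sub_mem_pow_add 2 hr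
    exact Ideal.pow_le_pow_right (by omega) this

variable {A : Type w} [CommRing A] [Algebra A B] [SMulCommClass G A B]

/-- **Lemma A**: under the separability hypothesis, an element of the inertia group moving a
uniformiser by an element of `m ^ j` is trivial modulo `m ^ j`. -/
theorem triv_of_unif [m.IsMaximal]
    (hsep : ∀ x : B, ∃ f : A[X], aeval x f ∈ m ∧ aeval x (derivative f) ∉ m)
    {π : B} (hπ : Ideal.span {π} ⊔ m ^ 2 = m) {σ : G} (h1 : Triv m σ 1) (j : ℕ)
    (hj : σ • π - π ∈ m ^ j) : Triv m σ j := by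
  induction j with
  | zero => intro x; simp
  | succ j ih =>
    rcases Nat.eq_zero_or_pos j with rfl | hjpos
    · exact h1
    · have hT : Triv m σ j := ih (Ideal.pow_le_pow_right (by omega) hj)
      have hm := hT.sub_mem_of_unif hjpos hπ hj
      intro x
      obtain ⟨f, hf, hf'⟩ := hsep x
      exact hT.sub_mem_of_sep hjpos hm x f hf hf'

end unif

end Groth.Agent.H1.Ram
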