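/-
helper1: structure of `H ⧸ ker θ` for a character `θ : H → kˣ` of a finite group whose kernel is a
`p`-group (`p` = characteristic of `k`) or trivial (characteristic zero).
-/
import Mathlib

set_option autoImplicit false

namespace Groth.Agent.H1.Ram

variable {H : Type*} [Group H] [Finite H] {k : Type*} [CommRing k] [IsDomain k]

theorem isCyclic_quot_ker (θ : H →* kˣ) : IsCyclic (H ⧸ θ.ker) := by
  refine isCyclic_of_injective_ringHom ((Units.coeHom k).comp (QuotientGroup.kerLift θ)) ?_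
  exact Units.val_injective.comp (QuotientGroup.kerLift_injective θ)

/-- in characteristic `p`, `x ^ (p ^ a) = 1` implies `x = 1`. -/
theorem eq_one_of_pow_char_pow_eq_one (p : ℕ) [Fact p.Prime] [CharP k p] (a : ℕ) {x : k}
    (hx : x ^ p ^ a = 1) : x = 1 := by
  have : (x - 1) ^ p ^ a = 0 := by rw [sub_pow_char_pow, hx, one_pow, sub_self]
  exact sub_eq_zero.mp (pow_eq_zero_iff (pow_ne_zero _ (Fact.out : p.Prime).ne_zero) |>.mp this)

theorem not_dvd_card_quot_ker (θ : H →* kˣ) (p : ℕ) [Fact p.Prime] [CharP k p] :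
    ¬ p ∣ Nat.card (H ⧸ θ.ker) := by
  intro hdvd
  obtain ⟨q, hq⟩ := exists_prime_orderOf_dvd_card' p hdvd
  have h1 : q ^ p = 1 := by rw [← hq]; exact pow_orderOf_eq_one q
  have h2 : (QuotientGroup.kerLift θ q) ^ p = 1 := by rw [← map_pow, h1, map_one]
  have h3 : ((QuotientGroup.kerLift θ q : kˣ) : k) = 1 := by
    apply eq_one_of_pow_char_pow_eq_one p 1
    rw [pow_one, ← Units.val_pow_eq_pow_val, h2, Units.val_one]
  have h4 : QuotientGroup.kerLift θ q = 1 := Units.ext h3
  have h5 : q = 1 := QuotientGroup.kerLift_injective θ (by rw [h4, map_one])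
  rw [h5, orderOf_one] at hq
  exact (Fact.out : p.Prime).one_lt.ne hq

theorem card_quot_ker_of_charP (θ : H →* kˣ) (p : ℕ) [Fact p.Prime] [CharP k p]
    (hker : IsPGroup p θ.ker) :
    Nat.card (H ⧸ θ.ker) = Nat.card H / p ^ (Nat.card H).factorization p := by
  obtain ⟨a, ha⟩ := hker.exists_card_eq
  have hp : p.Prime := Fact.out
  have h1 := Subgroup.card_eq_card_quotient_mul_card_subgroup θ.ker
  have h2 := not_dvd_card_quot_ker θ p
  have hQ0 : Nat.card (H ⧸ θ.ker) ≠ 0 := Nat.card_pos.ne'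
  have hf : (Nat.card H).factorization p = a := by
    rw [h1, ha, Nat.factorization_mul hQ0 (pow_ne_zero _ hp.ne_zero), hp.factorization_pow]
    simp [Nat.factorization_eq_zero_of_not_dvd h2]
  rw [hf]
  conv_rhs => rw [h1, ha]
  rw [Nat.mul_div_cancel _ (pow_pos hp.pos a)]

/-- the comparison map to roots of unity. -/
noncomputable def quotToRoots (θ : H →* kˣ) : (H ⧸ θ.ker) →* rootsOfUnity (Nat.card H) k :=
  (QuotientGroup.kerLift θ).codRestrict _ (fun q => by
    rw [mem_rootsOfUnity, ← map_pow]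
    have : q ^ Nat.card H = 1 := by
      have h1 := Subgroup.card_eq_card_quotient_mul_card_subgroup θ.ker
      rw [h1, pow_mul, pow_card_eq_one', one_pow]
    rw [this, map_one])

omit [Finite H] [IsDomain k] in
theorem quotToRoots_injective (θ : H →* kˣ) : Function.Injective (quotToRoots θ) := by
  intro a b hab
  apply QuotientGroup.kerLift_injective θ
  have := congrArg Subtype.val hab
  simpa [quotToRoots] using this

theorem card_rootsOfUnity_le_of_charP (θ : H →* kˣ) (p : ℕ) [Fact p.Prime] [CharP k p]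
    (hker : IsPGroup p θ.ker) :
    Nat.card (rootsOfUnity (Nat.card H) k) ≤ Nat.card (H ⧸ θ.ker) := by
  obtain ⟨a, ha⟩ := hker.exists_card_eq
  have h1 := Subgroup.card_eq_card_quotient_mul_card_subgroup θ.ker
  have : NeZero (Nat.card (H ⧸ θ.ker)) := ⟨Nat.card_pos.ne'⟩
  have : NeZero (Nat.card H) := ⟨Nat.card_pos.ne'⟩
  have hle : rootsOfUnity (Nat.card H) k ≤ rootsOfUnity (Nat.card (H ⧸ θ.ker)) k := by
    intro ζ hζ
    rw [mem_rootsOfUnity] at hζ ⊢
    rw [h1, ha, pow_mul] at hζ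
    apply Units.ext
    rw [Units.val_one]
    apply eq_one_of_pow_char_pow_eq_one p a
    rw [← Units.val_pow_eq_pow_val, hζ, Units.val_one]
  calc Nat.card (rootsOfUnity (Nat.card H) k)
      ≤ Nat.card (rootsOfUnity (Nat.card (H ⧸ θ.ker)) k) :=
        Nat.card_le_card_of_injective (Subgroup.inclusion hle) (Subgroup.inclusion_injective hle)
    _ ≤ Nat.card (H ⧸ θ.ker) := card_rootsOfUnity k _

theorem nonempty_quot_mulEquiv_of_card_le (θ : H →* kˣ)
    (h : Nat.card (rootsOfUnity (Nat.card H) k) ≤ Nat.card (H ⧸ θ.ker)) :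
    Nonempty ((H ⧸ θ.ker) ≃* rootsOfUnity (Nat.card H) k) := by
  have : NeZero (Nat.card H) := ⟨Nat.card_pos.ne'⟩
  exact ⟨MulEquiv.ofBijective (quotToRoots θ)
    ((quotToRoots_injective θ).bijective_of_nat_card_le h)⟩

omit [Finite H] [IsDomain k] in
theorem card_quot_ker_of_ker_eq_bot (θ : H →* kˣ) (hker : θ.ker = ⊥) :
    Nat.card (H ⧸ θ.ker) = Nat.card H := by
  have h1 := Subgroup.card_eq_card_quotient_mul_card_subgroup θ.ker
  rw [h1, hker]
  simp

theorem card_rootsOfUnity_le_of_ker_eq_bot (θ : H →* kˣ) (hker : θ.ker = ⊥) :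
    Nat.card (rootsOfUnity (Nat.card H) k) ≤ Nat.card (H ⧸ θ.ker) := by
  have : NeZero (Nat.card H) := ⟨Nat.card_pos.ne'⟩
  rw [card_quot_ker_of_ker_eq_bot θ hker]
  exact card_rootsOfUnity k _

end Groth.Agent.H1.Ram
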