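/-
helper1: the tame character `θ : I → (B/m)ˣ`, `σ π ≡ θ(σ) π mod m²`.
-/
import Groth.Agent.H1.RamFilt

set_option autoImplicit false

open scoped Pointwise
open Polynomial

namespace Groth.Agent.H1.Ram

universe u v w

variable {B : Type u} [CommRing B] {G : Type v} [Group G] [MulSemiringAction G B]

section theta

variable {m : Ideal B} {π : B}

theorem unif_mem (hπ : Ideal.span {π} ⊔ m ^ 2 = m) : π ∈ m := by
  rw [← hπ]
  exact Ideal.mem_sup_left (Ideal.subset_span rfl)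

theorem exists_mul_sub_mem (hπ : Ideal.span {π} ⊔ m ^ 2 = m) {y : B} (hy : y ∈ m) :
    ∃ c : B, y - c * π ∈ m ^ 2 := by
  rw [← hπ] at hy
  obtain ⟨a, ha, r, hr, rfl⟩ := Submodule.mem_sup.mp hy
  obtain ⟨b, rfl⟩ := Ideal.mem_span_singleton'.mp ha
  exact ⟨b, by simpa using hr⟩

theorem mk_eq_of_mul_sub_mem [m.IsMaximal] (hπ2 : π ∉ m ^ 2) {c c' : B}
    (h : c * π - c' * π ∈ m ^ 2) : Ideal.Quotient.mk m c = Ideal.Quotient.mk m c' := by
  rw [Ideal.Quotient.eq]
  rw [← sub_mul] at h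
  exact (Ideal.IsMaximal.mul_mem_pow m h).resolve_right hπ2

theorem inertia_smul_mem {σ : G} (hσ : σ ∈ m.inertia G) {y : B} (hy : y ∈ m) : σ • y ∈ m := by
  have h : Triv m σ 1 := fun x => by rw [pow_one]; exact hσ x
  have := h.smul_mem (j := 1) (by rwa [pow_one])
  rwa [pow_one] at this

variable (hπ : Ideal.span {π} ⊔ m ^ 2 = m)

/-- the coefficient of `σ π` with respect to `π` modulo `m ^ 2`, as an element of `B ⧸ m`. -/
noncomputable def thetaAux (σ : m.inertia G) : B ⧸ m :=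
  Ideal.Quotient.mk m
    (Classical.choose (exists_mul_sub_mem hπ (inertia_smul_mem σ.2 (unif_mem hπ))))

theorem thetaAux_eq [m.IsMaximal] (hπ2 : π ∉ m ^ 2) (σ : m.inertia G) (c : B)
    (hc : (σ : G) • π - c * π ∈ m ^ 2) : thetaAux hπ σ = Ideal.Quotient.mk m c := by
  have h := Classical.choose_spec (exists_mul_sub_mem hπ (inertia_smul_mem σ.2 (unif_mem hπ)))
  unfold thetaAux
  apply mk_eq_of_mul_sub_mem hπ2
  have e : Classical.choose (exists_mul_sub_mem hπ (inertia_smul_mem σ.2 (unif_mem hπ))) * π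
      - c * π = ((σ : G) • π - c * π) - ((σ : G) • π -
        Classical.choose (exists_mul_sub_mem hπ (inertia_smul_mem σ.2 (unif_mem hπ))) * π) := by
    ring
  rw [e]
  exact Ideal.sub_mem _ hc h

theorem thetaAux_one [m.IsMaximal] (hπ2 : π ∉ m ^ 2) :
    thetaAux hπ (1 : m.inertia G) = 1 := by
  rw [thetaAux_eq hπ hπ2 1 1 (by simp)]
  rfl

theorem thetaAux_mul [m.IsMaximal] (hπ2 : π ∉ m ^ 2) (σ τ : m.inertia G) :
    thetaAux hπ (σ * τ) = thetaAux hπ σ * thetaAux hπ τ := by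
  obtain ⟨c, hc⟩ := exists_mul_sub_mem hπ (inertia_smul_mem σ.2 (unif_mem hπ))
  obtain ⟨d, hd⟩ := exists_mul_sub_mem hπ (inertia_smul_mem τ.2 (unif_mem hπ))
  rw [thetaAux_eq hπ hπ2 σ c hc, thetaAux_eq hπ hπ2 τ d hd, ← map_mul]
  apply thetaAux_eq hπ hπ2
  have hσ1 : Triv m (σ : G) 1 := fun x => by rw [pow_one]; exact σ.2 x
  have e : ((σ * τ : m.inertia G) : G) • π - c * d * π =
      (σ : G) • ((τ : G) • π - d * π) + ((σ : G) • d - d) * ((σ : G) • π)
        + d * ((σ : G) • π - c * π) := by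
    rw [Subgroup.coe_mul, mul_smul, smul_sub, smul_mul']
    ring
  rw [e]
  refine Ideal.add_mem _ (Ideal.add_mem _ (hσ1.smul_mem hd) ?_) (Ideal.mul_mem_left _ _ hc)
  rw [pow_two]
  exact Ideal.mul_mem_mul (σ.2 d) (inertia_smul_mem σ.2 (unif_mem hπ))

/-- the tame character. -/
noncomputable def theta [m.IsMaximal] (hπ2 : π ∉ m ^ 2) : m.inertia G →* (B ⧸ m)ˣ :=
  MonoidHom.toHomUnits
    { toFun := thetaAux hπ
      map_one' := thetaAux_one hπ hπ2
      map_mul' := thetaAux_mul hπ hπ2 }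

theorem theta_eq [m.IsMaximal] (hπ2 : π ∉ m ^ 2) (σ : m.inertia G) (c : B)
    (hc : (σ : G) • π - c * π ∈ m ^ 2) :
    ((theta hπ hπ2 σ : (B ⧸ m)ˣ) : B ⧸ m) = Ideal.Quotient.mk m c := by
  rw [theta, MonoidHom.coe_toHomUnits]
  exact thetaAux_eq hπ hπ2 σ c hc

theorem theta_eq_one_iff [m.IsMaximal] (hπ2 : π ∉ m ^ 2) (σ : m.inertia G) :
    theta hπ hπ2 σ = 1 ↔ (σ : G) • π - π ∈ m ^ 2 := by
  obtain ⟨c, hc⟩ := exists_mul_sub_mem hπ (inertia_smul_mem σ.2 (unif_mem hπ))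
  rw [← Units.val_inj, theta_eq hπ hπ2 σ c hc, Units.val_one]
  constructor
  · intro h
    have h1 : c - 1 ∈ m := by
      rw [← Ideal.Quotient.eq]; simpa using h
    have e : (σ : G) • π - π = ((σ : G) • π - c * π) + (c - 1) * π := by ring
    rw [e]
    refine Ideal.add_mem _ hc ?_
    rw [pow_two]
    exact Ideal.mul_mem_mul h1 (unif_mem hπ)
  · intro h
    have : Ideal.Quotient.mk m c = Ideal.Quotient.mk m 1 := by
      apply mk_eq_of_mul_sub_mem hπ2
      have e : c * π - 1 * π = ((σ : G) • π - π) - ((σ : G) • π - c * π) := by ring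
      rw [e]
      exact Ideal.sub_mem _ h hc
    simpa using this

end theta

end Groth.Agent.H1.Ram
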