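/-
helper1: decomposition / inertia / wild inertia for a finite group acting on a Dedekind domain.
-/
import Groth.Agent.H1.RamTheta
import Groth.Agent.H1.RamCard
import Groth.Agent.H1.RamTameQuot

set_option autoImplicit false

open scoped Pointwise
open Polynomial

namespace Groth.Agent.H1.Ram

universe u v w

variable {B : Type u} [CommRing B] {G : Type v} [Group G] [MulSemiringAction G B]

/-- the wild inertia group (in the separable residue field case). -/
abbrev wildGrp (G : Type v) [Group G] [MulSemiringAction G B] (m : Ideal B) : Subgroup G :=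
  MulAction.stabilizer G m ⊓ (m ^ 2).inertia G

theorem wildGrp_le_inertia (m : Ideal B) : wildGrp G m ≤ m.inertia G :=
  fun _ hσ x => Ideal.pow_le_self two_ne_zero (hσ.2 x)

theorem mem_wildGrp_iff {m : Ideal B} {σ : G} : σ ∈ wildGrp G m ↔ Triv m σ 2 := by
  constructor
  · exact fun h => h.2
  · intro h
    refine ⟨?_, h⟩
    exact Ideal.inertia_le_stabilizer m (fun x => Ideal.pow_le_self two_ne_zero (h x))

theorem wildGrp_normal (m : Ideal B) :
    ((wildGrp G m).subgroupOf (MulAction.stabilizer G m)).Normal := by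
  refine (Subgroup.normal_subgroupOf_iff inf_le_left).mpr fun g s hg hs => ?_
  rw [mem_wildGrp_iff] at hg ⊢
  intro x
  have hs' : s⁻¹ • m = m := Subgroup.inv_mem _ hs
  have hs2 : s⁻¹ • (m ^ 2) = m ^ 2 := by rw [smul_pow', hs']
  rw [← Ideal.smul_mem_pointwise_smul_iff (a := s⁻¹), smul_sub,
    smul_smul, ← mul_assoc, inv_mul_cancel_left, mul_smul, hs2]
  exact hg (s⁻¹ • x)

section pgroup

variable [IsNoetherianRing B] [IsDomain B] [FaithfulSMul G B] [Finite G] (m : Ideal B)
  [m.IsMaximal]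

theorem isPGroup_wildGrp (p : ℕ) [Fact p.Prime] [CharP (B ⧸ m) p] : IsPGroup p (wildGrp G m) := by
  rintro ⟨τ, hτ⟩
  have hn : orderOf τ ≠ 0 := (orderOf_pos τ).ne'
  obtain ⟨k, N, hN, hk⟩ := Nat.exists_eq_pow_mul_and_not_dvd hn p (Fact.out : p.Prime).ne_one
  refine ⟨k, ?_⟩
  apply Subtype.ext
  rw [Subgroup.coe_pow, Subgroup.coe_one]
  have h2 : Triv m (τ ^ p ^ k) 2 := (mem_wildGrp_iff.mp hτ).pow _
  refine eq_one_of_triv_two h2 N ?_ ?_
  · rw [← pow_mul, ← hk, pow_orderOf_eq_one]
  · intro hmem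
    have : ((N : ℕ) : B ⧸ m) = 0 := by
      rw [← map_natCast (Ideal.Quotient.mk m)]
      exact Ideal.Quotient.eq_zero_iff_mem.mpr hmem
    exact hN ((CharP.cast_eq_zero_iff (B ⧸ m) p N).mp this)

theorem wildGrp_eq_bot [CharZero (B ⧸ m)] : wildGrp G m = ⊥ := by
  rw [eq_bot_iff]
  intro τ hτ
  rw [Subgroup.mem_bot]
  refine eq_one_of_triv_two (mem_wildGrp_iff.mp hτ) (orderOf τ) (pow_orderOf_eq_one τ) ?_
  intro hmem
  have : ((orderOf τ : ℕ) : B ⧸ m) = 0 := by
    rw [← map_natCast (Ideal.Quotient.mk m)]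
    exact Ideal.Quotient.eq_zero_iff_mem.mpr hmem
  exact (orderOf_pos τ).ne' (Nat.cast_eq_zero.mp this)

end pgroup

section sep

variable {A : Type w} [CommRing A] [Algebra A B] (m : Ideal B) [m.IsMaximal]
  [Algebra.IsSeparable (A ⧸ m.comap (algebraMap A B)) (B ⧸ m)]

/-- lifting separable minimal polynomials. -/
theorem exists_sep_poly (x : B) :
    ∃ f : A[X], aeval x f ∈ m ∧ aeval x (derivative f) ∉ m := by
  set p := m.comap (algebraMap A B) with hp
  have hsep : IsSeparable (A ⧸ p) (Ideal.Quotient.mk m x) := Algebra.IsSeparable.isSeparable _ _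
  obtain ⟨f, hf⟩ := Polynomial.map_surjective _ (Ideal.Quotient.mk_surjective (I := p))
    (minpoly (A ⧸ p) (Ideal.Quotient.mk m x))
  have key : ∀ g : A[X], Ideal.Quotient.mk m (aeval x g) =
      aeval (Ideal.Quotient.mk m x) (g.map (Ideal.Quotient.mk p)) := by
    intro g
    have h1 : aeval (Ideal.Quotient.mk m x) (g.map (algebraMap A (A ⧸ p))) =
        aeval (Ideal.Quotient.mk m x) g := aeval_map_algebraMap _ _ _
    have h2 : aeval (Ideal.Quotient.mkₐ A m x) g = Ideal.Quotient.mkₐ A m (aeval x g) :=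
      aeval_algHom_apply _ _ _
    exact h2.symm.trans h1.symm
  refine ⟨f, ?_, ?_⟩
  · rw [← Ideal.Quotient.eq_zero_iff_mem, key, hf, minpoly.aeval]
  · rw [← Ideal.Quotient.eq_zero_iff_mem, key, ← derivative_map, hf]
    exact hsep.aeval_derivative_ne_zero (minpoly.aeval _ _)

end sep

end Groth.Agent.H1.Ram
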