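/-
helper1: assembly — structure of the tame quotient `I / P`.
-/
import Groth.Agent.H1.RamMain

set_option autoImplicit false

open scoped Pointwise
open Polynomial

namespace Groth.Agent.H1.Ram

universe u v w

section generic

variable {H : Type*} [Group H] [Finite H] {k : Type*} [CommRing k] [IsDomain k]

theorem tame_of_ker_eq (θ : H →* kˣ) (N : Subgroup H) [N.Normal] (hN : θ.ker = N) :
    IsCyclic (H ⧸ N) ∧
    (∀ p : ℕ, p.Prime → CharP k p → IsPGroup p N →
      Nat.card (H ⧸ N) = Nat.card H / p ^ (Nat.card H).factorization p ∧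
      Nonempty (H ⧸ N ≃* rootsOfUnity (Nat.card H) k)) ∧
    (N = ⊥ → Nat.card (H ⧸ N) = Nat.card H ∧
      Nonempty (H ⧸ N ≃* rootsOfUnity (Nat.card H) k)) := by
  subst hN
  refine ⟨isCyclic_quot_ker θ, ?_, ?_⟩
  · intro p hp hchar hpg
    have : Fact p.Prime := ⟨hp⟩
    exact ⟨card_quot_ker_of_charP θ p hpg,
      nonempty_quot_mulEquiv_of_card_le θ (card_rootsOfUnity_le_of_charP θ p hpg)⟩
  · intro hbot
    exact ⟨card_quot_ker_of_ker_eq_bot θ hbot,
      nonempty_quot_mulEquiv_of_card_le θ (card_rootsOfUnity_le_of_ker_eq_bot θ hbot)⟩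

end generic

section main

variable {A : Type w} [CommRing A] [IsDomain A] {B : Type u} [CommRing B] [IsDedekindDomain B]
  [Algebra A B] [Module.Finite A B] [Module.Flat A B] [Module.IsTorsionFree A B]
  {G : Type v} [Group G] [Finite G] [MulSemiringAction G B] [IsGaloisGroup G A B]
  (m : Ideal B) [m.IsMaximal] [(m.comap (algebraMap A B)).IsMaximal]
  [Algebra.IsSeparable (A ⧸ m.comap (algebraMap A B)) (B ⧸ m)]

omit [Module.Finite A B] [Module.Flat A B] [Module.IsTorsionFree A B]
  [(m.comap (algebraMap A B)).IsMaximal]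
  [Algebra.IsSeparable (A ⧸ m.comap (algebraMap A B)) (B ⧸ m)] [IsDomain A] in
theorem exists_unif (hm : m ≠ ⊥) : ∃ π : B, Ideal.span {π} ⊔ m ^ 2 = m ∧ π ∉ m ^ 2 := by
  obtain ⟨π, hπ1, hπ2⟩ := Ideal.exists_mem_pow_notMem_pow_succ m hm
    (Ideal.IsMaximal.ne_top inferInstance) 1
  rw [pow_one] at hπ1
  refine ⟨π, ?_, hπ2⟩
  have hle : Ideal.span {π} ⊔ m ^ 2 ≤ m ^ 1 := by
    rw [pow_one]
    exact sup_le ((Ideal.span_singleton_le_iff_mem _).mpr hπ1) (Ideal.pow_le_self two_ne_zero)
  have hlt : m ^ (1 + 1) < Ideal.span {π} ⊔ m ^ 2 := by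
    refine lt_of_le_of_ne le_sup_right ?_
    intro h
    apply hπ2
    have : π ∈ Ideal.span {π} ⊔ m ^ 2 := Ideal.mem_sup_left (Ideal.subset_span rfl)
    rw [← h] at this
    exact this
  have := Ideal.eq_prime_pow_of_succ_lt_of_le hm hlt hle
  rw [this, pow_one]

theorem card_inertia_eq (hp0 : m.comap (algebraMap A B) ≠ ⊥) :
    Nat.card (m.inertia G) = Ideal.ramificationIdx' (m.comap (algebraMap A B)) m := by
  rw [card_inertia_eq_ramificationIdxIn_of_isSeparable (G := G) (m.comap (algebraMap A B)) m,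
    Ideal.ramificationIdxIn_eq_ramificationIdx (m.comap (algebraMap A B)) m G,
    Ideal.ramificationIdx'_eq_ramificationIdx (m.comap (algebraMap A B)) m hp0]

include A in
omit [Module.Finite A B] [Module.Flat A B] [Module.IsTorsionFree A B]
  [(m.comap (algebraMap A B)).IsMaximal] [IsDomain A] [Finite G] [IsDedekindDomain B] in
theorem ker_theta {π : B} (hπ : Ideal.span {π} ⊔ m ^ 2 = m) (hπ2 : π ∉ m ^ 2) :
    (theta (G := G) hπ hπ2).ker = (wildGrp G m).subgroupOf (m.inertia G) := by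
  have hcomm : SMulCommClass G A B := IsGaloisGroup.commutes
  ext σ
  rw [MonoidHom.mem_ker, theta_eq_one_iff, Subgroup.mem_subgroupOf, mem_wildGrp_iff]
  constructor
  · intro h
    exact triv_of_unif (A := A) (exists_sep_poly m) hπ
      (fun x => by rw [pow_one]; exact σ.2 x) 2 h
  · intro h
    exact h π

end main

end Groth.Agent.H1.Ram
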