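import Mathlib
import Groth.Agent.H1.BrIndex
import Groth.Agent.H1.CSASepClosed

/-!
Brauer groups along separable algebraic extensions: a tower lemma for splitting and a descent of a
finite-dimensional algebra to a finitely generated subfield.
-/

set_option autoImplicit false
set_option linter.style.haveILetI false
set_option linter.unusedSectionVars false
set_option linter.unusedVariables false

open scoped TensorProduct

namespace Groth.Agent.H1

universe u v w x

section tower

/-- the `M`-algebra isomorphism `M ⊗[F] M_r(F) ≃ M_r(M)`. -/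
noncomputable def matrixBaseChangeEquiv (F : Type u) (M : Type v) [Field F] [Field M] [Algebra F M]
    (r : ℕ) : M ⊗[F] Matrix (Fin r) (Fin r) F ≃ₐ[M] Matrix (Fin r) (Fin r) M :=
  AlgEquiv.ofRingEquiv (f := (matrixEquivTensor (Fin r) F M).symm.toRingEquiv) (by
    intro m
    rw [Algebra.TensorProduct.algebraMap_apply]
    change (matrixEquivTensor (Fin r) F M).symm (_ ⊗ₜ[F] (1 : Matrix (Fin r) (Fin r) F)) = _
    rw [matrixEquivTensor_apply_symm]
    simp [Algebra.algebraMap_eq_smul_one])

/-- if `F'` splits `D` then so does every field containing `F'`. -/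
theorem nonempty_matrix_of_tower (E : Type u) (F' : Type v) (M : Type w) [Field E] [Field F']
    [Field M] [Algebra E F'] [Algebra F' M] [Algebra E M] [IsScalarTower E F' M]
    (D : Type x) [Ring D] [Algebra E D] (r : ℕ)
    (φ : F' ⊗[E] D ≃ₐ[F'] Matrix (Fin r) (Fin r) F') :
    Nonempty (M ⊗[E] D ≃ₐ[M] Matrix (Fin r) (Fin r) M) := by
  let e1 : M ⊗[E] D ≃ₐ[M] M ⊗[F'] (F' ⊗[E] D) := cancelBaseChangeEquiv E F' M D
  let e2 : M ⊗[F'] (F' ⊗[E] D) ≃ₐ[M] M ⊗[F'] Matrix (Fin r) (Fin r) F' :=
    Algebra.TensorProduct.congr AlgEquiv.refl φ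
  exact ⟨(e1.trans e2).trans (matrixBaseChangeEquiv F' M r)⟩

end tower




theorem sepAlg_forward (K F : Type u) [Field K] [Field F] [Algebra K F] [Algebra.IsSeparable K F]
    (ha : ∀ (F' : Type u) [Field F'] [Algebra F F'] [FiniteDimensional F F'] [Algebra.IsSeparable F F']
        (D : Type u) [DivisionRing D] [Algebra F' D] [Algebra.IsCentral F' D] [FiniteDimensional F' D],
        Module.finrank F' D = 1)
    (E : Type u) [Field E] [Algebra K E] [FiniteDimensional K E] [Algebra.IsSeparable K E]
    (D : Type u) [DivisionRing D] [Algebra E D] [Algebra.IsCentral E D] [FiniteDimensional E D]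
    (M : Type u) [Field M] [Algebra K M] [Algebra E M] [Algebra F M] [IsScalarTower K E M]
    [IsScalarTower K F M] :
    ∃ n : ℕ, Nonempty ((M ⊗[E] D) ≃ₐ[M] Matrix (Fin n) (Fin n) M) := by
  classical
  let b := Module.finBasis K E
  let S : Set M := Set.range (fun i => algebraMap E M (b i))
  have hSfin : Finite S := Set.finite_range _
  let F' : IntermediateField F M := IntermediateField.adjoin F S
  -- elements of S are integral and separable over F
  have hSsep : ∀ x ∈ S, IsSeparable F x := by
    rintro x ⟨i, rfl⟩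
    have h1 : IsSeparable K (b i) := Algebra.IsSeparable.isSeparable K (b i)
    have h2 : IsSeparable K (algebraMap E M (b i)) :=
      h1.map (IsScalarTower.toAlgHom K E M) (algebraMap E M).injective
    exact h2.tower_top F
  have hfd : FiniteDimensional F F' :=
    IntermediateField.finiteDimensional_adjoin (fun x hx => (hSsep x hx).isIntegral)
  have hsep : Algebra.IsSeparable F F' :=
    (IntermediateField.isSeparable_adjoin_iff_isSeparable F M).mpr hSsep
  -- E maps into F'
  have hmem : ∀ e : E, algebraMap E M e ∈ F' := by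
    intro e
    have h1 : e = ∑ i, b.repr e i • b i := (b.sum_repr e).symm
    rw [h1, map_sum]
    refine sum_mem (fun i _ => ?_)
    rw [Algebra.smul_def, map_mul]
    refine mul_mem ?_ (IntermediateField.subset_adjoin F S ⟨i, rfl⟩)
    rw [← IsScalarTower.algebraMap_apply K E M, IsScalarTower.algebraMap_apply K F M]
    exact F'.algebraMap_mem _
  let algEF' : Algebra E F' := ((algebraMap E M).codRestrict F' hmem).toAlgebra
  have : IsScalarTower E F' M := IsScalarTower.of_algebraMap_eq (fun _ => rfl)
  -- base change to F'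
  obtain ⟨hc, hs, hf⟩ := csa_baseChange E F' D
  obtain ⟨D₀, _, _, _, _, m, hm, ⟨φ⟩⟩ := exists_division_of_csa F' (F' ⊗[E] D)
  have h1 : Module.finrank F' D₀ = 1 := ha F' D₀
  have hbij : Function.Bijective (algebraMap F' D₀) := by
    refine ⟨(algebraMap F' D₀).injective, ?_⟩
    have h2 : (⊥ : Subalgebra F' D₀) = ⊤ := Subalgebra.bot_eq_top_of_finrank_eq_one h1
    intro d
    have h3 : d ∈ (⊥ : Subalgebra F' D₀) := h2 ▸ Algebra.mem_top
    exact Algebra.mem_bot.mp h3
  let ψ : F' ≃ₐ[F'] D₀ := AlgEquiv.ofBijective (Algebra.ofId F' D₀) hbij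
  let φ' : F' ⊗[E] D ≃ₐ[F'] Matrix (Fin m) (Fin m) F' := φ.trans (AlgEquiv.mapMatrix ψ.symm)
  exact ⟨m, nonempty_matrix_of_tower E F' M D m φ'⟩





section descentField

variable {F' : Type u} [Field F'] {D : Type v} [Ring D] [Algebra F' D]
  {ι : Type*} [Fintype ι] [DecidableEq ι] (b : Module.Basis ι F' D)
  {K : Type*} [Field K] [Algebra K F'] (E₀ : IntermediateField K F')

/-- the `E₀`-span of a basis, when it contains the structure constants, is a subalgebra. -/
def spanSubalgebra (h1 : ∀ l, b.repr 1 l ∈ E₀) (hc : ∀ i j l, b.repr (b i * b j) l ∈ E₀) :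
    Subalgebra E₀ D :=
  (Submodule.span E₀ (Set.range b)).toSubalgebra
    (by
      have h : (1 : D) = ∑ l, (⟨b.repr 1 l, h1 l⟩ : E₀) • b l := by
        conv_lhs => rw [← b.sum_repr 1]
        rfl
      rw [h]
      exact sum_mem (fun l _ => Submodule.smul_mem _ _ (Submodule.subset_span ⟨l, rfl⟩)))
    (by
      intro x y hx hy
      induction hx, hy using Submodule.span_induction₂ with
      | mem_mem x y hx hy =>
        obtain ⟨i, rfl⟩ := hx
        obtain ⟨j, rfl⟩ := hy
        have h : b i * b j = ∑ l, (⟨b.repr (b i * b j) l, hc i j l⟩ : E₀) • b l := by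
          conv_lhs => rw [← b.sum_repr (b i * b j)]
          rfl
        rw [h]
        exact sum_mem (fun l _ => Submodule.smul_mem _ _ (Submodule.subset_span ⟨l, rfl⟩))
      | zero_left y _ => rw [zero_mul]; exact zero_mem _
      | zero_right x _ => rw [mul_zero]; exact zero_mem _
      | add_left x y z _ _ _ hx hy => rw [add_mul]; exact add_mem hx hy
      | add_right x y z _ _ _ hx hy => rw [mul_add]; exact add_mem hx hy
      | smul_left r x y _ _ h => rw [smul_mul_assoc]; exact Submodule.smul_mem _ _ h
      | smul_right r x y _ _ h => rw [mul_smul_comm]; exact Submodule.smul_mem _ _ h)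

variable (h1 : ∀ l, b.repr 1 l ∈ E₀) (hc : ∀ i j l, b.repr (b i * b j) l ∈ E₀)

theorem linearIndependent_restrict_intermediate : LinearIndependent E₀ b := by
  refine b.linearIndependent.restrict_scalars (R := E₀) (K := F') ?_
  intro x y hxy
  simp only [Algebra.smul_def, mul_one] at hxy
  exact (algebraMap E₀ F').injective hxy

/-- the basis `b`, as an `E₀`-basis of the span subalgebra. -/
noncomputable def spanBasis : Module.Basis ι E₀ (spanSubalgebra b E₀ h1 hc) :=
  Module.Basis.mk (v := fun i => (⟨b i, Submodule.subset_span ⟨i, rfl⟩⟩ : spanSubalgebra b E₀ h1 hc))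
    (LinearIndependent.of_comp (spanSubalgebra b E₀ h1 hc).val.toLinearMap
      (linearIndependent_restrict_intermediate b E₀))
    (by
      have key : ∀ x (hx : x ∈ Submodule.span E₀ (Set.range b)),
          (⟨x, hx⟩ : spanSubalgebra b E₀ h1 hc) ∈ Submodule.span E₀ (Set.range
            (fun i => (⟨b i, Submodule.subset_span ⟨i, rfl⟩⟩ : spanSubalgebra b E₀ h1 hc))) := by
        intro x hx
        induction hx using Submodule.span_induction with
        | mem x hx =>
          obtain ⟨i, rfl⟩ := hx
          exact Submodule.subset_span ⟨i, rfl⟩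
        | zero => exact zero_mem _
        | add x y hx hy ihx ihy => exact add_mem ihx ihy
        | smul r x hx ihx => exact Submodule.smul_mem _ r ihx
      rintro ⟨x, hx⟩ -
      exact key x hx)

theorem spanBasis_apply (i : ι) : (spanBasis b E₀ h1 hc i : D) = b i := by
  simp [spanBasis]

/-- the multiplication map `F' ⊗[E₀] D₁ → D`. -/
noncomputable def spanTensorHom : F' ⊗[E₀] (spanSubalgebra b E₀ h1 hc) →ₐ[F'] D :=
  Algebra.TensorProduct.lift (Algebra.ofId F' D) (spanSubalgebra b E₀ h1 hc).val
    (fun x y => Algebra.commutes x _)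

theorem spanTensorHom_bijective : Function.Bijective (spanTensorHom b E₀ h1 hc) := by
  let B := Algebra.TensorProduct.basis F' (spanBasis b E₀ h1 hc)
  let e : F' ⊗[E₀] (spanSubalgebra b E₀ h1 hc) ≃ₗ[F'] D := B.equiv b (Equiv.refl ι)
  have h : (spanTensorHom b E₀ h1 hc).toLinearMap = e.toLinearMap := by
    refine B.ext (fun i => ?_)
    rw [LinearEquiv.coe_coe, Module.Basis.equiv_apply, Equiv.refl_apply, AlgHom.toLinearMap_apply,
      Algebra.TensorProduct.basis_apply]
    simp [spanTensorHom, spanBasis_apply]
  have h' : ⇑(spanTensorHom b E₀ h1 hc) = ⇑e := by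
    ext x
    exact LinearMap.congr_fun h x
  rw [h']
  exact e.bijective

end descentField

section backward


theorem finrank_eq_one_of_division_algEquiv_matrix {F' : Type u} [Field F'] {D : Type v}
    [DivisionRing D] [Algebra F' D] (n : ℕ) (e : D ≃ₐ[F'] Matrix (Fin n) (Fin n) F') :
    Module.finrank F' D = 1 := by
  have hn : n = 1 := by
    rcases Nat.lt_or_ge n 2 with h | h
    · interval_cases n
      · exfalso
        have : (1 : D) = 0 := e.injective (Subsingleton.elim _ _)
        exact one_ne_zero this
      · rfl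
    · exfalso
      let i0 : Fin n := ⟨0, by omega⟩
      let i1 : Fin n := ⟨1, by omega⟩
      have hne : i0 ≠ i1 := by
        intro h'
        have := congrArg Fin.val h'
        simp [i0, i1] at this
      let x : D := e.symm (Matrix.single i0 i0 1)
      let y : D := e.symm (Matrix.single i1 i1 1)
      have hxy : x * y = 0 := by
        apply e.injective
        rw [map_mul, map_zero, AlgEquiv.apply_symm_apply, AlgEquiv.apply_symm_apply,
          Matrix.single_mul_single_of_ne _ _ _ _ hne]
      have hx : x ≠ 0 := by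
        intro h0
        have h1 : e x = 0 := by rw [h0, map_zero]
        rw [AlgEquiv.apply_symm_apply] at h1
        have := congrFun (congrFun h1 i0) i0
        simp at this
      have hy : y ≠ 0 := by
        intro h0
        have h1 : e y = 0 := by rw [h0, map_zero]
        rw [AlgEquiv.apply_symm_apply] at h1
        have := congrFun (congrFun h1 i1) i1
        simp at this
      exact mul_ne_zero hx hy hxy
  subst hn
  rw [e.toLinearEquiv.finrank_eq, Module.finrank_matrix]
  simp

theorem sepAlg_backward (K F : Type u) [Field K] [Field F] [Algebra K F] [Algebra.IsSeparable K F]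
    (hb : ∀ (E : Type u) [Field E] [Algebra K E] [FiniteDimensional K E] [Algebra.IsSeparable K E]
        (D : Type u) [DivisionRing D] [Algebra E D] [Algebra.IsCentral E D] [FiniteDimensional E D]
        (M : Type u) [Field M] [Algebra K M] [Algebra E M] [Algebra F M] [IsScalarTower K E M]
        [IsScalarTower K F M],
        ∃ n : ℕ, Nonempty ((M ⊗[E] D) ≃ₐ[M] Matrix (Fin n) (Fin n) M))
    (F' : Type u) [Field F'] [Algebra F F'] [FiniteDimensional F F'] [Algebra.IsSeparable F F']
    (D : Type u) [DivisionRing D] [Algebra F' D] [Algebra.IsCentral F' D] [FiniteDimensional F' D] :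
    Module.finrank F' D = 1 := by
  classical
  letI : Algebra K F' := ((algebraMap F F').comp (algebraMap K F)).toAlgebra
  haveI : IsScalarTower K F F' := IsScalarTower.of_algebraMap_eq (fun _ => rfl)
  haveI : Algebra.IsSeparable K F' := Algebra.IsSeparable.trans K F F'
  let b := Module.finBasis F' D
  let ι := Fin (Module.finrank F' D)
  let S : Set F' := (Set.range fun p : ι × ι × ι => b.repr (b p.1 * b p.2.1) p.2.2) ∪
    Set.range fun l : ι => b.repr 1 l
  have hSfin : Finite S := (Set.finite_range _).union (Set.finite_range _)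
  let E₀ : IntermediateField K F' := IntermediateField.adjoin K S
  have hfd : FiniteDimensional K E₀ :=
    IntermediateField.finiteDimensional_adjoin
      (fun x _ => (Algebra.IsSeparable.isSeparable K x).isIntegral)
  have hsep : Algebra.IsSeparable K E₀ := Algebra.isSeparable_tower_bot_of_isSeparable K E₀ F'
  have h1 : ∀ l, b.repr 1 l ∈ E₀ := fun l =>
    IntermediateField.subset_adjoin K S (Or.inr ⟨l, rfl⟩)
  have hc : ∀ i j l, b.repr (b i * b j) l ∈ E₀ := fun i j l =>
    IntermediateField.subset_adjoin K S (Or.inl ⟨(i, j, l), rfl⟩)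
  let D₁ := spanSubalgebra b E₀ h1 hc
  let μ : F' ⊗[E₀] D₁ ≃ₐ[F'] D :=
    AlgEquiv.ofBijective (spanTensorHom b E₀ h1 hc) (spanTensorHom_bijective b E₀ h1 hc)
  haveI : FiniteDimensional E₀ D₁ := Module.Finite.of_basis (spanBasis b E₀ h1 hc)
  haveI : Algebra.IsCentral F' (F' ⊗[E₀] D₁) := isCentral_of_algEquiv μ.symm
  haveI : Algebra.IsCentral E₀ D₁ := isCentral_of_baseChange (K := F')
  letI : DivisionRing D₁ := divisionRingOfFiniteDimensional E₀ D₁
  obtain ⟨n, ⟨φ⟩⟩ := hb E₀ D₁ F'
  exact finrank_eq_one_of_division_algEquiv_matrix n (μ.symm.trans φ)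

end backward


end Groth.Agent.H1
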