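import Mathlib

/-!
Tame inertia for a finite group acting on a local ring: characters `χ_b : Γ → k`, the wild
subgroup `W = ⋂ ker χ_b` is a `p`-group of index prime to `p`.
-/

set_option autoImplicit false
set_option linter.unusedSectionVars false
set_option linter.unusedVariables false
set_option linter.style.haveILetI false

open IsLocalRing

namespace Groth.Agent.H1.Tame

universe u v

section prod

variable {B : Type u} [CommRing B]

/-- `∏ (1 + x w_j) = 1 + x (∑ w_j + x t)`. -/
theorem exists_prod_one_add (x : B) (w : ℕ → B) (N : ℕ) :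
    ∃ t : B, ∏ j ∈ Finset.range N, (1 + x * w j) = 1 + x * (∑ j ∈ Finset.range N, w j + x * t) := by
  induction N with
  | zero => exact ⟨0, by simp⟩
  | succ N ih =>
    obtain ⟨t, ht⟩ := ih
    refine ⟨t + w N * (∑ j ∈ Finset.range N, w j + x * t), ?_⟩
    rw [Finset.prod_range_succ, Finset.sum_range_succ, ht]
    ring

end prod

variable {B : Type u} [CommRing B] [IsLocalRing B] {Γ : Type v} [Group Γ]
  [MulSemiringAction Γ B]

section basic

variable (hin : ∀ (γ : Γ) (b : B), γ • b - b ∈ maximalIdeal B)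

include hin in
theorem smul_mem_maximalIdeal (γ : Γ) {x : B} (hx : x ∈ maximalIdeal B) :
    γ • x ∈ maximalIdeal B := by
  have : γ • x = (γ • x - x) + x := by ring
  rw [this]
  exact add_mem (hin γ x) hx

include hin in
theorem residue_smul (γ : Γ) (x : B) : residue B (γ • x) = residue B x := by
  have h := hin γ x
  rw [← Ideal.Quotient.eq_zero_iff_mem, map_sub, sub_eq_zero] at h
  exact h

/-- iterating `γ • b = b * c`. -/
theorem pow_smul_eq (γ : Γ) (b c : B) (h : γ • b = b * c) (N : ℕ) :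
    γ ^ N • b = b * ∏ j ∈ Finset.range N, γ ^ j • c := by
  induction N with
  | zero => simp
  | succ N ih =>
    rw [pow_succ, mul_smul, h, smul_mul', ih, Finset.prod_range_succ, mul_assoc]

theorem eq_zero_of_mul_eq_zero_of_notMem {b t : B} (h : b * t = 0) (ht : t ∉ maximalIdeal B) :
    b = 0 := by
  have hu : IsUnit t := by
    by_contra hn
    exact ht ((mem_maximalIdeal t).mpr hn)
  exact (hu.mul_left_eq_zero).mp h

end basic

section wild

variable (Γ B) in
/-- the wild subgroup, as a set. -/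
def wildSet : Set Γ := {γ | ∀ b : B, ∃ x ∈ maximalIdeal B, γ • b = b + b * x}

variable (hin : ∀ (γ : Γ) (b : B), γ • b - b ∈ maximalIdeal B)

include hin in
theorem wild_mul {γ δ : Γ} (hγ : γ ∈ wildSet B Γ) (hδ : δ ∈ wildSet B Γ) :
    γ * δ ∈ wildSet B Γ := by
  intro b
  obtain ⟨x, hx, h1⟩ := hδ b
  obtain ⟨x', hx', h2⟩ := hγ b
  refine ⟨x' + γ • x + x' * γ • x, ?_, ?_⟩
  · exact add_mem (add_mem hx' (smul_mem_maximalIdeal hin γ hx))
      (Ideal.mul_mem_left _ _ (smul_mem_maximalIdeal hin γ hx))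
  · rw [mul_smul, h1, smul_add, smul_mul', h2]
    ring

theorem wild_one : (1 : Γ) ∈ wildSet B Γ := fun b => ⟨0, zero_mem _, by simp⟩

include hin in
theorem wild_pow {γ : Γ} (hγ : γ ∈ wildSet B Γ) (n : ℕ) : γ ^ n ∈ wildSet B Γ := by
  induction n with
  | zero => rw [pow_zero]; exact wild_one
  | succ n ih => rw [pow_succ]; exact wild_mul hin ih hγ

include hin in
/-- key lemma: a wild element whose order is invertible in `B` acts trivially. -/
theorem smul_eq_of_wild_of_pow_eq_one {γ : Γ} (hγ : γ ∈ wildSet B Γ) (N : ℕ)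
    (hN : γ ^ N = 1) (hunit : (N : B) ∉ maximalIdeal B) (b : B) : γ • b = b := by
  classical
  obtain ⟨x, hx, h1⟩ := hγ b
  have h1' : γ • b = b * (1 + x) := by rw [h1]; ring
  have h2 := pow_smul_eq γ b (1 + x) h1' N
  rw [hN, one_smul] at h2
  -- γ^j • x = x * w_j
  have hw : ∀ j : ℕ, ∃ y ∈ maximalIdeal B, γ ^ j • x = x + x * y := fun j => wild_pow hin hγ j x
  choose y hy hyx using hw
  have h3 : ∀ j ∈ Finset.range N, γ ^ j • (1 + x) = 1 + x * (1 + y j) := by
    intro j _
    rw [smul_add, smul_one, hyx j]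
    ring
  rw [Finset.prod_congr rfl h3] at h2
  obtain ⟨t, ht⟩ := exists_prod_one_add x (fun j => 1 + y j) N
  rw [ht] at h2
  have h4 : ∑ j ∈ Finset.range N, (1 + y j) = (N : B) + ∑ j ∈ Finset.range N, y j := by
    rw [Finset.sum_add_distrib]
    simp
  rw [h4] at h2
  set v : B := (N : B) + ∑ j ∈ Finset.range N, y j + x * t with hv
  have hvm : v ∉ maximalIdeal B := by
    intro hmem
    apply hunit
    have : (N : B) = v - (∑ j ∈ Finset.range N, y j + x * t) := by rw [hv]; ring
    rw [this]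
    exact sub_mem hmem (add_mem (sum_mem (fun j _ => hy j)) (Ideal.mul_mem_right _ _ hx))
  have h5 : (b * x) * v = 0 := by
    have : b * (1 + x * v) = b + b * x * v := by ring
    rw [this] at h2
    have h6 : b * x * v = (b + b * x * v) - b := by ring
    rw [h6, ← h2, sub_self]
  have h6 : b * x = 0 := eq_zero_of_mul_eq_zero_of_notMem h5 hvm
  rw [h1, h6, add_zero]

end wild

section chars

variable (hin : ∀ (γ : Γ) (b : B), γ • b - b ∈ maximalIdeal B)
  (hst : ∀ (γ : Γ) (b : B), ∃ u : B, γ • b = b * u)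

theorem residue_eq_of_mul_eq {b u u' : B} (hb : b ≠ 0) (h : b * u = b * u') :
    residue B u = residue B u' := by
  have h1 : b * (u - u') = 0 := by rw [mul_sub, h, sub_self]
  have h2 : u - u' ∈ maximalIdeal B := by
    by_contra hn
    exact hb (eq_zero_of_mul_eq_zero_of_notMem h1 hn)
  rw [← sub_eq_zero, ← map_sub]
  exact (Ideal.Quotient.eq_zero_iff_mem).mpr h2

/-- the character attached to a nonzero element. -/
noncomputable def chi (b : B) (hb : b ≠ 0) : Γ →* ResidueField B where
  toFun γ := residue B (Classical.choose (hst γ b))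
  map_one' := by
    change residue B (Classical.choose (hst 1 b)) = 1
    have h := Classical.choose_spec (hst 1 b)
    generalize Classical.choose (hst 1 b) = c at h ⊢
    rw [one_smul] at h
    have : b * 1 = b * c := by rw [mul_one]; exact h
    rw [← residue_eq_of_mul_eq hb this, map_one]
  map_mul' γ δ := by
    change residue B (Classical.choose (hst (γ * δ) b)) =
      residue B (Classical.choose (hst γ b)) * residue B (Classical.choose (hst δ b))
    have h1 := Classical.choose_spec (hst (γ * δ) b)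
    have h2 := Classical.choose_spec (hst γ b)
    have h3 := Classical.choose_spec (hst δ b)
    generalize Classical.choose (hst (γ * δ) b) = c1 at h1 ⊢
    generalize Classical.choose (hst γ b) = c2 at h2 ⊢
    generalize Classical.choose (hst δ b) = c3 at h3 ⊢
    have h4 : (γ * δ) • b = b * (c2 * γ • c3) := by
      rw [mul_smul, h3, smul_mul', h2, mul_assoc]
    rw [h4] at h1
    rw [← residue_eq_of_mul_eq hb h1, map_mul, residue_smul hin]

theorem chi_eq (b : B) (hb : b ≠ 0) (γ : Γ) (u : B) (h : γ • b = b * u) :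
    chi hin hst b hb γ = residue B u := by
  change residue B (Classical.choose (hst γ b)) = residue B u
  have h1 := Classical.choose_spec (hst γ b)
  generalize Classical.choose (hst γ b) = c at h1 ⊢
  rw [h] at h1
  exact (residue_eq_of_mul_eq hb h1).symm

theorem mem_wildSet_iff (γ : Γ) :
    γ ∈ wildSet B Γ ↔ ∀ (b : B) (hb : b ≠ 0), chi hin hst b hb γ = 1 := by
  constructor
  · intro h b hb
    obtain ⟨x, hx, h1⟩ := h b
    have h2 : γ • b = b * (1 + x) := by rw [h1]; ring
    rw [chi_eq hin hst b hb γ _ h2, map_add, map_one]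
    have : residue B x = 0 := (Ideal.Quotient.eq_zero_iff_mem).mpr hx
    rw [this, add_zero]
  · intro h b
    by_cases hb : b = 0
    · exact ⟨0, zero_mem _, by simp [hb]⟩
    · obtain ⟨u, hu⟩ := hst γ b
      have h1 := h b hb
      rw [chi_eq hin hst b hb γ u hu] at h1
      refine ⟨u - 1, ?_, by rw [hu]; ring⟩
      rw [← Ideal.Quotient.eq_zero_iff_mem]
      change residue B (u - 1) = 0
      rw [map_sub, h1, map_one, sub_self]

include hin hst in
theorem wild_inv {γ : Γ} (hγ : γ ∈ wildSet B Γ) : γ⁻¹ ∈ wildSet B Γ := by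
  rw [mem_wildSet_iff hin hst] at hγ ⊢
  intro b hb
  have h1 := hγ b hb
  have h2 : chi hin hst b hb (γ * γ⁻¹) = 1 := by rw [mul_inv_cancel, map_one]
  rw [map_mul, h1, one_mul] at h2
  exact h2

/-- the wild subgroup. -/
def wild : Subgroup Γ where
  carrier := wildSet B Γ
  mul_mem' := wild_mul hin
  one_mem' := wild_one
  inv_mem' := wild_inv hin hst

theorem mem_wild_iff (γ : Γ) :
    γ ∈ wild hin hst ↔ ∀ (b : B) (hb : b ≠ 0), chi hin hst b hb γ = 1 :=
  mem_wildSet_iff hin hst γ

theorem commutator_mem_wild (γ δ : Γ) : γ * δ * γ⁻¹ * δ⁻¹ ∈ wild hin hst := by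
  rw [mem_wild_iff]
  intro b hb
  rw [map_mul, map_mul, map_mul]
  have h1 : chi hin hst b hb γ * chi hin hst b hb γ⁻¹ = 1 := by
    rw [← map_mul, mul_inv_cancel, map_one]
  have h2 : chi hin hst b hb δ * chi hin hst b hb δ⁻¹ = 1 := by
    rw [← map_mul, mul_inv_cancel, map_one]
  calc chi hin hst b hb γ * chi hin hst b hb δ * chi hin hst b hb γ⁻¹ * chi hin hst b hb δ⁻¹
      = (chi hin hst b hb γ * chi hin hst b hb γ⁻¹) * (chi hin hst b hb δ * chi hin hst b hb δ⁻¹) := by
        ring
    _ = 1 := by rw [h1, h2, mul_one]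

instance wild_normal : (wild hin hst).Normal := by
  refine ⟨fun n hn g => ?_⟩
  rw [mem_wild_iff] at hn ⊢
  intro b hb
  rw [map_mul, map_mul, hn b hb, mul_one, ← map_mul, mul_inv_cancel, map_one]

end chars

section main

variable [Finite Γ] [FaithfulSMul Γ B]
  (hin : ∀ (γ : Γ) (b : B), γ • b - b ∈ maximalIdeal B)
  (hst : ∀ (γ : Γ) (b : B), ∃ u : B, γ • b = b * u)

theorem natCast_notMem_iff (N : ℕ) :
    (N : B) ∉ maximalIdeal B ↔ ¬ ringChar (ResidueField B) ∣ N := by
  rw [← ringChar.spec, ← map_natCast (residue B)]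
  exact not_congr (Ideal.Quotient.eq_zero_iff_mem).symm

include hin in
theorem eq_one_of_wild {γ : Γ} (hγ : γ ∈ wildSet B Γ) (N : ℕ) (hN : γ ^ N = 1)
    (hunit : (N : B) ∉ maximalIdeal B) : γ = 1 := by
  apply eq_of_smul_eq_smul (α := B)
  intro b
  rw [one_smul]
  exact smul_eq_of_wild_of_pow_eq_one hin hγ N hN hunit b

include hin in
theorem wild_eq_bot_of_ringChar_zero (h0 : ringChar (ResidueField B) = 0) :
    wildSet B Γ = {1} := by
  ext γ
  constructor
  · intro hγ
    refine eq_one_of_wild hin hγ (orderOf γ) (pow_orderOf_eq_one γ) ?_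
    rw [natCast_notMem_iff, h0, zero_dvd_iff]
    exact (orderOf_pos γ).ne'
  · rintro rfl
    exact wild_one

include hin in
theorem isPGroup_wild (p : ℕ) [Fact p.Prime] (hp : ringChar (ResidueField B) = p) :
    IsPGroup p (wild hin hst) := by
  rintro ⟨γ, hγ⟩
  obtain ⟨a, N', hN', hord⟩ := Nat.exists_eq_pow_mul_and_not_dvd (orderOf_pos γ).ne' p
    (Fact.out : p.Prime).ne_one
  refine ⟨a, Subtype.ext ?_⟩
  change γ ^ p ^ a = 1
  refine eq_one_of_wild hin (wild_pow hin hγ (p ^ a)) N' ?_ ?_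
  · rw [← pow_mul, ← hord, pow_orderOf_eq_one]
  · rw [natCast_notMem_iff, hp]
    exact hN'

theorem mem_wild_of_pow_mem (p : ℕ) [Fact p.Prime] (hp : ringChar (ResidueField B) = p)
    {γ : Γ} (h : γ ^ p ∈ wild hin hst) : γ ∈ wild hin hst := by
  haveI : CharP (ResidueField B) p := ringChar.of_eq hp
  rw [mem_wild_iff] at h ⊢
  intro b hb
  have h1 := h b hb
  rw [map_pow] at h1
  have h2 : (chi hin hst b hb γ - 1) ^ p = 0 := by
    rw [sub_pow_char, h1, one_pow, sub_self]
  exact sub_eq_zero.mp (pow_eq_zero_iff (Fact.out : p.Prime).ne_zero |>.mp h2)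

theorem not_dvd_index_wild (p : ℕ) [Fact p.Prime] (hp : ringChar (ResidueField B) = p) :
    ¬ p ∣ (wild hin hst).index := by
  intro hdvd
  rw [Subgroup.index_eq_card] at hdvd
  obtain ⟨x, hx⟩ := exists_prime_orderOf_dvd_card' p hdvd
  obtain ⟨γ, rfl⟩ := QuotientGroup.mk_surjective x
  have h1 : (γ : Γ ⧸ wild hin hst) ^ p = 1 := by rw [← hx]; exact pow_orderOf_eq_one _
  rw [← QuotientGroup.mk_pow, QuotientGroup.eq_one_iff] at h1
  have h2 := mem_wild_of_pow_mem hin hst p hp h1
  rw [← QuotientGroup.eq_one_iff] at h2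
  rw [h2, orderOf_one] at hx
  exact (Fact.out : p.Prime).one_lt.ne hx

theorem exists_primitiveRoot (γ : Γ) (n : ℕ) (hn : 0 < n) (hγ : γ ^ n ∈ wild hin hst)
    (hmin : ∀ i : ℕ, 0 < i → i < n → γ ^ i ∉ wild hin hst) :
    ∃ ζ : ResidueField B, IsPrimitiveRoot ζ n := by
  classical
  haveI : NeZero n := ⟨hn.ne'⟩
  let k := ResidueField B
  let χ : ∀ (b : B) (hb : b ≠ 0), Γ →* kˣ := fun b hb => (chi hin hst b hb).toHomUnits
  have hχ : ∀ b hb δ, ((χ b hb δ : kˣ) : k) = chi hin hst b hb δ := fun b hb δ => rfl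
  let H : Subgroup kˣ := Subgroup.closure {z | ∃ (b : B) (hb : b ≠ 0), z = χ b hb γ}
  have hle : H ≤ rootsOfUnity n k := by
    rw [Subgroup.closure_le]
    rintro z ⟨b, hb, rfl⟩
    rw [SetLike.mem_coe, mem_rootsOfUnity, ← map_pow]
    apply Units.ext
    rw [hχ, Units.val_one]
    exact (mem_wild_iff hin hst _).mp hγ b hb
  haveI : Finite H := Finite.of_injective (Subgroup.inclusion hle) (Subgroup.inclusion_injective hle)
  obtain ⟨g, hg⟩ := IsCyclic.exists_generator (α := H)
  let d := orderOf g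
  have hd : 0 < d := orderOf_pos g
  have hgn : g ^ n = 1 := by
    apply Subtype.ext
    have := hle g.2
    rw [mem_rootsOfUnity] at this
    exact this
  have hdn : d ∣ n := orderOf_dvd_of_pow_eq_one hgn
  have hdw : γ ^ d ∈ wild hin hst := by
    rw [mem_wild_iff]
    intro b hb
    have hmem : χ b hb γ ∈ H := Subgroup.subset_closure ⟨b, hb, rfl⟩
    obtain ⟨z, hz⟩ := Subgroup.mem_zpowers_iff.mp (hg ⟨χ b hb γ, hmem⟩)
    have h1 : (⟨χ b hb γ, hmem⟩ : H) ^ d = 1 := by
      rw [← hz, ← zpow_natCast, ← zpow_mul, mul_comm, zpow_mul, zpow_natCast, pow_orderOf_eq_one,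
        one_zpow]
    have h2 : (χ b hb γ) ^ d = 1 := congrArg Subtype.val h1
    rw [map_pow, ← hχ, ← Units.val_pow_eq_pow_val, h2, Units.val_one]
  have hdeq : d = n := by
    rcases Nat.lt_or_ge d n with hlt | hge
    · exact absurd hdw (hmin d hd hlt)
    · exact le_antisymm (Nat.le_of_dvd hn hdn) hge
  refine ⟨((g : kˣ) : k), ?_⟩
  rw [IsPrimitiveRoot.coe_units_iff, ← hdeq]
  have : orderOf (g : kˣ) = d := Subgroup.orderOf_coe g
  rw [← this]
  exact IsPrimitiveRoot.orderOf _

end main

end Groth.Agent.H1.Tame
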