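import Mathlib
import Groth.Agent.H1.FlatWhere
import Groth.Agent.H53.ThickMorTop

set_option autoImplicit false

/-!
# Flatness over a thickening of the base, for algebraic spaces
-/

namespace Groth.Agent.H1.ThickFlatSp

universe u

open CategoryTheory CategoryTheory.Limits AlgebraicGeometry Opposite AlgSp

variable {S : Scheme.{u}}

/-- If `f ≫ g` and `f` are flat (on charts), then `g` is flat at every point in the image of
`f`. -/
theorem isFlatAtMor_map_of_flat_comp {X Y Z : AlgSp.Space S} (f : X ⟶ Y) (g : Y ⟶ Z)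
    (hfg : AlgSp.LocP @Flat (f ≫ g).hom) (hf : AlgSp.LocP @Flat f.hom)
    (x : AlgSp.Points X.obj) : AlgSp.IsFlatAtMor g.hom (AlgSp.Points.map f.hom x) := by
  have hfh : (f ≫ g).hom = f.hom ≫ g.hom := rfl
  obtain ⟨W, c, hcE, hcS⟩ := Z.property.atlas
  obtain ⟨V, b, k, hbE, hbS, ebk⟩ :=
    Groth.Agent.H1.BCChartsOver.exists_chart_over Y.property Z.property g.hom c hcE hcS
  obtain ⟨U, a, h₀, haE, haS, eah⟩ :=
    Groth.Agent.H1.BCChartsOver.exists_chart_over X.property Y.property f.hom b hbE hbS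
  have huv : a ≫ (f ≫ g).hom = (yon S).map (h₀ ≫ k) ≫ c := by
    rw [hfh, ← Category.assoc, eah, Category.assoc, ebk, Functor.map_comp, Category.assoc]
  have h1 : Flat (h₀.left ≫ k.left) := hfg a c (h₀ ≫ k) haE hcE huv
  have h2 : Flat h₀.left := hf a b h₀ haE hbE eah
  obtain ⟨u, rfl⟩ := Groth.Agent.H53.exists_ofPt_eq_of_repWith_surjective a haS x
  rw [Points.map_ofPt, eah, Groth.Agent.H53.ofPt_yon_map_comp,
    Groth.Agent.H1.FlatLocusSp.isFlatAtMor_iff_chart g.hom b c k hbE hcE ebk (h₀.left u)]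
  exact Groth.Agent.H1.FlatPt.flat_stalkMap_of_comp h₀.left k.left u
    (Flat.stalkMap (h₀.left ≫ k.left) u) (Flat.stalkMap h₀.left u)

/-- Flatness of `f'` over a thickening `B'` of `B` can be tested after base change to `B`, when
the source is flat and locally of finite presentation over `B'` and the target is locally of
finite type over `B'`. -/
theorem locP_flat_of_thickening {X X' Y Y' B B' : AlgSp.Space S} (iX : X ⟶ X') (iY : Y ⟶ Y')
    (iB : B ⟶ B') (f : X ⟶ Y) (f' : X' ⟶ Y') (g : Y ⟶ B) (g' : Y' ⟶ B')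
    (hcX : IsPullback iX.hom (f ≫ g).hom (f' ≫ g').hom iB.hom)
    (hcY : IsPullback iY.hom g.hom g'.hom iB.hom)
    (w : iX ≫ f' = f ≫ iY)
    (hB : AlgSp.IsThickMor iB.hom)
    (hg' : AlgSp.LocP @LocallyOfFiniteType g'.hom)
    (hflat : AlgSp.LocP @Flat (f' ≫ g').hom)
    (hfp : AlgSp.LocP @LocallyOfFinitePresentation (f' ≫ g').hom)
    (hf : AlgSp.LocP @Flat f.hom) :
    AlgSp.LocP @Flat f'.hom := by
  have w' : iX.hom ≫ f'.hom = f.hom ≫ iY.hom := congrArg (fun m => m.hom) w
  -- the square over `iY` is cartesian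
  have sqX : IsPullback iX.hom f.hom f'.hom iY.hom := by
    refine IsPullback.of_bot ?_ w' hcY
    exact hcX
  have hbc := Groth.Agent.H1.FlatLocusSp.isFlatAtMor_baseChange f' g' hfp hflat hg' X Y B iB f g
    iX iY hcY sqX
  have hiX : AlgSp.IsThickMor iX.hom := Groth.Agent.H53.isThickMor_of_isPullback hcX.flip hB
  rw [Groth.Agent.H1.FlatWhere.locP_flat_iff_forall_isFlatAtMor]
  intro x'
  obtain ⟨x, rfl⟩ := Groth.Agent.H53.surjective_points_of_isThickMor iX.hom hiX x'
  have hx : x ∈ {x : AlgSp.Points X.obj | AlgSp.IsFlatAtMor f.hom x} :=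
    (Groth.Agent.H1.FlatWhere.locP_flat_iff_forall_isFlatAtMor f.hom).1 hf x
  rw [hbc] at hx
  exact hx

end Groth.Agent.H1.ThickFlatSp
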