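import Mathlib
import Groth.Agent.H53.UnramWhere2
import Groth.Agent.H53.ZMT.SpLemmas
import Groth.Agent.H51.SpEtale
import Groth.Agent.H50.ProperImage
import Groth.Agent.S10614

set_option autoImplicit false

/-!
# The open subspace of the base over which a morphism of algebraic spaces is a closed immersion
-/

namespace Groth.Agent.H1.WhereClosedImm

universe u

open CategoryTheory CategoryTheory.Limits AlgebraicGeometry Opposite AlgSp

variable {S : Scheme.{u}}

/-- If `f ≫ q` is universally closed and `q` is separated, then `X ×_Y X ⟶ Z` is closed. -/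
theorem isClosedMap_snd_comp {X Y Z : Sp S} (hX : IsAlgSpace X) (hZ : IsAlgSpace Z)
    (f : X ⟶ Y) (q : Y ⟶ Z) (huc : IsUnivClosedMor (f ≫ q)) (hq : IsSeparatedMor q) :
    IsClosedMap (Points.map (pullback.snd f f ≫ f ≫ q)) := by
  have sqΔ := pullback_map_diagonal_isPullback f f q
  have hι : RepWith @IsClosedImmersion
      (pullback.map f f (f ≫ q) (f ≫ q) _ _ q (Category.id_comp _).symm
        (Category.id_comp _).symm) :=
    MorphismProperty.of_isPullback (P := RepWith @IsClosedImmersion) sqΔ hq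
  have hι' : IsUnivClosedMor
      (pullback.map f f (f ≫ q) (f ≫ q) _ _ q (Category.id_comp _).symm
        (Category.id_comp _).symm) :=
    Groth.Agent.H49.isUnivClosedMor_of_repWith (Groth.Agent.H49.repWith_of_le (fun _ _ k hk => by
      have : IsClosedImmersion k := hk
      exact (inferInstance : UniversallyClosed k)) hι)
  have sqP : IsPullback (pullback.fst (f ≫ q) (f ≫ q)) (pullback.snd (f ≫ q) (f ≫ q)) (f ≫ q)
      (f ≫ q) := .of_hasPullback _ _
  have hsnd : IsUnivClosedMor (pullback.snd (f ≫ q) (f ≫ q)) :=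
    Groth.Agent.H49.isUnivClosedMor_of_isPullback sqP huc
  have hP : IsAlgSpace (pullback (f ≫ q) (f ≫ q)) :=
    Groth.Agent.H49.isAlgSpace_of_isPullback sqP hZ.diag hX hX
  have h1 : IsUnivClosedMor (pullback.snd (f ≫ q) (f ≫ q) ≫ f ≫ q) :=
    Groth.Agent.H49.isUnivClosedMor_comp hX hZ.diag hsnd huc
  have h2 := Groth.Agent.H49.isUnivClosedMor_comp hP hZ.diag hι' h1
  have e : pullback.map f f (f ≫ q) (f ≫ q) (𝟙 X) (𝟙 X) q (Category.id_comp _).symm
      (Category.id_comp _).symm ≫ pullback.snd (f ≫ q) (f ≫ q) ≫ f ≫ q =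
      pullback.snd f f ≫ f ≫ q := by
    rw [← Category.assoc, pullback.lift_snd, Category.comp_id]
  rw [e] at h2
  exact Groth.Agent.H50.isClosedMap_of_isUnivClosedMor hZ _ h2

/-- The open subspace `W` of `Z` over which `f : X ⟶ Y` (over `Z`) is a closed immersion, when
`X ⟶ Z` is universally closed and locally of finite type and `Y ⟶ Z` is separated. -/
theorem exists_open_where_closedImmersion {X Y Z : AlgSp.Space S} (f : X ⟶ Y) (q : Y ⟶ Z)
    (hlft : AlgSp.LocP @LocallyOfFiniteType (f ≫ q).hom)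
    (huc : AlgSp.IsUnivClosedMor (f ≫ q).hom) (hq : AlgSp.IsSeparatedMor q.hom) :
    ∃ (W : AlgSp.Space S) (w : W ⟶ Z), AlgSp.RepWith @IsOpenImmersion w.hom ∧
      ∀ (Z' : AlgSp.Space S) (g : Z' ⟶ Z),
        (∃ k : Z' ⟶ W, k ≫ w = g) ↔
          ∀ (Y' : AlgSp.Space S) (gY : Y' ⟶ Y) (q' : Y' ⟶ Z'),
            IsPullback gY.hom q'.hom q.hom g.hom →
            ∀ (X' : AlgSp.Space S) (gX : X' ⟶ X) (f' : X' ⟶ Y'),
              IsPullback gX.hom f'.hom f.hom gY.hom →
                AlgSp.RepWith @IsClosedImmersion f'.hom := by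
  have hfq : (f ≫ q).hom = f.hom ≫ q.hom := rfl
  rw [hfq] at hlft huc
  have hlftf : AlgSp.LocP @LocallyOfFiniteType f.hom := by
    refine Groth.Agent.H51.locP_of_comp @LocallyOfFiniteType ?_ Z.property f.hom q.hom hlft
    intro A B C k l hkl
    have : LocallyOfFiniteType (k ≫ l) := hkl
    exact locallyOfFiniteType_of_comp k l
  have hcl := isClosedMap_snd_comp X.property Z.property f.hom q.hom huc hq
  obtain ⟨W, w, hW, hw, H⟩ := Groth.Agent.H53.exists_open_where_unramified_univInjective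
    X.property Y.property Z.property f.hom q.hom hlftf hcl
  refine ⟨⟨W, hW⟩, ObjectProperty.homMk w, hw, fun Z' g => ?_⟩
  constructor
  · rintro ⟨k, hk⟩ Y' gY q' sqY X' gX f' sqX
    obtain ⟨hunr, hinj⟩ := (H Z'.obj Z'.property g.hom).1 ⟨k.hom, by rw [← hk]; rfl⟩ Y'.obj
      Y'.property gY.hom q'.hom sqY X'.obj X'.property gX.hom f'.hom sqX
    have big : IsPullback gX.hom (f'.hom ≫ q'.hom) (f.hom ≫ q.hom) g.hom := sqX.paste_vert sqY
    have huc' : AlgSp.IsUnivClosedMor (f'.hom ≫ q'.hom) :=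
      Groth.Agent.H49.isUnivClosedMor_of_isPullback big huc
    have hq' : AlgSp.IsSeparatedMor q'.hom :=
      Groth.Agent.H53.ZMT.isSeparatedMor_of_isPullback sqY hq
    have hucf' : AlgSp.IsUnivClosedMor f'.hom :=
      Groth.Agent.H50.isUnivClosedMor_of_comp_of_isSeparatedMor X'.property Y'.property
        Z'.property f'.hom q'.hom huc' hq'
    exact (Groth.Agent.S10614.result f').2.1.2 ⟨hucf', hunr, hinj⟩
  · intro H'
    obtain ⟨k, hk⟩ := (H Z'.obj Z'.property g.hom).2
      (fun Y' hY' gY q' sqY X' hX' gX f' sqX => by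
        have hci := H' ⟨Y', hY'⟩ (ObjectProperty.homMk gY) (ObjectProperty.homMk q') sqY ⟨X', hX'⟩
          (ObjectProperty.homMk gX) (ObjectProperty.homMk f') sqX
        have := (Groth.Agent.S10614.result
          (ObjectProperty.homMk f' : (⟨X', hX'⟩ : AlgSp.Space S) ⟶ ⟨Y', hY'⟩)).2.1.1 hci
        exact ⟨this.2.1, this.2.2⟩)
    exact ⟨ObjectProperty.homMk k, ObjectProperty.hom_ext _ hk⟩

end Groth.Agent.H1.WhereClosedImm
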