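import Mathlib
import Groth.Agent.H1.FlatWhereSurj
import Groth.Agent.H1.WhereClosedImm
import Groth.Agent.H53.FlatMono
import Groth.Agent.H53.LocalST
import Groth.Agent.H53.LargestOpenInst
import Groth.Agent.H50.LimOpen
import Groth.Agent.H50.Mor

set_option autoImplicit false

/-!
# The open subspace of the base over which a morphism of algebraic spaces is an isomorphism
-/

namespace Groth.Agent.H1.WhereIso

universe u

open CategoryTheory CategoryTheory.Limits AlgebraicGeometry Opposite AlgSp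

variable {S : Scheme.{u}}

/-- An isomorphism of sheaves is flat on charts. -/
theorem locP_flat_of_isIso {X Y : Sp S} (f : X ⟶ Y) [IsIso f] : LocP @Flat f := by
  intro U V a b h ha hb hc
  have : (RepWith (S := S) @Etale).RespectsIso :=
    MorphismProperty.IsStableUnderBaseChange.respectsIso
  have hb' : RepWith @Etale (b ≫ inv f) := MorphismProperty.RespectsIso.postcomp _ (inv f) b hb
  have hsm : Smooth h.left := Groth.Agent.H53.locP_smooth_id X a (b ≫ inv f) h ha hb' (by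
    rw [Category.comp_id, ← Category.assoc, ← hc, Category.assoc, IsIso.hom_inv_id,
      Category.comp_id])
  infer_instance

/-- An isomorphism of sheaves is surjective on points. -/
theorem isSurjectiveMor_of_isIso {X Y : Sp S} (f : X ⟶ Y) [IsIso f] : IsSurjectiveMor f := by
  intro y
  refine ⟨Points.map (inv f) y, ?_⟩
  rw [← Points.map_comp, IsIso.inv_hom_id, Points.map_id]

/-- A morphism of algebraic spaces is an isomorphism iff it is a closed immersion which is flat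
and surjective. -/
theorem isIso_iff_closedImmersion_flat_surjective {X Y : Sp S} (hY : IsAlgSpace Y) (f : X ⟶ Y) :
    IsIso f ↔ (IsSurjectiveMor f ∧ LocP @Flat f) ∧ RepWith @IsClosedImmersion f := by
  constructor
  · intro hf
    exact ⟨⟨isSurjectiveMor_of_isIso f, locP_flat_of_isIso f⟩,
      MorphismProperty.of_isIso (RepWith @IsClosedImmersion) f⟩
  · rintro ⟨⟨hs, hfl⟩, hci⟩
    have : Mono f := Groth.Agent.H49.mono_of_repWith_mono
      (fun _ _ k hk => by
        have : IsClosedImmersion k := hk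
        exact (inferInstance : Mono k)) f hci
    have hqc : IsQuasiCompactMor f := Groth.Agent.H50.isQuasiCompactMor_of_repWith
      (fun _ _ k hk => by
        have : IsClosedImmersion k := hk
        exact (inferInstance : QuasiCompact k)) f hci
    exact Groth.Agent.H53.isIso_of_mono_of_qc_flat_surjective hY f hqc hfl hs

/-- The open subspace `W` of `Z` over which `f : X ⟶ Y` (over `Z`) is an isomorphism. -/
theorem exists_open_where_iso {X Y Z : AlgSp.Space S} (f : X ⟶ Y) (q : Y ⟶ Z)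
    (hfp : AlgSp.LocP @LocallyOfFinitePresentation (f ≫ q).hom)
    (hfl : AlgSp.LocP @Flat (f ≫ q).hom)
    (huc : AlgSp.IsUnivClosedMor (f ≫ q).hom)
    (hft : AlgSp.LocP @LocallyOfFiniteType q.hom)
    (hclq : AlgSp.IsClosedMor q.hom) (hsep : AlgSp.IsSeparatedMor q.hom) :
    ∃ (W : AlgSp.Space S) (w : W ⟶ Z), AlgSp.RepWith @IsOpenImmersion w.hom ∧
      ∀ (Z' : AlgSp.Space S) (g : Z' ⟶ Z),
        (∃ k : Z' ⟶ W, k ≫ w = g) ↔
          ∀ (Y' : AlgSp.Space S) (gY : Y' ⟶ Y) (q' : Y' ⟶ Z'),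
            IsPullback gY.hom q'.hom q.hom g.hom →
            ∀ (X' : AlgSp.Space S) (gX : X' ⟶ X) (f' : X' ⟶ Y'),
              IsPullback gX.hom f'.hom f.hom gY.hom →
                IsIso f'.hom := by
  have hcl : IsClosedMap (Points.map (f ≫ q).hom) :=
    Groth.Agent.H50.isClosedMap_of_isUnivClosedMor Z.property _ huc
  have hlft : AlgSp.LocP @LocallyOfFiniteType (f ≫ q).hom :=
    Groth.Agent.H53.locP_mono (fun _ _ k hk => by
      have : LocallyOfFinitePresentation k := hk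
      exact (inferInstance : LocallyOfFiniteType k)) _ hfp
  obtain ⟨W₁, w₁, hw₁, H₁⟩ :=
    Groth.Agent.H1.FlatWhere.exists_open_where_surjective_flat f q hfp hfl hft hcl hclq
  obtain ⟨W₂, w₂, hw₂, H₂⟩ :=
    Groth.Agent.H1.WhereClosedImm.exists_open_where_closedImmersion f q hlft huc hsep
  have hO₁ : IsOpen (Set.range (Points.map w₁.hom)) :=
    (Groth.Agent.H50.isOpenMap_points_map_of_isOpenImmersion w₁.hom hw₁).isOpen_range
  have hO₂ : IsOpen (Set.range (Points.map w₂.hom)) :=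
    (Groth.Agent.H50.isOpenMap_points_map_of_isOpenImmersion w₂.hom hw₂).isOpen_range
  obtain ⟨W, w, hW, hw, hr⟩ := Groth.Agent.H51.exists_open_subspace Z.property _ (hO₁.inter hO₂)
  refine ⟨⟨W, hW⟩, ObjectProperty.homMk w, hw, fun Z' g => ?_⟩
  -- factorisation through the three open subspaces
  have hfac : (∃ k : Z' ⟶ (⟨W, hW⟩ : AlgSp.Space S), k ≫ ObjectProperty.homMk w = g) ↔
      (∃ k₁ : Z' ⟶ W₁, k₁ ≫ w₁ = g) ∧ (∃ k₂ : Z' ⟶ W₂, k₂ ≫ w₂ = g) := by
    have e0 : (∃ k : Z' ⟶ (⟨W, hW⟩ : AlgSp.Space S), k ≫ ObjectProperty.homMk w = g) ↔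
        ∃ k₀ : Z'.obj ⟶ W, k₀ ≫ w = g.hom :=
      ⟨fun ⟨k, hk⟩ => ⟨k.hom, by rw [← hk]; rfl⟩,
        fun ⟨k₀, hk₀⟩ => ⟨ObjectProperty.homMk k₀, ObjectProperty.hom_ext _ hk₀⟩⟩
    have e1 : (∃ k₁ : Z' ⟶ W₁, k₁ ≫ w₁ = g) ↔ ∃ k₀ : Z'.obj ⟶ W₁.obj, k₀ ≫ w₁.hom = g.hom :=
      ⟨fun ⟨k, hk⟩ => ⟨k.hom, by rw [← hk]; rfl⟩,
        fun ⟨k₀, hk₀⟩ => ⟨ObjectProperty.homMk k₀, ObjectProperty.hom_ext _ hk₀⟩⟩
    have e2 : (∃ k₂ : Z' ⟶ W₂, k₂ ≫ w₂ = g) ↔ ∃ k₀ : Z'.obj ⟶ W₂.obj, k₀ ≫ w₂.hom = g.hom :=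
      ⟨fun ⟨k, hk⟩ => ⟨k.hom, by rw [← hk]; rfl⟩,
        fun ⟨k₀, hk₀⟩ => ⟨ObjectProperty.homMk k₀, ObjectProperty.hom_ext _ hk₀⟩⟩
    rw [e0, e1, e2, Groth.Agent.H51.exists_factor_iff_of_isOpenImmersion' w hw g.hom,
      Groth.Agent.H51.exists_factor_iff_of_isOpenImmersion' w₁.hom hw₁ g.hom,
      Groth.Agent.H51.exists_factor_iff_of_isOpenImmersion' w₂.hom hw₂ g.hom, hr]
    exact Set.subset_inter_iff
  rw [hfac, H₁ Z' g, H₂ Z' g]
  constructor
  · rintro ⟨h1, h2⟩ Y' gY q' sqY X' gX f' sqX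
    exact (isIso_iff_closedImmersion_flat_surjective Y'.property f'.hom).2
      ⟨h1 Y' gY q' sqY X' gX f' sqX, h2 Y' gY q' sqY X' gX f' sqX⟩
  · intro h
    exact ⟨fun Y' gY q' sqY X' gX f' sqX =>
        ((isIso_iff_closedImmersion_flat_surjective Y'.property f'.hom).1
          (h Y' gY q' sqY X' gX f' sqX)).1,
      fun Y' gY q' sqY X' gX f' sqX =>
        ((isIso_iff_closedImmersion_flat_surjective Y'.property f'.hom).1
          (h Y' gY q' sqY X' gX f' sqX)).2⟩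

end Groth.Agent.H1.WhereIso
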